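import Cfsg.Agent.Lib.Dim3Max.Six.Common

/-!
Three-elements when the field has no primitive ninth root of unity.
-/

set_option autoImplicit false
set_option linter.unusedSectionVars false
set_option linter.dupNamespace false
set_option linter.style.haveILetI false

namespace CfsgLib.Dim3Max.Six

open scoped Matrix MatrixGroups

universe u

variable {F : Type u} [Field F]

namespace Root

variable (r : Root F)

/-- A root of unity of three-power order has cube one. -/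
theorem cube_of_three [Fintype F] (hno : ∀ e : F, e ^ 3 ≠ r.w) : ∀ {a : ℕ} {t : F}, t ^ 3 ^ a = 1 → t ^ 3 = 1
  | 0, t, h => by
    rw [pow_zero, pow_one] at h
    rw [h, one_pow]
  | a + 1, t, h => by
    have h9 : (t ^ 3) ^ 3 = 1 := cube_of_three hno (a := a) (by rw [← pow_mul, ← pow_succ']; exact h)
    obtain ⟨k, hk⟩ := r.exists_pow h9
    rw [pow_eq_pow_mod k (show r.w ^ 3 = 1 by rw [pow_three']; exact r.w_cube)] at hk
    have : k % 3 < 3 := Nat.mod_lt _ (by norm_num)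
    interval_cases k % 3
    · rwa [pow_zero] at hk
    · exact absurd (by rwa [pow_one] at hk) (hno t)
    · refine absurd ?_ (hno (t ^ 2))
      rw [← pow_mul, mul_comm, pow_mul, hk]
      linear_combination r.w * r.w_cube

/-- The group has order twenty-seven. -/
theorem card_grp [Finite F] : Nat.card r.grp = 27 := by
  let φ : Fin 3 × Fin 3 × Fin 3 → r.grp := fun v => ⟨r.om ^ (v.2.2 : ℕ) * (r.x ^ (v.1 : ℕ) * r.y ^ (v.2.1 : ℕ)),
    mul_mem (pow_mem r.om_mem _) (mul_mem (pow_mem r.x_mem _) (pow_mem r.y_mem _))⟩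
  have h3 : orderOf r.om = 3 := by
    haveI : Fact (Nat.Prime 3) := ⟨Nat.prime_three⟩
    refine orderOf_eq_prime (by rw [pow_three']; exact r.om_cube) fun he => ?_
    have := congrArg (fun g : GL (Fin 3) F => (g : Matrix (Fin 3) (Fin 3) F) 0 0) he
    simp [r.om_val] at this
    exact r.w_ne_one this
  have hom : ∀ {a b : Fin 3}, r.om ^ (a : ℕ) = r.om ^ (b : ℕ) → a = b := fun {a b} h =>
    Fin.ext (pow_injOn_Iio_orderOf (by simp [h3, a.2]) (by simp [h3, b.2]) h)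
  have hbij : Function.Bijective φ := by
    constructor
    · rintro ⟨a, b, c⟩ ⟨a', b', c'⟩ he
      have he' : r.om ^ (c : ℕ) * (r.x ^ (a : ℕ) * r.y ^ (b : ℕ)) = r.om ^ (c' : ℕ) * (r.x ^ (a' : ℕ) * r.y ^ (b' : ℕ)) :=
        congrArg Subtype.val he
      have hy : ∀ a b c : ℕ, r.y * (r.om ^ c * (r.x ^ a * r.y ^ b)) * r.y⁻¹ = r.om ^ a * (r.om ^ c * (r.x ^ a * r.y ^ b)) := by
        intro a b c
        have h := r.y_x_pow a 1
        rw [pow_one, mul_one] at h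
        calc r.y * (r.om ^ c * (r.x ^ a * r.y ^ b)) * r.y⁻¹ = r.y * r.om ^ c * (r.x ^ a * r.y ^ b) * r.y⁻¹ := by group
          _ = r.om ^ c * (r.y * r.x ^ a) * r.y ^ b * r.y⁻¹ := by rw [← r.om_pow_comm c r.y]; group
          _ = r.om ^ c * r.om ^ a * (r.x ^ a * r.y ^ b) := by rw [h]; group
          _ = _ := by rw [← pow_add, add_comm, pow_add, mul_assoc]
      have hx : ∀ a b c : ℕ, r.x⁻¹ * (r.om ^ c * (r.x ^ a * r.y ^ b)) * r.x = r.om ^ b * (r.om ^ c * (r.x ^ a * r.y ^ b)) := by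
        intro a b c
        have h := r.y_x_pow 1 b
        rw [pow_one, one_mul] at h
        calc r.x⁻¹ * (r.om ^ c * (r.x ^ a * r.y ^ b)) * r.x = r.x⁻¹ * r.om ^ c * r.x ^ a * (r.y ^ b * r.x) := by group
          _ = r.om ^ c * (r.x⁻¹ * r.x ^ a * r.om ^ b) * (r.x * r.y ^ b) := by rw [h, ← r.om_pow_comm c r.x⁻¹]; group
          _ = r.om ^ c * r.om ^ b * (r.x⁻¹ * r.x ^ a * (r.x * r.y ^ b)) := by rw [← r.om_pow_comm b]; group
          _ = r.om ^ b * r.om ^ c * (r.x ^ a * r.y ^ b) := by rw [← pow_add, add_comm, pow_add]; group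
          _ = _ := by rw [mul_assoc]
      obtain rfl : a = a' := hom (mul_right_cancel (by rw [← hy, he', hy]))
      obtain rfl : b = b' := hom (mul_right_cancel (by rw [← hx, he', hx]))
      obtain rfl : c = c' := hom (mul_right_cancel he')
      rfl
    · rintro ⟨v, hv⟩
      obtain ⟨a, b, c, rfl⟩ := r.mem_grp hv
      refine ⟨(⟨a % 3, Nat.mod_lt _ (by norm_num)⟩, ⟨b % 3, Nat.mod_lt _ (by norm_num)⟩, ⟨c % 3, Nat.mod_lt _ (by norm_num)⟩), Subtype.ext ?_⟩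
      show r.om ^ (c % 3) * (r.x ^ (a % 3) * r.y ^ (b % 3)) = _
      rw [← r.x_pow_mod, ← r.y_pow_mod, ← pow_eq_pow_mod c (by rw [pow_three']; exact r.om_cube)]
  rw [← Nat.card_eq_of_bijective φ hbij]
  simp

end Root

variable [Fintype F] {r : Root F} {p : ℕ} {M : Subgroup (GL (Fin 3) F)}

/-- A diagonal three-element lies in the group. -/
theorem Six.diag_three (h : Six r p M) (hno : ∀ e : F, e ^ 3 ≠ r.w) {d : GL (Fin 3) F} (hd : d ∈ M)
    (hx : d * r.x = r.x * d) {a : ℕ} (hda : d ^ 3 ^ a = 1) : d ∈ r.grp := by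
  obtain ⟨t, ht⟩ : ∃ t, (fun i => (d : Matrix (Fin 3) (Fin 3) F) i i) = t := ⟨_, rfl⟩
  have hdd := r.diag_of_comm hx
  rw [ht] at hdd
  have hdet : t 0 * t 1 * t 2 = 1 := by
    have : (d : Matrix (Fin 3) (Fin 3) F).det = 1 := congrArg Units.val (h.le hd)
    rwa [hdd, Matrix.det_diagonal, Fin.prod_univ_three] at this
  have hp : ∀ i, t i ^ 3 ^ a = 1 := by
    intro i
    have := congrArg (fun g : GL (Fin 3) F => (g : Matrix (Fin 3) (Fin 3) F) i i) hda
    rw [Units.val_pow_eq_pow_val, hdd, Matrix.diagonal_pow] at this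
    simpa using this
  obtain ⟨a', c, hac⟩ := diag_cube_eq r (t := t) (fun i => r.cube_of_three hno (hp i)) hdet
  rw [Units.ext (hdd.trans hac)]
  exact mul_mem (pow_mem r.om_mem _) (pow_mem r.x_mem _)

/-- The group is a maximal three-subgroup. -/
theorem Six.three_le (h : Six r p M) (hno : ∀ e : F, e ^ 3 ≠ r.w) {P : Subgroup (GL (Fin 3) F)} (hle : P ≤ M)
    (hP : IsPGroup 3 P) (hgrp : r.grp ≤ P) : P ≤ r.grp := by
  obtain ⟨m, hm, hmN, hv⟩ := h.three_centre hle hP hgrp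
  have hN := Subgroup.mem_normalizer_iff.1 (show m ∈ Subgroup.normalizer (r.grp : Set (GL (Fin 3) F)) from hmN)
  intro v hvP
  obtain ⟨k, hk⟩ := hv v hvP
  have hc := r.mod_cent hk
  obtain ⟨d, hd⟩ : ∃ d, (r.y ^ k)⁻¹ * (m⁻¹ * v * m) = d := ⟨_, rfl⟩
  rw [hd] at hc
  have hyk : m * r.y ^ k * m⁻¹ ∈ r.grp := (hN _).1 (pow_mem r.y_mem k)
  have hdP : m * d * m⁻¹ ∈ P := by
    rw [← hd, show m * ((r.y ^ k)⁻¹ * (m⁻¹ * v * m)) * m⁻¹ = (m * r.y ^ k * m⁻¹)⁻¹ * v by group]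
    exact mul_mem (inv_mem (hgrp hyk)) hvP
  obtain ⟨a, ha⟩ := hP ⟨_, hdP⟩
  have ha' : d ^ 3 ^ a = 1 := by
    have := congrArg Subtype.val ha
    simp only [SubmonoidClass.coe_pow, OneMemClass.coe_one, conj_pow] at this
    exact conj_eq_one_iff.1 this
  have hdM : d ∈ M := hd ▸ mul_mem (inv_mem (pow_mem h.y_mem k)) (mul_mem (mul_mem (inv_mem hm) (hle hvP)) hm)
  have hdg := (hN d).1 (h.diag_three hno hdM hc ha')
  rw [show v = (m * r.y ^ k * m⁻¹) * (m * d * m⁻¹) by rw [← hd]; group]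
  exact mul_mem hyk hdg

/-- The group is a Sylow subgroup. -/
theorem Six.sylow_three (h : Six r p M) (hno : ∀ e : F, e ^ 3 ≠ r.w) :
    ∃ P : Sylow 3 M, ∀ v : M, v ∈ (P : Subgroup M) ↔ (v : GL (Fin 3) F) ∈ r.grp := by
  haveI : Fact (Nat.Prime 3) := ⟨Nat.prime_three⟩
  have hpg : IsPGroup 3 (r.grp.subgroupOf M) := IsPGroup.of_card (n := 3) (by
    rw [Nat.card_congr (Subgroup.subgroupOfEquivOfLe h.grp_le).toEquiv, r.card_grp]; norm_num)
  obtain ⟨P, hP⟩ := hpg.exists_le_sylow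
  refine ⟨P, fun v => ⟨fun hv => ?_, fun hv => hP hv⟩⟩
  refine h.three_le hno (P := (P : Subgroup M).map M.subtype) (Subgroup.map_subtype_le _) (P.isPGroup'.map _)
    (fun w hw => ⟨⟨w, h.grp_le hw⟩, hP hw, rfl⟩) ⟨v, hv, rfl⟩

/-- Every three-element is a scalar or a conjugate of the diagonal generator. -/
theorem Six.three_elt (h : Six r p M) (hno : ∀ e : F, e ^ 3 ≠ r.w) {v : M} {a : ℕ} (hv : v ^ 3 ^ a = 1) :
    (∃ k : ℕ, (v : GL (Fin 3) F) = r.om ^ k) ∨ ∃ m : M, m * ⟨r.x, h.x_mem⟩ * m⁻¹ = v := by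
  haveI : Fact (Nat.Prime 3) := ⟨Nat.prime_three⟩
  obtain ⟨b, -, hb⟩ := (Nat.dvd_prime_pow Nat.prime_three).1 (orderOf_dvd_of_pow_eq_one hv)
  obtain ⟨Q, hQ⟩ := (IsPGroup.of_card (p := 3) (n := b) (G := Subgroup.zpowers v)
    (by rw [Nat.card_zpowers, hb])).exists_le_sylow
  obtain ⟨P, hP⟩ := h.sylow_three hno
  obtain ⟨g, hg⟩ := MulAction.exists_smul_eq M Q P
  have hmem : g * v * g⁻¹ ∈ (P : Subgroup M) := by
    rw [← hg, Sylow.coe_subgroup_smul]
    exact ⟨v, hQ (Subgroup.mem_zpowers v), rfl⟩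
  rcases h.conj_to_x ((hP _).1 hmem) with ⟨k, hk⟩ | ⟨m, hm, -, hmx⟩
  · left
    refine ⟨k, ?_⟩
    calc (v : GL (Fin 3) F) = (g : GL (Fin 3) F)⁻¹ * ((g * v * g⁻¹ : M) : GL (Fin 3) F) * g := by
          simp [mul_assoc]
      _ = r.om ^ k := by rw [hk, mul_assoc, r.om_pow_comm, inv_mul_cancel_left]
  · right
    refine ⟨g⁻¹ * ⟨m, hm⟩, Subtype.ext ?_⟩
    show (g : GL (Fin 3) F)⁻¹ * m * r.x * ((g : GL (Fin 3) F)⁻¹ * m)⁻¹ = v
    calc _ = (g : GL (Fin 3) F)⁻¹ * (m * r.x * m⁻¹) * g := by group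
      _ = v := by rw [hmx]; simp [mul_assoc]

/-- The image on the axis has order prime to three. -/
theorem Six.not_three_dvd_img (h : Six r p M) (hno : ∀ e : F, e ^ 3 ≠ r.w) : ¬ 3 ∣ Nat.card (Img r M) := by
  haveI : Fact (Nat.Prime 3) := ⟨Nat.prime_three⟩
  intro hd
  haveI : Finite (Img r M) := Finite.of_surjective _ pj_surj
  obtain ⟨g, hg⟩ := exists_prime_orderOf_dvd_card' 3 hd
  obtain ⟨c, rfl⟩ := pj_surj g
  have hgo : 3 ∣ orderOf c := by
    have := orderOf_map_dvd (pj r M) c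
    rwa [hg] at this
  obtain ⟨a, m, hm, hn⟩ := Nat.exists_eq_pow_mul_and_not_dvd (orderOf_pos c).ne' 3 (by norm_num)
  have hne : pj r M (c ^ m) ≠ 1 := by
    rw [map_pow]
    intro he
    exact hm (hg ▸ orderOf_dvd_of_pow_eq_one he)
  have hpow : (c ^ m) ^ 3 ^ a = 1 := by
    rw [← pow_mul, mul_comm, ← hn, pow_orderOf_eq_one]
  rcases h.three_elt hno (v := ((c ^ m : CJ r M) : M)) (a := a)
      (by rw [← SubmonoidClass.coe_pow, hpow, OneMemClass.coe_one]) with ⟨k, hk⟩ | ⟨g', hg'⟩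
  · refine hne ?_
    rw [show c ^ m = h.oc ^ k from cj_ext (by simpa [Six.oc] using hk)]
    exact h.pj_oc_pow k
  · have hj : (g' : GL (Fin 3) F)⁻¹ * r.j * g' * r.x = r.x * ((g' : GL (Fin 3) F)⁻¹ * r.j * g') := by
      have e : (g' : GL (Fin 3) F) * r.x * (g' : GL (Fin 3) F)⁻¹ = (((c ^ m : CJ r M) : M) : GL (Fin 3) F) :=
        congrArg Subtype.val hg'
      have hcj := mem_CJ.1 (c ^ m).2
      rw [← e] at hcj
      calc _ = (g' : GL (Fin 3) F)⁻¹ * (r.j * ((g' : GL (Fin 3) F) * r.x * (g' : GL (Fin 3) F)⁻¹)) * g' := by group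
        _ = (g' : GL (Fin 3) F)⁻¹ * ((g' : GL (Fin 3) F) * r.x * (g' : GL (Fin 3) F)⁻¹ * r.j) * g' := by rw [hcj]
        _ = _ := by group
    have := h.no_invol_x (mul_mem (mul_mem (inv_mem g'.2) h.j_mem) g'.2) (by
      calc _ = (g' : GL (Fin 3) F)⁻¹ * (r.j * r.j) * g' := by group
        _ = 1 := by rw [r.j_sq, mul_one, inv_mul_cancel]) hj
    refine r.j_ne_scalar 1 ?_
    have hj1 : r.j = 1 := by
      calc r.j = (g' : GL (Fin 3) F) * ((g' : GL (Fin 3) F)⁻¹ * r.j * g') * (g' : GL (Fin 3) F)⁻¹ := by group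
        _ = 1 := by rw [this, mul_one, mul_inv_cancel]
    rw [hj1, Units.val_one, one_smul]

end CfsgLib.Dim3Max.Six
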