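import Cfsg.Agent.Lib.Dim3Max.Six.A1Three

/-!
The dihedral image of the centraliser of the involution.
-/

set_option autoImplicit false
set_option linter.unusedSectionVars false
set_option linter.dupNamespace false
set_option linter.style.haveILetI false

namespace CfsgLib.Dim3Max.Six

open scoped Matrix MatrixGroups
open Root (low)

universe u

variable {F : Type u} [Field F] [Fintype F] {r : Root F} {p : ℕ} {M : Subgroup (GL (Fin 3) F)}

/-- A further involution. -/
def Six.IsInv (h : Six r p M) (u : CJ r M) : Prop := u * u = 1 ∧ u ≠ 1 ∧ u ≠ h.jc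

/-- The elements with a power that is a further involution. -/
def Six.bad (h : Six r p M) : Set (CJ r M) := {c | ∃ m : ℕ, h.IsInv (c ^ m)}

theorem dl_ker (h : Six r p M) {c : CJ r M} (hc : pj r M c = 1) : (dl r M c : F) ^ 3 = 1 := by
  obtain ⟨h1, h2, -, -⟩ := dl_pow_val h
  have hw : ∀ k : ℕ, (r.w ^ k) ^ 3 = 1 := fun k => by
    rw [← pow_mul, mul_comm, pow_mul, pow_three', r.w_cube, one_pow]
  obtain ⟨k, rfl | rfl⟩ := h.pj_ker hc
  · rw [map_pow, Units.val_pow_eq_pow_val, h2, hw]
  · rw [map_mul, map_pow, Units.val_mul, Units.val_pow_eq_pow_val, h1, h2, mul_one, hw]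

/-- An element acting on the axis with scalar square. -/
theorem pj_one_of_sq (h : Six r p M) {c : CJ r M} {b : F}
    (hsq : (lh r M c : Matrix (Fin 2) (Fin 2) F) * lh r M c = b • (1 : Matrix (Fin 2) (Fin 2) F))
    (hne : b * (dl r M c : F) + 1 ≠ 0) : pj r M c = 1 := by
  have hd := dl_mul_det h c
  rw [← lh_val] at hd
  set L := (lh r M c : Matrix (Fin 2) (Fin 2) F)
  have e := low_ch L
  rw [hsq] at e
  have hT : L.trace • L = (b + L.det) • (1 : Matrix (Fin 2) (Fin 2) F) := by
    rw [add_smul, e, sub_add_cancel]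
  have hb : b + L.det ≠ 0 := fun h0 => hne (by linear_combination (dl r M c : F) * h0 - hd)
  have ht : L.trace ≠ 0 := by
    intro h0
    rw [h0, zero_smul] at hT
    have := congrFun (congrFun hT 0) 0
    simp at this
    exact hb this.symm
  refine pj_eq_one.2 ⟨L.trace⁻¹ * (b + L.det), ?_⟩
  rw [← smul_smul, ← hT, smul_smul, inv_mul_cancel₀ ht, one_smul]

theorem lh_jc (h : Six r p M) : (lh r M h.jc : Matrix (Fin 2) (Fin 2) F) = (-1 : F) • (1 : Matrix (Fin 2) (Fin 2) F) := by
  rw [lh_val]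
  show low (Root.inFrame r.ej r.j) = _
  rw [r.frame_j]
  ext i j
  fin_cases i <;> fin_cases j <;> simp [low]

theorem Six.pj_inv_ne (h : Six r p M) {u : CJ r M} (hu : h.IsInv u) : pj r M u ≠ 1 := by
  intro h0
  obtain ⟨k, hk | hk⟩ := h.pj_ker h0 <;> obtain ⟨h2, h1, hj⟩ := hu
  · have he : r.om ^ k * r.om ^ k = 1 := by
      have := congrArg (fun c : CJ r M => ((c : M) : GL (Fin 3) F)) h2
      simpa [hk, Six.oc] using this
    exact h1 (hk.trans (cj_ext (by simpa [Six.oc] using r.om_sq_one he)))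
  · have he : r.om ^ k * r.om ^ k = 1 := by
      have := congrArg (fun c : CJ r M => ((c : M) : GL (Fin 3) F)) h2
      simpa [hk, Six.oc, Six.jc, r.om_mul_mul, r.j_sq] using this
    exact hj (hk.trans (cj_ext (by simp [Six.oc, Six.jc, r.om_sq_one he])))

set_option maxHeartbeats 800000 in
/-- The structure of the centraliser when the field has no ninth root of unity. -/
theorem Six.dih (h : Six r p M) (hno : ∀ e : F, e ^ 3 ≠ r.w) :
    ∃ n : ℕ, 0 < n ∧ 2 ∣ n ∧ ¬ 3 ∣ n ∧ Nat.card (CJ r M) = 12 * n ∧ (∀ c : CJ r M, (dl r M c : F) ^ 6 = 1) ∧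
      ((∀ u, ¬ h.IsInv u) ∨ (4 ∣ n ∧ Nat.card h.bad = 3 * n ∧
        (∀ u u', h.IsInv u → h.IsInv u' → ∃ g, g * u * g⁻¹ = u') ∧
        ∃ Q : Subgroup (CJ r M), Q.index = 2 ∧ h.jc ∈ Q ∧ ∀ u, h.IsInv u → u ∉ Q)) := by
  classical
  haveI : Finite (Img r M) := Finite.of_surjective _ pj_surj
  obtain ⟨k1, k2, k3, k4, k5, k6⟩ := h.pj_klein
  obtain ⟨rt, hev, hcard, h3, hall⟩ := h.facts.dih _ _ k1 k2 k3 k4 k5 k6 (h.not_three_dvd_img hno)
  set n := orderOf rt with hn
  have hn0 : 0 < n := orderOf_pos rt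
  have hCJ : Nat.card (CJ r M) = 12 * n := by rw [h.card_CJ, hcard]; ring
  refine ⟨n, hn0, hev, h3, hCJ, ?_⟩
  set Rb := Subgroup.zpowers rt with hRb
  have hRb2 : Rb.index = 2 := by
    have := Subgroup.card_mul_index Rb
    rw [hcard, hRb, Nat.card_zpowers, ← hn] at this
    exact Nat.eq_of_mul_eq_mul_left hn0 (by rw [hRb]; linarith)
  have half : ∀ g ∈ Rb, g * g = 1 → g ≠ 1 → g = rt ^ (n / 2) := by
    intro g hg h2 h1
    rw [hRb, IsOfFinOrder.mem_zpowers_iff_mem_range_orderOf (isOfFinOrder_of_finite rt)] at hg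
    simp only [Finset.mem_image, Finset.mem_range] at hg
    obtain ⟨i, hi, rfl⟩ := hg
    rw [← pow_add] at h2
    obtain ⟨q, hq⟩ := orderOf_dvd_of_pow_eq_one h2
    rw [← hn] at hq hi
    have hq2 : q < 2 := by
      by_contra hq2
      have : n * 2 ≤ n * q := Nat.mul_le_mul_left n (by omega)
      omega
    interval_cases q
    · exact absurd (by rw [show i = 0 by omega, pow_zero]) h1
    · rw [show n / 2 = i by omega]
  have inv_of : ∀ g, g ∉ Rb → g * g = 1 ∧ g * rt * g⁻¹ = rt⁻¹ := fun g hg => (hall g).resolve_left hg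
  obtain ⟨c0, hc0⟩ := pj_surj rt
  -- a quarter turn in the rotations and one outside
  obtain ⟨q0, hq0s, hq0R⟩ : ∃ q : CJ r M, q * q = h.jc ∧ pj r M q = rt ^ (n / 2) := by
    by_cases hf : pj r M h.fc ∈ Rb
    · exact ⟨_, h.fc_sq, half _ hf k1 k2⟩
    by_cases hg : pj r M h.gc ∈ Rb
    · exact ⟨_, h.gc_sq, half _ hg k3 k4⟩
    refine ⟨_, h.fgc_sq, ?_⟩
    rw [map_mul]
    refine half _ ((Subgroup.mul_mem_iff_of_index_two hRb2).2 (by tauto)) ?_ ?_
    · calc pj r M h.fc * pj r M h.gc * (pj r M h.fc * pj r M h.gc)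
          = pj r M h.fc * (pj r M h.gc * pj r M h.fc) * pj r M h.gc := by group
        _ = pj r M h.fc * pj r M h.fc * (pj r M h.gc * pj r M h.gc) := by rw [← k6]; group
        _ = 1 := by rw [k1, k3, mul_one]
    · intro h0
      refine k5 ?_
      rw [mul_eq_one_iff_eq_inv] at h0
      rw [h0, inv_eq_of_mul_eq_one_right k3]
  obtain ⟨q1, hq1R, hq1d⟩ : ∃ q : CJ r M, pj r M q ∉ Rb ∧ (dl r M q : F) = 1 := by
    by_contra hcon
    push Not at hcon
    have hf := hcon h.fc
    have hg := hcon h.gc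
    have hfR : pj r M h.fc ∈ Rb := by
      by_contra hh; exact hf hh (dl_pow_val h).2.2.1
    have hgR : pj r M h.gc ∈ Rb := by
      by_contra hh; exact hg hh (dl_pow_val h).2.2.2
    exact k5 ((half _ hfR k1 k2).trans (half _ hgR k3 k4).symm)
  -- the eigenvalue at the centre
  have hd6 : ∀ c : CJ r M, (dl r M c : F) ^ 6 = 1 := by
    intro c
    by_cases hc : pj r M c ∈ Rb
    · have hk : pj r M (q1 * c * q1⁻¹ * c) = 1 := by
        obtain ⟨i, hi⟩ := hc
        have hi' : rt ^ i = pj r M c := hi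
        rw [map_mul, map_mul, map_mul, map_inv, ← hi', ← conj_zpow, (inv_of _ hq1R).2, inv_zpow, inv_mul_cancel]
      have := dl_ker h hk
      simp only [map_mul, map_inv, Units.val_mul, Units.val_inv_eq_inv_val, hq1d, inv_one, one_mul, mul_one] at this
      linear_combination this
    · have hk : pj r M (c * c) = 1 := by rw [map_mul]; exact (inv_of _ hc).1
      have := dl_ker h hk
      rw [map_mul, Units.val_mul] at this
      linear_combination this
  refine ⟨hd6, ?_⟩
  let χ : CJ r M →* Fˣ := (powMonoidHom 3).comp (dl r M)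
  have hχ : ∀ c, (χ c : F) = (dl r M c : F) ^ 3 := fun c => by simp [χ]
  have hχ2 : ∀ c, χ c = 1 ∨ χ c = -1 := by
    intro c
    have : (χ c : F) * χ c = 1 := by rw [hχ]; linear_combination hd6 c
    rcases mul_self_eq_one_iff.1 this with e | e
    · exact .inl (Units.ext (by simp [e]))
    · exact .inr (Units.ext (by simp [e]))
  have hne : (1 : Fˣ) ≠ -1 := fun e => r.h2 (by
    have := congrArg Units.val e
    simp at this
    linear_combination this)
  have hχk : ∀ c, pj r M c = 1 → χ c = 1 := fun c hc => Units.ext (by rw [hχ, dl_ker h hc, Units.val_one])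
  have hχq1 : χ q1 = 1 := Units.ext (by rw [hχ, hq1d, one_pow, Units.val_one])
  have hχq0 : χ q0 = 1 := by
    rcases hχ2 q0 with e | e
    · exact e
    exfalso
    have hpj : pj r M q0 ≠ 1 := by
      rw [hq0R]
      intro h0
      have := orderOf_dvd_of_pow_eq_one h0
      rw [← hn] at this
      obtain ⟨a, ha⟩ := hev
      rw [ha, Nat.mul_div_cancel_left _ (by norm_num : 0 < 2)] at this
      have := Nat.le_of_dvd (by omega) this
      omega
    refine hpj (pj_one_of_sq h (b := -1) (by rw [← Units.val_mul, ← map_mul, hq0s]; exact lh_jc h) ?_)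
    intro h0
    have h1 : (dl r M q0 : F) = 1 := by linear_combination -h0
    exact hne (by rw [← e]; exact Units.ext (by rw [hχ, h1, one_pow, Units.val_one]))
  -- further involutions are reflections where the character is minus one
  have hinv : ∀ u, h.IsInv u → pj r M u ∉ Rb ∧ χ u = -1 := by
    intro u hu
    have hp1 := h.pj_inv_ne hu
    obtain ⟨h2, -, -⟩ := hu
    refine ⟨fun hR => h.pj_ne h2 hq0s ?_, ?_⟩
    · rw [hq0R]; exact half _ hR (by rw [← map_mul, h2, map_one]) hp1
    · refine (hχ2 u).resolve_left fun e => hp1 (pj_one_of_sq h (b := 1) ?_ ?_)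
      · rw [← Units.val_mul, ← map_mul, h2, map_one, Units.val_one, one_smul]
      · have h22 : (dl r M u : F) * dl r M u = 1 := by rw [← Units.val_mul, ← map_mul, h2, map_one, Units.val_one]
        have h33 : (dl r M u : F) ^ 3 = 1 := by rw [← hχ, e, Units.val_one]
        intro h0
        refine r.h2 ?_
        have : (dl r M u : F) = -1 := by linear_combination h0
        rw [this] at h33
        linear_combination -h33
  have hbad : ∀ c, c ∈ h.bad ↔ pj r M c ∉ Rb ∧ χ c = -1 := by
    intro c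
    constructor
    · rintro ⟨m, hu⟩
      obtain ⟨hR, hχu⟩ := hinv _ hu
      rcases (h.cj_invol hu.1 hu.2.1 hu.2.2).1 c ((Commute.self_pow c m).eq) with e | e
      · exact absurd (by rw [map_pow, e, one_pow]) (h.pj_inv_ne hu)
      · refine ⟨e ▸ hR, (hχ2 c).resolve_left fun e1 => hne ?_⟩
        rw [map_pow, e1, one_pow] at hχu
        exact hχu
    · rintro ⟨hR, hχc⟩
      have hc2 : pj r M (c * c) = 1 := by rw [map_mul]; exact (inv_of _ hR).1
      have hpu : pj r M (c ^ 3) = pj r M c := by rw [map_pow, pow_three', (inv_of _ hR).1, one_mul]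
      have hp1 : pj r M c ≠ 1 := fun e => hR (e ▸ one_mem Rb)
      have ho : ∀ k : ℕ, (h.oc ^ k) ^ 3 = 1 := fun k => by
        have e3 := pow_orderOf_eq_one h.oc
        rw [h.orderOf_oc] at e3
        rw [← pow_mul, mul_comm, pow_mul, e3, one_pow]
      refine ⟨3, ?_, fun e => hp1 (by rw [← hpu, e, map_one]), fun e => hp1 (by rw [← hpu, e, h.pj_jc])⟩
      rw [show c ^ 3 * c ^ 3 = (c * c) ^ 3 by rw [← pow_two, ← pow_two, ← pow_mul, ← pow_mul]]
      obtain ⟨k, hk | hk⟩ := h.pj_ker hc2 <;> rw [hk]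
      · exact ho k
      · exfalso
        refine hp1 (hpu ▸ pj_one_of_sq h (c := c ^ 3) (b := -1) ?_ ?_)
        · rw [← Units.val_mul, ← map_mul, show c ^ 3 * c ^ 3 = (c * c) ^ 3 by
            rw [← pow_two, ← pow_two, ← pow_mul, ← pow_mul], hk,
            (show Commute (h.oc ^ k) h.jc from (show Commute h.oc h.jc from h.oc_comm _).pow_left k).mul_pow,
            ho, one_mul, pow_three', h.jc_sq, one_mul]
          exact lh_jc h
        · rw [map_pow, Units.val_pow_eq_pow_val, ← hχ, hχc]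
          simp
          intro h0
          exact r.h2 (by linear_combination h0)
  by_cases hex : ∀ u, ¬ h.IsInv u
  · exact .inl hex
  right
  push Not at hex
  obtain ⟨u, hu⟩ := hex
  obtain ⟨huR, hχu⟩ := hinv u hu
  -- parity
  have hrot : ∀ c, pj r M c ∈ Rb → ∃ i : ℕ, χ c = χ c0 ^ i ∧ pj r M c = rt ^ i := by
    intro c hc
    obtain ⟨i, hi⟩ := mem_powers_iff_mem_zpowers.2 hc
    have hi' : rt ^ i = pj r M c := hi
    refine ⟨i, ?_, hi'.symm⟩
    have := hχk ((c0 ^ i)⁻¹ * c) (by rw [map_mul, map_inv, map_pow, hc0, hi', inv_mul_cancel])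
    rwa [map_mul, map_inv, map_pow, inv_mul_eq_one, eq_comm] at this
  have hc0χ : χ c0 = -1 := by
    obtain ⟨i, hi, -⟩ := hrot (u * q1) (by
      rw [map_mul]; exact (Subgroup.mul_mem_iff_of_index_two hRb2).2 (iff_of_false huR hq1R))
    refine (hχ2 c0).resolve_left fun e => hne ?_
    rw [map_mul, hχu, hχq1, mul_one, e, one_pow] at hi
    exact hi.symm
  have h4 : 4 ∣ n := by
    have := hχk ((c0 ^ (n / 2))⁻¹ * q0) (by rw [map_mul, map_inv, map_pow, hc0, hq0R, inv_mul_cancel])
    rw [map_mul, map_inv, map_pow, hc0χ, hχq0, mul_one, inv_eq_one] at this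
    obtain ⟨a, ha⟩ := hev
    rw [ha, Nat.mul_div_cancel_left _ (by norm_num : 0 < 2)] at this
    rcases Nat.even_or_odd a with ⟨b, rfl⟩ | hodd
    · exact ⟨b, by omega⟩
    · rw [hodd.neg_one_pow] at this
      exact absurd this.symm hne
  refine ⟨h4, ?_, ?_, χ.ker, ?_, hχk _ h.pj_jc, fun v hv e => hne ?_⟩
  · -- the bad elements form a coset
    set R := Rb.comap (pj r M) with hRdef
    have hR6 : Nat.card R = 6 * n := by
      have := Subgroup.card_mul_index R
      rw [hRdef, Subgroup.index_comap_of_surjective _ pj_surj, hRb2, hCJ] at this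
      rw [hRdef]; omega
    let ψ : R →* Fˣ := χ.comp R.subtype
    have hrange : (ψ.range : Set Fˣ) = {1, -1} := by
      ext z
      constructor
      · rintro ⟨c, rfl⟩
        exact hχ2 _
      · rintro (rfl | rfl)
        · exact one_mem _
        · exact ⟨⟨c0, show pj r M c0 ∈ Rb from hc0 ▸ Subgroup.mem_zpowers rt⟩, hc0χ⟩
    have hK : Nat.card ψ.ker = 3 * n := by
      have := Subgroup.index_mul_card ψ.ker
      rw [Subgroup.index_ker, hR6] at this
      have h2 : Nat.card ψ.range = 2 := by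
        rw [← SetLike.coe_sort_coe, Nat.card_coe_set_eq, hrange, Set.ncard_pair hne]
      rw [h2] at this
      omega
    rw [← hK]
    refine Nat.card_congr
      { toFun := fun c => ⟨⟨u⁻¹ * c.1, ?_⟩, ?_⟩
        invFun := fun c => ⟨u * c.1.1, ?_⟩
        left_inv := fun c => Subtype.ext (mul_inv_cancel_left u c.1)
        right_inv := fun c => Subtype.ext (Subtype.ext (inv_mul_cancel_left u c.1.1)) }
    · show pj r M (u⁻¹ * c.1) ∈ Rb
      rw [map_mul]
      exact (Subgroup.mul_mem_iff_of_index_two hRb2).2 (iff_of_false (by rwa [map_inv, inv_mem_iff]) ((hbad _).1 c.2).1)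
    · show χ (u⁻¹ * c.1) = 1
      rw [map_mul, map_inv, hχu, ((hbad _).1 c.2).2, inv_mul_cancel]
    · refine (hbad _).2 ⟨fun hh => huR ?_, ?_⟩
      · rw [map_mul] at hh
        exact ((Subgroup.mul_mem_iff_of_index_two hRb2).1 hh).2 c.1.2
      · rw [map_mul, hχu, show χ c.1.1 = 1 from c.2, mul_one]
  · -- the further involutions are conjugate
    intro v v' hv hv'
    obtain ⟨hvR, hχv⟩ := hinv v hv
    obtain ⟨hvR', hχv'⟩ := hinv v' hv'
    obtain ⟨i, hi, hpi⟩ := hrot (v * v') (by
      rw [map_mul]; exact (Subgroup.mul_mem_iff_of_index_two hRb2).2 (iff_of_false hvR hvR'))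
    rw [map_mul, hχv, hχv', hc0χ, neg_one_mul, neg_neg] at hi
    obtain ⟨l, rfl⟩ : Even i := by
      by_contra hodd
      rw [(Nat.not_even_iff_odd.1 hodd).neg_one_pow] at hi
      exact hne hi
    have hp' : pj r M v' = pj r M v * rt ^ (l + l) := by
      rw [← hpi, map_mul, ← mul_assoc, ← map_mul, hv.1, map_one, one_mul]
    obtain ⟨w, hw⟩ : ∃ w, (c0 ^ l)⁻¹ * v * c0 ^ l = w := ⟨_, rfl⟩
    have hpw : pj r M w = pj r M v' := by
      have hconj : pj r M v * rt ^ l * (pj r M v)⁻¹ = (rt ^ l)⁻¹ := by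
        rw [← conj_pow, (inv_of _ hvR).2, inv_pow]
      rw [← hw, map_mul, map_mul, map_inv, map_pow, hc0, hp', ← hconj, pow_add]
      group
    have hww : w * w = 1 := by
      rw [← hw]
      calc _ = (c0 ^ l)⁻¹ * (v * v) * c0 ^ l := by group
        _ = 1 := by rw [hv.1, mul_one, inv_mul_cancel]
    have hwI : h.IsInv w := ⟨hww, fun e => h.pj_inv_ne hv' (by rw [← hpw, e, map_one]),
      fun e => h.pj_inv_ne hv' (by rw [← hpw, e, h.pj_jc])⟩
    have hvw : ∃ g, g * v * g⁻¹ = w := ⟨(c0 ^ l)⁻¹, by rw [inv_inv]; exact hw⟩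
    obtain ⟨g, hg⟩ := hvw
    obtain ⟨k, hk | hk⟩ := h.pj_ker (c := v' * w⁻¹) (by rw [map_mul, map_inv, hpw, mul_inv_cancel]) <;>
      rw [mul_inv_eq_iff_eq_mul] at hk
    · refine ⟨g, hg.trans ?_⟩
      have h1 := congrArg (fun c : CJ r M => ((c : M) : GL (Fin 3) F)) hv'.1
      have h2 := congrArg (fun c : CJ r M => ((c : M) : GL (Fin 3) F)) hww
      simp [hk, Six.oc, r.om_mul_mul] at h1 h2
      rw [hk, show h.oc ^ k = 1 from cj_ext (by simpa [Six.oc] using r.om_sq_one (by simpa [h2] using h1)), one_mul]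
    · obtain ⟨y, hy⟩ := (h.cj_invol hwI.1 hwI.2.1 hwI.2.2).2
      refine ⟨y * g, ?_⟩
      rw [show y * g * v * (y * g)⁻¹ = y * (g * v * g⁻¹) * y⁻¹ by group, hg, hy]
      have hjw : h.jc * w * (h.jc * w) = 1 := by
        rw [← mul_assoc, mul_assoc h.jc w, ← h.jc_comm w, ← mul_assoc h.jc, h.jc_sq, one_mul, hww]
      have hc : Commute (h.oc ^ k) (h.jc * w) := (show Commute h.oc _ from h.oc_comm _).pow_left k
      have h1 := hv'.1
      rw [hk, show h.oc ^ k * h.jc * w = h.oc ^ k * (h.jc * w) from mul_assoc _ _ _, hc.symm.mul_mul_mul_comm, hjw, mul_one] at h1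
      have h1' := congrArg (fun c : CJ r M => ((c : M) : GL (Fin 3) F)) h1
      simp [Six.oc] at h1'
      rw [hk, show h.oc ^ k = 1 from cj_ext (by simpa [Six.oc] using r.om_sq_one h1'), one_mul]
  · rw [Subgroup.index_ker]
    have : (χ.range : Set Fˣ) = {1, -1} := by
      ext z
      constructor
      · rintro ⟨c, rfl⟩
        exact hχ2 _
      · rintro (rfl | rfl)
        · exact one_mem _
        · exact ⟨u, hχu⟩
    rw [← SetLike.coe_sort_coe, Nat.card_coe_set_eq, this, Set.ncard_pair hne]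
  · rw [← show χ v = -1 from (hinv v hv).2]
    exact (MonoidHom.mem_ker.1 e).symm

end CfsgLib.Dim3Max.Six
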