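import Mathlib

/-!
The arithmetic of the counts.
-/

set_option autoImplicit false

namespace CfsgLib.Dim3Max.Six

/-- The class equation without further involutions. -/
theorem arith_two {p e q k : ℤ} (hk : 0 < k) (hq : 0 < q) (hp : p = e * q + 1)
    (h : 3 * p * k = 3 + 216 * k * q) : e = 72 := by
  have h1 : k * (p - 72 * q) = 1 := by linarith
  have hk1 : k = 1 := by
    rcases Int.eq_one_or_neg_one_of_mul_eq_one h1 with h' | h'
    · exact h'
    · omega
  subst hk1
  have : (e - 72) * q = 0 := by rw [hp] at h1; linarith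
  rcases mul_eq_zero.1 this with h' | h' <;> omega

/-- The class equation with further involutions. -/
theorem arith_four {n p e q k : ℤ} (hk : 0 < k) (hq : 0 < q) (he : 0 < e) (hp : p = e * q + 1) (hp7 : 7 ≤ p)
    (hn : 4 ≤ n) (h4 : 4 ∣ n) (hdiv : e ∣ 36 * n)
    (h : 3 * p * k * (5 * n + 9) = 3 + 108 * n * k * q) : False := by
  have h1 : k * (p * (5 * n + 9) - 36 * n * q) = 1 := by linarith
  have hk1 : k = 1 := by
    rcases Int.eq_one_or_neg_one_of_mul_eq_one h1 with h' | h'
    · exact h'
    · omega
  subst hk1
  have h2 : q * (36 * n - (5 * n + 9) * e) = 5 * n + 8 := by rw [hp] at h1; linarith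
  have hpos : 0 < 36 * n - (5 * n + 9) * e := by
    by_contra hc
    nlinarith
  have he7 : e ≤ 7 := by
    by_contra hc
    nlinarith
  obtain ⟨m, rfl⟩ := h4
  interval_cases e
  · nlinarith
  · nlinarith
  · nlinarith
  · rcases eq_or_ne m 1 with rfl | hm
    · omega
    · have : 2 ≤ m := by omega
      nlinarith
  · rcases lt_or_ge m 3 with hm | hm
    · have : 1 ≤ m := by omega
      interval_cases m <;> omega
    · nlinarith
  · have hm : m ≤ 15 := by
      by_contra hc
      nlinarith
    have hm1 : 1 ≤ m := by omega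
    interval_cases m <;> omega
  · obtain ⟨l, rfl⟩ : (7 : ℤ) ∣ m := by omega
    have hl : l ≤ 13 := by
      by_contra hc
      have h3 : (q - 5) * (4 * (7 * l) - 63) = 323 := by linarith
      have hq5 : 1 ≤ q - 5 := by
        by_contra hc'
        nlinarith
      nlinarith
    have hl1 : 1 ≤ l := by omega
    interval_cases l <;> omega

end CfsgLib.Dim3Max.Six
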