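import Cfsg.Agent.Lib.Dim3Max.Six.A2Dih
import Cfsg.Agent.Lib.Dim3Max.Six.A3Arith
import Cfsg.Agent.Lib.Transfer.ThompsonTransfer

/-!
The sets counted when the field has no ninth root of unity.
-/

set_option autoImplicit false
set_option linter.unusedSectionVars false
set_option linter.dupNamespace false
set_option linter.style.haveILetI false

namespace CfsgLib.Dim3Max.Six

open scoped Matrix MatrixGroups

universe u

variable {F : Type u} [Field F] [Fintype F] {r : Root F} {p : ℕ} {M : Subgroup (GL (Fin 3) F)}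

/-- Two involutions in a cyclic group agree. -/
theorem invol_pow_eq {G : Type*} [Group G] [Finite G] {w : G} {a b : ℕ} (ha : w ^ a * w ^ a = 1) (ha1 : w ^ a ≠ 1)
    (hb : w ^ b * w ^ b = 1) (hb1 : w ^ b ≠ 1) : w ^ a = w ^ b := by
  have key : ∀ c : ℕ, w ^ c * w ^ c = 1 → w ^ c ≠ 1 → w ^ c = w ^ (orderOf w / 2) := by
    intro c h2 h1
    have hlt := Nat.mod_lt c (orderOf_pos w)
    rw [← pow_mod_orderOf w c] at h2 h1 ⊢
    obtain ⟨i, hi⟩ : ∃ i, c % orderOf w = i := ⟨_, rfl⟩
    rw [hi] at h2 h1 hlt ⊢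
    rw [← pow_add] at h2
    obtain ⟨q, hq⟩ := orderOf_dvd_of_pow_eq_one h2
    have hq2 : q < 2 := by
      by_contra hq2
      have : orderOf w * 2 ≤ orderOf w * q := Nat.mul_le_mul_left _ (by omega)
      omega
    interval_cases q
    · exact absurd (by rw [show i = 0 by omega, pow_zero]) h1
    · rw [show orderOf w / 2 = i by omega]
  rw [key a ha ha1, key b hb hb1]

/-- A scalar power. -/
theorem Six.om'_pow (h : Six r p M) (k : ℕ) : ((h.om' ^ k : M) : GL (Fin 3) F) = r.om ^ k := by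
  simp [Six.om']

/-- The diagonal generator as an element of the group. -/
def Six.xM (h : Six r p M) : M := ⟨r.x, h.x_mem⟩

/-- The centraliser of the diagonal generator. -/
theorem Six.cent_x_card (h : Six r p M) (hno : ∀ e : F, e ^ 3 ≠ r.w)
    (hd6 : ∀ c : CJ r M, (dl r M c : F) ^ 6 = 1) : Nat.card (Subgroup.centralizer ({h.xM} : Set M)) = 9 := by
  have hw3 : orderOf r.w = 3 := by
    haveI : Fact (Nat.Prime 3) := ⟨Nat.prime_three⟩
    exact orderOf_eq_prime (by rw [pow_three']; exact r.w_cube) r.w_ne_one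
  let φ : Fin 3 × Fin 3 → Subgroup.centralizer ({h.xM} : Set M) := fun v =>
    ⟨h.om' ^ (v.2 : ℕ) * h.xM ^ (v.1 : ℕ), Subgroup.mem_centralizer_singleton_iff.2 (by
      refine Subtype.ext ?_
      show ((h.om' ^ (v.2 : ℕ) : M) : GL (Fin 3) F) * ((h.xM ^ (v.1 : ℕ) : M) : GL (Fin 3) F) * r.x =
        r.x * (((h.om' ^ (v.2 : ℕ) : M) : GL (Fin 3) F) * ((h.xM ^ (v.1 : ℕ) : M) : GL (Fin 3) F))
      rw [h.om'_pow, SubmonoidClass.coe_pow]
      show r.om ^ (v.2 : ℕ) * r.x ^ (v.1 : ℕ) * r.x = r.x * (r.om ^ (v.2 : ℕ) * r.x ^ (v.1 : ℕ))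
      rw [mul_assoc, ← pow_succ, pow_succ', ← mul_assoc, r.om_pow_comm, mul_assoc])⟩
  have hval : ∀ a c : ℕ, ((r.om ^ c * r.x ^ a : GL (Fin 3) F) : Matrix (Fin 3) (Fin 3) F) =
      Matrix.diagonal ![r.w ^ c, r.w ^ c * r.w ^ a, r.w ^ c * (r.w * r.w) ^ a] := by
    intro a c
    have hx : ((r.x : GL (Fin 3) F) : Matrix (Fin 3) (Fin 3) F) = Matrix.diagonal ![1, r.w, r.w * r.w] := by
      ext i j; fin_cases i <;> fin_cases j <;> simp [Root.x]
    rw [Units.val_mul, Units.val_pow_eq_pow_val, Units.val_pow_eq_pow_val, r.om_val, smul_pow, one_pow, hx,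
      Matrix.diagonal_pow, Matrix.smul_mul, Matrix.one_mul, ← Matrix.diagonal_smul]
    congr 1
    funext i
    fin_cases i <;> simp
  have hbij : Function.Bijective φ := by
    constructor
    · rintro ⟨a, c⟩ ⟨a', c'⟩ he
      have he' := congrArg (fun v : Subgroup.centralizer ({h.xM} : Set M) => (((v : M) : GL (Fin 3) F) : Matrix (Fin 3) (Fin 3) F)) he
      have e1 : ((r.om ^ (c : ℕ) * r.x ^ (a : ℕ) : GL (Fin 3) F) : Matrix (Fin 3) (Fin 3) F) =
          ((r.om ^ (c' : ℕ) * r.x ^ (a' : ℕ) : GL (Fin 3) F) : Matrix (Fin 3) (Fin 3) F) := by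
        simpa [φ, Six.xM, h.om'_pow] using he'
      rw [hval, hval, Matrix.diagonal_eq_diagonal_iff] at e1
      have ec : r.w ^ (c : ℕ) = r.w ^ (c' : ℕ) := by simpa using e1 0
      obtain rfl : c = c' := Fin.ext (pow_injOn_Iio_orderOf (by simp [hw3, c.2]) (by simp [hw3, c'.2]) ec)
      have ea : r.w ^ (c : ℕ) * r.w ^ (a : ℕ) = r.w ^ (c : ℕ) * r.w ^ (a' : ℕ) := by simpa using e1 1
      obtain rfl : a = a' := Fin.ext (pow_injOn_Iio_orderOf (by simp [hw3, a.2]) (by simp [hw3, a'.2])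
        (mul_left_cancel₀ (pow_ne_zero _ r.w_ne_zero) ea))
      rfl
    · rintro ⟨⟨d, hdM⟩, hd⟩
      have hx : d * r.x = r.x * d := congrArg Subtype.val (Subgroup.mem_centralizer_singleton_iff.1 hd)
      obtain ⟨t, ht⟩ : ∃ t, (fun i => (d : Matrix (Fin 3) (Fin 3) F) i i) = t := ⟨_, rfl⟩
      have hdd := r.diag_of_comm hx
      rw [ht] at hdd
      have hdet : t 0 * t 1 * t 2 = 1 := by
        have : (d : Matrix (Fin 3) (Fin 3) F).det = 1 := congrArg Units.val (h.le hdM)
        rwa [hdd, Matrix.det_diagonal, Fin.prod_univ_three] at this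
      -- the first entry of any diagonal element
      have first : ∀ (d : GL (Fin 3) F) (t : Fin 3 → F), d ∈ M →
          (d : Matrix (Fin 3) (Fin 3) F) = Matrix.diagonal t → t 0 * t 1 * t 2 = 1 → t 0 ^ 6 = 1 := by
        intro d t hdM hdd hdet
        obtain ⟨c, hc⟩ : ∃ c, d * (r.j * d * r.j) = c := ⟨_, rfl⟩
        have hcv : (c : Matrix (Fin 3) (Fin 3) F) = Matrix.diagonal ![t 0 * t 0, t 1 * t 2, t 1 * t 2] := by
          have hdd' : (d : Matrix (Fin 3) (Fin 3) F) = !![t 0, 0, 0; 0, t 1, 0; 0, 0, t 2] := by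
            rw [hdd]; ext i k; fin_cases i <;> fin_cases k <;> simp
          rw [← hc, Units.val_mul, Units.val_mul, Units.val_mul, hdd']
          ext i k
          fin_cases i <;> fin_cases k <;>
            simp [Root.j, Matrix.mul_apply, Matrix.vecMul_diagonal, Fin.sum_univ_three, mul_comm]
        have hcj : c * r.j = r.j * c := by
          refine Units.ext ?_
          rw [Units.val_mul, Units.val_mul, hcv]
          ext i k
          fin_cases i <;> fin_cases k <;> simp [Root.j, Matrix.mul_apply, Fin.sum_univ_three]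
        have hcM : c ∈ M := hc ▸ mul_mem hdM (mul_mem (mul_mem h.j_mem hdM) h.j_mem)
        have hB : Root.inFrame r.ej c = Matrix.diagonal ![t 1 * t 2, t 0 * t 0, t 1 * t 2] := by
          refine r.inFrame_eq ?_
          rw [hcv]
          ext i k
          fin_cases i <;> fin_cases k <;> simp [Root.ej, Matrix.mul_apply, Fin.sum_univ_three]
        have := hd6 ⟨⟨c, hcM⟩, mem_CJ.2 hcj⟩
        rw [dl_val] at this
        change Root.inFrame r.ej c 0 0 ^ 6 = 1 at this
        simp [hB] at this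
        have e : (t 0 * (t 1 * t 2)) ^ 6 = 1 := by rw [← mul_assoc, hdet, one_pow]
        rwa [mul_pow, this, mul_one] at e
      have h0 := first d t hdM hdd hdet
      have hy : ((r.y⁻¹ : GL (Fin 3) F) : Matrix (Fin 3) (Fin 3) F) = !![0, 0, 1; 1, 0, 0; 0, 1, 0] := rfl
      have h12 : t 1 ^ 6 = 1 ∧ t 2 ^ 6 = 1 := by
        have e1 := first (r.y * d * r.y⁻¹) ![t 1, t 2, t 0] (mul_mem (mul_mem h.y_mem hdM) (inv_mem h.y_mem))
          (by
            rw [Units.val_mul, Units.val_mul, hy, hdd]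
            ext i k
            fin_cases i <;> fin_cases k <;> simp [Root.y, Matrix.mul_apply, Matrix.vecMul_diagonal, Fin.sum_univ_three])
          (by simp; linear_combination hdet)
        have e2 := first (r.y⁻¹ * d * r.y) ![t 2, t 0, t 1] (mul_mem (mul_mem (inv_mem h.y_mem) hdM) h.y_mem)
          (by
            rw [Units.val_mul, Units.val_mul, hy, hdd]
            ext i k
            fin_cases i <;> fin_cases k <;> simp [Root.y, Matrix.mul_apply, Matrix.vecMul_diagonal, Fin.sum_univ_three])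
          (by simp; linear_combination hdet)
        exact ⟨by simpa using e1, by simpa using e2⟩
      have h6 : ∀ i, t i ^ 6 = 1 := fun i => by
        fin_cases i
        exacts [h0, h12.1, h12.2]
      have hd3 : d ^ 3 = 1 := by
        refine h.no_invol_x (pow_mem hdM 3) (Units.ext ?_) ((show Commute d r.x from hx).pow_left 3).eq
        rw [← pow_add, Units.val_pow_eq_pow_val, hdd, Matrix.diagonal_pow, Units.val_one, ← Matrix.diagonal_one]
        congr 1
        funext i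
        exact h6 i
      obtain ⟨a, c, hac⟩ := diag_cube_eq r (t := t) (fun i => by
        have := congrArg (fun g : GL (Fin 3) F => (g : Matrix (Fin 3) (Fin 3) F) i i) hd3
        rw [Units.val_pow_eq_pow_val, hdd, Matrix.diagonal_pow] at this
        simpa using this) hdet
      refine ⟨(⟨a % 3, Nat.mod_lt _ (by norm_num)⟩, ⟨c % 3, Nat.mod_lt _ (by norm_num)⟩), Subtype.ext (Subtype.ext ?_)⟩
      show ((h.om' ^ (c % 3) : M) : GL (Fin 3) F) * ((h.xM ^ (a % 3) : M) : GL (Fin 3) F) = d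
      rw [h.om'_pow, SubmonoidClass.coe_pow]
      show r.om ^ (c % 3) * r.x ^ (a % 3) = d
      rw [← r.x_pow_mod, ← pow_eq_pow_mod c (by rw [pow_three']; exact r.om_cube)]
      exact (Units.ext (hdd.trans hac)).symm
  rw [← Nat.card_eq_of_bijective φ hbij]
  simp

/-- The conjugates of the diagonal generator. -/
theorem Six.card_X (h : Six r p M) (hno : ∀ e : F, e ^ 3 ≠ r.w)
    (hd6 : ∀ c : CJ r M, (dl r M c : F) ^ 6 = 1) : Nat.card (conjUnion ({h.xM} : Set M)) * 9 = Nat.card M := by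
  have h1 := le_card_conjUnion ({h.xM} : Set M) (Subgroup.centralizer {h.xM}) (fun g s hs hgs => by
    rw [Set.mem_singleton_iff] at hs hgs
    rw [hs] at hgs
    exact Subgroup.mem_centralizer_singleton_iff.2 (mul_inv_eq_iff_eq_mul.1 hgs))
  have h2 := card_conjUnion_le ({h.xM} : Set M) (Subgroup.centralizer {h.xM}) (fun n hn s hs => by
    rw [Set.mem_singleton_iff] at hs ⊢
    rw [hs, Subgroup.mem_centralizer_singleton_iff.1 hn, mul_inv_cancel_right])
  rw [h.cent_x_card hno hd6] at h1 h2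
  simp only [Nat.card_coe_set_eq, Set.ncard_singleton, mul_one] at h1 h2 ⊢
  omega

/-- The conjugates of the diagonal generator avoid the centraliser of the involution. -/
theorem Six.x_not_CJ (h : Six r p M) {g : M} (hg : g * h.xM * g⁻¹ ∈ CJ r M) : False := by
  have hcj := mem_CJ.1 hg
  obtain ⟨g, hgM⟩ := g
  change g * r.x * g⁻¹ * r.j = r.j * (g * r.x * g⁻¹) at hcj
  have hv : g⁻¹ * r.j * g * r.x = r.x * (g⁻¹ * r.j * g) := by
    calc _ = g⁻¹ * (r.j * (g * r.x * g⁻¹)) * g := by group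
      _ = g⁻¹ * (g * r.x * g⁻¹ * r.j) * g := by rw [hcj]
      _ = _ := by group
  have := h.no_invol_x (mul_mem (mul_mem (inv_mem hgM) h.j_mem) hgM) (by
    calc _ = g⁻¹ * (r.j * r.j) * g := by group
      _ = 1 := by rw [r.j_sq, mul_one, inv_mul_cancel]) hv
  refine r.j_ne_scalar 1 ?_
  rw [show r.j = g * (g⁻¹ * r.j * g) * g⁻¹ by group, this, mul_one, mul_inv_cancel, Units.val_one, one_smul]

/-- The counted part of the centraliser, for a given family of excluded elements. -/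
def Six.sset (h : Six r p M) (A : Set (CJ r M)) : Set M :=
  Subtype.val '' {c : CJ r M | c ∈ A ∧ c ∉ h.bad ∧ c ∉ Subgroup.zpowers h.oc}

theorem Six.bad_conj (h : Six r p M) {c : CJ r M} (hc : c ∈ h.bad) (g : CJ r M) : g * c * g⁻¹ ∈ h.bad := by
  obtain ⟨m, h2, h1, hj⟩ := hc
  refine ⟨m, ?_, ?_, ?_⟩ <;> rw [conj_pow]
  · rw [show g * c ^ m * g⁻¹ * (g * c ^ m * g⁻¹) = g * (c ^ m * c ^ m) * g⁻¹ by group, h2, mul_one, mul_inv_cancel]
  · exact fun e => h1 (conj_eq_one_iff.1 e)
  · intro e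
    refine hj ?_
    calc c ^ m = g⁻¹ * (g * c ^ m * g⁻¹) * g := by group
      _ = h.jc := by rw [e, mul_assoc, h.jc_comm, inv_mul_cancel_left]

theorem Six.pj_oc_zpow (h : Six r p M) {c : CJ r M} (hc : c ∈ Subgroup.zpowers h.oc) : pj r M c = 1 := by
  obtain ⟨k, rfl⟩ := mem_powers_iff_mem_zpowers.2 hc
  exact h.pj_oc_pow k

/-- The counted part is a trivial intersection set. -/
theorem Six.sset_ti (h : Six r p M) (hd6 : ∀ c : CJ r M, (dl r M c : F) ^ 6 = 1) (A : Set (CJ r M)) :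
    ∀ g : M, ∀ s ∈ h.sset A, g * s * g⁻¹ ∈ h.sset A → g ∈ CJ r M := by
  rintro g _ ⟨c, ⟨-, hcb, hcz⟩, rfl⟩ ⟨c', ⟨-, hcb', -⟩, hc'⟩
  -- it suffices to fix the involution
  suffices hgj : g * (h.jc : M) * g⁻¹ = (h.jc : M) ∨ g⁻¹ * (h.jc : M) * g = (h.jc : M) by
    refine mem_CJ.2 ?_
    rcases hgj with e | e
    · exact congrArg Subtype.val (mul_inv_eq_iff_eq_mul.1 e)
    · rw [mul_assoc, inv_mul_eq_iff_eq_mul] at e
      exact (congrArg Subtype.val e).symm
  by_cases hev : ∃ m : ℕ, c ^ m * c ^ m = 1 ∧ c ^ m ≠ 1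
  · obtain ⟨m, hm2, hm1⟩ := hev
    have hcj : c ^ m = h.jc := by
      by_contra hne
      exact hcb ⟨m, hm2, hm1, hne⟩
    have hc'm : ((c' ^ m : CJ r M) : M) = g * (h.jc : M) * g⁻¹ := by
      rw [SubmonoidClass.coe_pow, hc', conj_pow, ← SubmonoidClass.coe_pow, hcj]
    have h2' : c' ^ m * c' ^ m = 1 := Subtype.ext (by
      rw [Subgroup.coe_mul, hc'm, OneMemClass.coe_one]
      calc _ = g * ((h.jc : M) * (h.jc : M)) * g⁻¹ := by group
        _ = 1 := by rw [← Subgroup.coe_mul, h.jc_sq, OneMemClass.coe_one, mul_one, mul_inv_cancel])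
    have h1' : c' ^ m ≠ 1 := fun e => by
      rw [e, OneMemClass.coe_one, eq_comm, conj_eq_one_iff] at hc'm
      have := h.orderOf_jc
      rw [show h.jc = 1 from Subtype.ext hc'm, orderOf_one] at this
      norm_num at this
    have : c' ^ m = h.jc := by
      by_contra hne
      exact hcb' ⟨m, h2', h1', hne⟩
    left
    rw [← hc'm, this]
  · push Not at hev
    have hp1 : pj r M c ≠ 1 := by
      intro e
      obtain ⟨k, hk | hk⟩ := h.pj_ker e
      · exact hcz (hk ▸ pow_mem (Subgroup.mem_zpowers _) k)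
      · have e3 := pow_orderOf_eq_one h.oc
        rw [h.orderOf_oc] at e3
        have h3 : c ^ 3 = h.jc := by
          rw [hk, (show Commute (h.oc ^ k) h.jc from (show Commute h.oc h.jc from h.oc_comm _).pow_left k).mul_pow,
            ← pow_mul, mul_comm, pow_mul, e3, one_pow, one_mul, pow_three', h.jc_sq, one_mul]
        have := hev 3 (by rw [h3, h.jc_sq])
        have h2 := h.orderOf_jc
        rw [← h3, this, orderOf_one] at h2
        norm_num at h2
    have hp2 : pj r M c * pj r M c ≠ 1 := by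
      intro e
      obtain ⟨a, ha | ha⟩ := Nat.even_or_odd' (orderOf c)
      · have h0 := orderOf_pos c
        have := hev a (by rw [← pow_add, ← two_mul, ← ha, pow_orderOf_eq_one])
        have := Nat.le_of_dvd (by omega) (orderOf_dvd_of_pow_eq_one this)
        omega
      · refine hp1 ?_
        have := congrArg (pj r M) (pow_orderOf_eq_one c)
        rwa [map_pow, map_one, ha, pow_succ, pow_mul, sq, e, one_pow, one_mul] at this
    -- the involution moved back commutes with the element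
    have hv : g⁻¹ * (h.jc : M) * g * (c : M) = (c : M) * (g⁻¹ * (h.jc : M) * g) := by
      have hj : (h.jc : M) * (c' : M) = (c' : M) * (h.jc : M) := congrArg Subtype.val (h.jc_comm c')
      rw [hc'] at hj
      calc _ = g⁻¹ * ((h.jc : M) * (g * (c : M) * g⁻¹)) * g := by group
        _ = g⁻¹ * (g * (c : M) * g⁻¹ * (h.jc : M)) * g := by rw [hj]
        _ = _ := by group
    have hvC := h.centralizer_le (hd6 c) hp2 hv
    right
    by_contra hne
    obtain ⟨v, hvd⟩ : ∃ v : CJ r M, v = ⟨_, hvC⟩ := ⟨_, rfl⟩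
    have hv2 : v * v = 1 := by
      rw [hvd]
      refine Subtype.ext ?_
      show g⁻¹ * (h.jc : M) * g * (g⁻¹ * (h.jc : M) * g) = 1
      calc _ = g⁻¹ * ((h.jc : M) * (h.jc : M)) * g := by group
        _ = 1 := by rw [← Subgroup.coe_mul, h.jc_sq, OneMemClass.coe_one, mul_one, inv_mul_cancel]
    have hv1 : v ≠ 1 := fun e => by
      have e' : g⁻¹ * (h.jc : M) * g = 1 := by
        have := congrArg Subtype.val (hvd ▸ e)
        simpa using this
      have h2 := h.orderOf_jc
      rw [show h.jc = 1 from Subtype.ext (by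
        calc (h.jc : M) = g * (g⁻¹ * (h.jc : M) * g) * g⁻¹ := by group
          _ = 1 := by rw [e', mul_one, mul_inv_cancel]), orderOf_one] at h2
      norm_num at h2
    have hvj : v ≠ h.jc := fun e => hne (congrArg Subtype.val (hvd ▸ e))
    rcases (h.cj_invol hv2 hv1 hvj).1 c (Subtype.ext (by rw [hvd]; exact hv.symm)) with e | e
    · exact hp1 e
    · exact hp2 (by rw [e, ← map_mul, hv2, map_one])

/-- The size of the counted part. -/
theorem Six.card_sset_univ (h : Six r p M) :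
    Nat.card (h.sset Set.univ) + (Nat.card h.bad + 3) = Nat.card (CJ r M) := by
  have hd : Disjoint h.bad (Subgroup.zpowers h.oc : Set (CJ r M)) := by
    rw [Set.disjoint_left]
    rintro c ⟨m, hu⟩ hz
    exact h.pj_inv_ne hu (by rw [map_pow, h.pj_oc_zpow hz, one_pow])
  have he : {c : CJ r M | c ∈ Set.univ ∧ c ∉ h.bad ∧ c ∉ Subgroup.zpowers h.oc} =
      (h.bad ∪ (Subgroup.zpowers h.oc : Set (CJ r M)))ᶜ := by
    ext c; simp
  have h3 : (Subgroup.zpowers h.oc : Set (CJ r M)).ncard = 3 := by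
    rw [← Nat.card_coe_set_eq]
    exact (Nat.card_zpowers _).trans h.orderOf_oc
  rw [Six.sset, Nat.card_image_of_injective Subtype.val_injective, he, Nat.card_coe_set_eq, Nat.card_coe_set_eq,
    ← Set.ncard_add_ncard_compl (h.bad ∪ (Subgroup.zpowers h.oc : Set (CJ r M))) (Set.toFinite _)
      (Set.toFinite _), Set.ncard_union_eq hd (Set.toFinite _) (Set.toFinite _), h3, add_comm]

/-- Every involution is conjugate to `j`. -/
theorem Six.invol_conj (h : Six r p M) (hno : ∀ e : F, e ^ 3 ≠ r.w) {v : M} (hv : v * v = 1) (hv1 : v ≠ 1) :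
    ∃ g : M, g * v * g⁻¹ = (h.jc : M) := by
  haveI : Fact (Nat.Prime 2) := ⟨Nat.prime_two⟩
  obtain ⟨n, hn0, -, hn3, hcard, hd6, hinv⟩ := h.dih hno
  obtain ⟨T, hTC, -⟩ := h.sylow_two
  have hjc2 : (h.jc : M) * (h.jc : M) = 1 := by rw [← Subgroup.coe_mul, h.jc_sq, OneMemClass.coe_one]
  have toT : ∀ w : M, w * w = 1 → w ≠ 1 → ∃ g : M, g * w * g⁻¹ ∈ (T : Subgroup M) := by
    intro w hw hw1
    obtain ⟨Q, hQ⟩ := (IsPGroup.of_card (p := 2) (n := 1) (G := Subgroup.zpowers w) (by
      rw [Nat.card_zpowers, pow_one]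
      exact orderOf_eq_prime (by rw [sq]; exact hw) hw1)).exists_le_sylow
    obtain ⟨g, hg⟩ := MulAction.exists_smul_eq M Q T
    refine ⟨g, ?_⟩
    rw [← hg, Sylow.coe_subgroup_smul]
    exact ⟨w, hQ (Subgroup.mem_zpowers w), rfl⟩
  have conj2 : ∀ {w : M} (g : M), w * w = 1 → g * w * g⁻¹ * (g * w * g⁻¹) = 1 := fun {w} g hw => by
    rw [show g * w * g⁻¹ * (g * w * g⁻¹) = g * (w * w) * g⁻¹ by group, hw, mul_one, mul_inv_cancel]
  obtain ⟨g, hg⟩ := toT v hv hv1
  obtain ⟨c, hc⟩ : ∃ c : CJ r M, (c : M) = g * v * g⁻¹ := ⟨⟨_, hTC hg⟩, rfl⟩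
  by_cases hcj : c = h.jc
  · exact ⟨g, by rw [← hc, hcj]⟩
  have hcI : h.IsInv c := ⟨Subtype.ext (by rw [Subgroup.coe_mul, hc, conj2 g hv, OneMemClass.coe_one]),
    fun e => hv1 (conj_eq_one_iff.1 (by rw [← hc, e, OneMemClass.coe_one])), hcj⟩
  rcases hinv with hinv | ⟨h4, -, hcc, Q, hQi, -, hQu⟩
  · exact absurd hcI (hinv c)
  by_contra hcon
  push Not at hcon
  have hno' : ∀ (k : M) (d : CJ r M), h.IsInv d → k * (d : M) * k⁻¹ ≠ (h.jc : M) := by
    intro k d hd he
    obtain ⟨l, hl⟩ := hcc c d hcI hd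
    refine hcon (k * (l : M) * g) ?_
    rw [← he, ← hl]
    show k * (l : M) * g * v * (k * (l : M) * g)⁻¹ = k * ((l : M) * (c : M) * (l : M)⁻¹) * k⁻¹
    rw [hc]
    group
  have hcQ : (c : M) ∉ Q.map (CJ r M).subtype := by
    rintro ⟨d, hd, hde⟩
    exact hQu c hcI (Subtype.ext hde ▸ hd)
  have hrel : (Q.map (CJ r M).subtype ⊓ (T : Subgroup M)).relIndex (T : Subgroup M) = 2 := by
    rw [Subgroup.inf_relIndex_right]
    have h2 : (Q.map (CJ r M).subtype).relIndex (CJ r M) = 2 := by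
      rw [Subgroup.relIndex, Subgroup.subgroupOf, Subgroup.comap_map_eq_self_of_injective Subtype.val_injective, hQi]
    have hle := Subgroup.relIndex_le_of_le_right (H := Q.map (CJ r M).subtype) hTC (by rw [h2]; norm_num)
    rw [h2] at hle
    have h0 : (Q.map (CJ r M).subtype).relIndex (T : Subgroup M) ≠ 0 := Subgroup.index_ne_zero_of_finite
    have h1 : (Q.map (CJ r M).subtype).relIndex (T : Subgroup M) ≠ 1 := fun e =>
      hcQ (Subgroup.relIndex_eq_one.1 e (hc ▸ hg))
    omega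
  obtain ⟨G0, hG0n, hG0i, hcG⟩ := Transfer.exists_index_two_of_not_conj_mem T inf_le_right hrel (u := (c : M))
    (orderOf_eq_prime (by rw [sq, ← Subgroup.coe_mul, hcI.1, OneMemClass.coe_one])
      (fun e => hcI.2.1 (Subtype.ext e)))
    (fun k hk => by
      obtain ⟨⟨d, hd, hde⟩, -⟩ := hk
      have hde' : (d : M) = k * (c : M) * k⁻¹ := hde
      by_cases hdj : d = h.jc
      · exact hno' k c hcI (hde' ▸ congrArg Subtype.val hdj)
      · exact hQu d ⟨Subtype.ext (by
          rw [Subgroup.coe_mul, hde', conj2 k (by rw [← Subgroup.coe_mul, hcI.1, OneMemClass.coe_one]), OneMemClass.coe_one]),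
          fun e => hcI.2.1 (Subtype.ext (conj_eq_one_iff.1 (by rw [← hde', e, OneMemClass.coe_one]))), hdj⟩ hd)
  -- the normal subgroup is too small
  have hIG : ∀ d : CJ r M, h.IsInv d → (d : M) ∉ G0 := by
    intro d hd hdG
    obtain ⟨l, hl⟩ := hcc c d hcI hd
    refine hcG ?_
    have := hG0n.conj_mem _ hdG (l : M)⁻¹
    rwa [← hl, Subgroup.coe_mul, Subgroup.coe_mul, InvMemClass.coe_inv, inv_inv,
      show (l : M)⁻¹ * ((l : M) * (c : M) * (l : M)⁻¹) * (l : M) = (c : M) by group] at this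
  have hsq : ∀ w : M, w * w ∈ G0 := fun w => Subgroup.mul_self_mem_of_index_two hG0i w
  set A : Set (CJ r M) := {d | (d : M) ∈ G0} with hA
  have hxG : h.xM ∈ G0 := by
    have hx3 : h.xM * h.xM * h.xM = 1 := Subtype.ext r.x_cube
    have := mul_mem (hsq h.xM) (hsq h.xM)
    rwa [← mul_assoc, hx3, one_mul] at this
  have hS : conjUnion (h.sset A) ⊆ (G0 : Set M) := by
    rintro _ ⟨k, _, ⟨d, ⟨hd, -⟩, rfl⟩, rfl⟩
    exact hG0n.conj_mem _ hd k
  have hX : conjUnion ({h.xM} : Set M) ⊆ (G0 : Set M) := by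
    rintro _ ⟨k, _, rfl, rfl⟩
    exact hG0n.conj_mem _ hxG k
  have hdis : Disjoint (conjUnion (h.sset A)) (conjUnion ({h.xM} : Set M)) := by
    rw [Set.disjoint_left]
    rintro _ ⟨k, _, ⟨d, -, rfl⟩, rfl⟩ ⟨k', _, rfl, e⟩
    refine h.x_not_CJ (g := k⁻¹ * k') ?_
    rw [show k⁻¹ * k' * h.xM * (k⁻¹ * k')⁻¹ = k⁻¹ * (k' * h.xM * k'⁻¹) * k by group, e,
      show k⁻¹ * (k * (d : M) * k⁻¹) * k = (d : M) by group]
    exact d.2
  have hsum := card_add_le hS hX hdis
  have hA6 : 6 * n ≤ Nat.card (G0.subgroupOf (CJ r M)) := by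
    have h2 : (G0.subgroupOf (CJ r M)).index ≤ 2 := by
      have := Subgroup.relIndex_dvd_index_of_normal G0 (CJ r M)
      rw [hG0i] at this
      exact Nat.le_of_dvd (by norm_num) this
    have := Subgroup.card_mul_index (G0.subgroupOf (CJ r M))
    rw [hcard] at this
    nlinarith
  have hSA : 6 * n ≤ Nat.card (h.sset A) + 3 := by
    refine hA6.trans ?_
    have he : {d : CJ r M | d ∈ A ∧ d ∉ h.bad ∧ d ∉ Subgroup.zpowers h.oc} =
        A \ (Subgroup.zpowers h.oc : Set (CJ r M)) := by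
      ext d
      refine ⟨fun hd => ⟨hd.1, hd.2.2⟩, fun hd => ⟨hd.1, ?_, hd.2⟩⟩
      rintro ⟨m, hm⟩
      exact hIG _ hm (by rw [SubmonoidClass.coe_pow]; exact pow_mem hd.1 m)
    rw [Six.sset, Nat.card_image_of_injective Subtype.val_injective, he, Nat.card_coe_set_eq]
    have h3 : (Subgroup.zpowers h.oc : Set (CJ r M)).ncard = 3 := by
      rw [← Nat.card_coe_set_eq]
      exact (Nat.card_zpowers _).trans h.orderOf_oc
    calc Nat.card (G0.subgroupOf (CJ r M)) = A.ncard := Nat.card_coe_set_eq A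
      _ ≤ _ := (Set.ncard_le_ncard_diff_add_ncard _ _ (Set.toFinite _)).trans (le_of_eq (congrArg _ h3))
  have hlb := le_card_conjUnion (h.sset A) (CJ r M) (h.sset_ti hd6 A)
  rw [hcard] at hlb
  have hx9 := h.card_X hno hd6
  have hG := Subgroup.card_mul_index G0
  rw [hG0i] at hG
  have hM : 0 < Nat.card M := Nat.card_pos
  have h4' : 4 ≤ n := Nat.le_of_dvd hn0 h4
  have hG' : Nat.card (G0 : Set M) = Nat.card G0 := rfl
  rw [hG'] at hsum
  have e1 : Nat.card M * (6 * n) ≤ Nat.card M * (Nat.card (h.sset A) + 3) := Nat.mul_le_mul_left _ hSA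
  have e2 := Nat.mul_le_mul_left (216 * n) hsum
  nlinarith [Nat.mul_le_mul_left (Nat.card M) h4']

end CfsgLib.Dim3Max.Six
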