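import Cfsg.Agent.Lib.PSL2.Dickson

/-!
Facts on the finite groups of Dickson's list of order prime to the characteristic.
-/

set_option autoImplicit false
set_option linter.unusedSectionVars false

namespace CfsgLib.Dim3Max.Six

open DihedralGroup

universe u

/-- An element whose inverting involution has a centraliser of exponent two. -/
def FactInv (I : Type*) [Group I] : Prop :=
  ∀ x t c : I, x * x * x = 1 → x ≠ 1 → t * t = 1 → t * x * t⁻¹ = x * x → c * t = t * c → c * c = 1

/-- An involution not conjugate into a given four group. -/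
def FactKlein (I : Type*) [Group I] : Prop :=
  ∀ a b u : I, a * a = 1 → a ≠ 1 → b * b = 1 → b ≠ 1 → a ≠ b → a * b = b * a → u * u = 1 → u ≠ 1 →
    (∀ g, g * u * g⁻¹ ≠ a ∧ g * u * g⁻¹ ≠ b ∧ g * u * g⁻¹ ≠ a * b) →
    (∀ c, c * u = u * c → c * c = 1) ∧ ∃ c, c * u = u * c ∧ c ≠ 1 ∧ c ≠ u

/-- A four group and an element of order three none of which is inverted. -/
def FactFour (I : Type*) [Group I] : Prop :=
  ∀ a b x : I, a * a = 1 → a ≠ 1 → b * b = 1 → b ≠ 1 → a ≠ b → a * b = b * a → x * x * x = 1 → x ≠ 1 →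
    (∀ g : I, g * x * g⁻¹ ≠ x * x) → Nat.card I = 12

/-- An involution inverting an element of order three and centralised only by itself. -/
def FactNorm (I : Type*) [Group I] : Prop :=
  ∀ x t : I, x * x * x = 1 → t * t = 1 → t ≠ 1 → t * x * t⁻¹ = x * x → (∀ c, c * t = t * c → c = 1 ∨ c = t) →
    ∀ y, y * x * y⁻¹ = x ∨ y * x * y⁻¹ = x * x

/-- A group of order prime to three with a four group is dihedral. -/
def FactDih (I : Type*) [Group I] : Prop :=
  ∀ a b : I, a * a = 1 → a ≠ 1 → b * b = 1 → b ≠ 1 → a ≠ b → a * b = b * a → ¬ 3 ∣ Nat.card I →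
    ∃ r : I, 2 ∣ orderOf r ∧ Nat.card I = 2 * orderOf r ∧ ¬ 3 ∣ orderOf r ∧
      ∀ g, g ∈ Subgroup.zpowers r ∨ (g * g = 1 ∧ g * r * g⁻¹ = r⁻¹)

/-- The facts. -/
structure Facts (I : Type*) [Group I] : Prop where
  inv : FactInv I
  klein : FactKlein I
  four : FactFour I
  norm : FactNorm I
  dih : FactDih I

/-- The facts pass to isomorphic groups. -/
theorem Facts.of_equiv {I J : Type*} [Group I] [Group J] (e : I ≃* J) (h : Facts J) : Facts I := by
  have E : ∀ {p q : I}, e p = e q ↔ p = q := e.injective.eq_iff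
  have E1 : ∀ {p : I}, e p = 1 ↔ p = 1 := e.map_eq_one_iff
  refine ⟨fun x t c h1 h2 h3 h4 h5 => ?_, fun a b u h1 h2 h3 h4 h5 h6 h7 h8 h9 => ?_,
    fun a b x h1 h2 h3 h4 h5 h6 h7 h8 h9 => ?_, fun x t h1 h2 h3 h4 h5 y => ?_,
    fun a b h1 h2 h3 h4 h5 h6 h7 => ?_⟩
  · simpa [← map_mul, E1] using h.inv (e x) (e t) (e c) (by simp [← map_mul, h1]) (by simpa [E1])
      (by simp [← map_mul, h3]) (by simp [← map_inv, ← map_mul, h4]) (by simp [← map_mul, h5])
  · obtain ⟨k1, c, k2, k3, k4⟩ := h.klein (e a) (e b) (e u) (by simp [← map_mul, h1]) (by simpa [E1])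
      (by simp [← map_mul, h3]) (by simpa [E1]) (by simpa [E]) (by simp [← map_mul, h6])
      (by simp [← map_mul, h7]) (by simpa [E1]) (fun g => by
        obtain ⟨g, rfl⟩ := e.surjective g
        simpa [← map_inv, ← map_mul, E] using h9 g)
    obtain ⟨c, rfl⟩ := e.surjective c
    refine ⟨fun c hc => ?_, c, ?_, ?_, ?_⟩
    · simpa [← map_mul, E1] using k1 (e c) (by simp [← map_mul, hc])
    · simpa [← map_mul, E] using k2
    · simpa [E1] using k3
    · simpa [E] using k4
  · rw [Nat.card_congr e.toEquiv]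
    refine h.four (e a) (e b) (e x) (by simp [← map_mul, h1]) (by simpa [E1])
      (by simp [← map_mul, h3]) (by simpa [E1]) (by simpa [E]) (by simp [← map_mul, h6])
      (by simp [← map_mul, h7]) (by simpa [E1]) fun g => ?_
    obtain ⟨g, rfl⟩ := e.surjective g
    simpa [← map_inv, ← map_mul, E] using h9 g
  · have := h.norm (e x) (e t) (by simp [← map_mul, h1]) (by simp [← map_mul, h2]) (by simpa [E1])
      (by simp [← map_inv, ← map_mul, h4]) (fun c hc => by
        obtain ⟨c, rfl⟩ := e.surjective c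
        simp only [← map_mul, E] at hc
        simpa [E, E1] using h5 c hc) (e y)
    simpa [← map_inv, ← map_mul, E] using this
  · obtain ⟨r, k1, k2, k3, k4⟩ := h.dih (e a) (e b) (by simp [← map_mul, h1]) (by simpa [E1])
      (by simp [← map_mul, h3]) (by simpa [E1]) (by simpa [E]) (by simp [← map_mul, h6])
      (by rwa [← Nat.card_congr e.toEquiv])
    obtain ⟨r, rfl⟩ := e.surjective r
    rw [MulEquiv.orderOf_eq] at k1 k2 k3
    refine ⟨r, k1, by rwa [Nat.card_congr e.toEquiv], k3, fun g => ?_⟩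
    rcases k4 (e g) with ⟨i, hi⟩ | ⟨k5, k6⟩
    · exact .inl ⟨i, e.injective (by simpa using hi)⟩
    · simp only [← map_inv, ← map_mul, E, E1] at k5 k6
      exact .inr ⟨k5, k6⟩

theorem facts_cyclic {I : Type*} [Group I] [Finite I] (hc : IsCyclic I) : Facts I := by
  classical
  have := Fintype.ofFinite I
  have hcomm : ∀ p q : I, p * q = q * p := fun p q => (IsCyclic.commGroup (α := I)).mul_comm p q
  have htwo : ∀ a b : I, a * a = 1 → a ≠ 1 → b * b = 1 → b ≠ 1 → a = b := fun a b h1 h2 h3 h4 => by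
    by_contra hab
    have hsub : ({1, a, b} : Finset I) ⊆ Finset.univ.filter fun x => x ^ 2 = 1 := by
      intro x hx
      simp only [Finset.mem_insert, Finset.mem_singleton] at hx
      rcases hx with rfl | rfl | rfl <;> simp [sq, h1, h3]
    have h := (Finset.card_le_card hsub).trans (IsCyclic.card_pow_eq_one_le (by norm_num : 0 < 2))
    rw [Finset.card_insert_of_notMem (by simp [Ne.symm h2, Ne.symm h4]), Finset.card_pair hab] at h
    omega
  refine ⟨fun x t c h1 h2 h3 h4 h5 => ?_, fun a b u h1 h2 h3 h4 h5 => absurd (htwo a b h1 h2 h3 h4) h5,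
    fun a b x h1 h2 h3 h4 h5 => absurd (htwo a b h1 h2 h3 h4) h5,
    fun x t h1 h2 h3 h4 h5 y => .inl (by rw [hcomm y, mul_inv_cancel_right]),
    fun a b h1 h2 h3 h4 h5 => absurd (htwo a b h1 h2 h3 h4) h5⟩
  rw [hcomm t, mul_inv_cancel_right] at h4
  exact absurd (mul_left_cancel (a := x) (b := x) (c := 1) (by rw [mul_one]; exact h4.symm)) h2

theorem facts_dihedral {k : ℕ} [NeZero k] : Facts (DihedralGroup k) := by
  have hone : (r (0 : ZMod k) : DihedralGroup k) = 1 := rfl
  have heq : ∀ {i : ZMod k}, (r i : DihedralGroup k) = 1 ↔ i = 0 := fun {i} =>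
    ⟨fun h => by injection h, fun h => h ▸ hone⟩
  have hcube : ∀ x : DihedralGroup k, x * x * x = 1 → x = 1 ∨ ∃ i, x = r i ∧ x ≠ 1 := by
    rintro (i | i) h
    · by_cases h' : r i = (1 : DihedralGroup k)
      · exact .inl h'
      · exact .inr ⟨i, rfl, h'⟩
    · exfalso
      rw [sr_mul_sr, r_mul_sr] at h
      exact nomatch h
  have huniq : ∀ i j : ZMod k, i + i = 0 → i ≠ 0 → j + j = 0 → j ≠ 0 → i = j := by
    intro i j h1 h2 h3 h4
    have hval : ∀ i : ZMod k, i + i = 0 → i ≠ 0 → 2 * i.val = k := fun i h1 h2 => by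
      have h5 := ZMod.val_add i i
      rw [h1, ZMod.val_zero] at h5
      have h6 := ZMod.val_lt i
      have h7 : i.val ≠ 0 := fun h => h2 ((ZMod.val_eq_zero i).1 h)
      obtain ⟨m, hm⟩ := Nat.dvd_of_mod_eq_zero h5.symm
      rcases m with _ | _ | m
      · omega
      · omega
      · nlinarith
    exact ZMod.val_injective k (by have := hval i h1 h2; have := hval j h3 h4; omega)
  have hrot : ∀ a b : DihedralGroup k, a * a = 1 → a ≠ 1 → b * b = 1 → b ≠ 1 → a ≠ b → a * b = b * a →
      ∃ i : ZMod k, i + i = 0 ∧ i ≠ 0 ∧ (r i = a ∨ r i = b ∨ r i = a * b) := by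
    rintro (i | i) (j | j) h1 h2 h3 h4 h5 h6
    · exact ⟨i, heq.1 (by rwa [r_mul_r] at h1), fun h => h2 (by rw [h, hone]), .inl rfl⟩
    · exact ⟨i, heq.1 (by rwa [r_mul_r] at h1), fun h => h2 (by rw [h, hone]), .inl rfl⟩
    · exact ⟨j, heq.1 (by rwa [r_mul_r] at h3), fun h => h4 (by rw [h, hone]), .inr (.inl rfl)⟩
    · refine ⟨j - i, ?_, fun h => h5 (by rw [sub_eq_zero.1 h]), .inr (.inr (by rw [sr_mul_sr]))⟩
      simp only [sr_mul_sr, r.injEq] at h6
      linear_combination h6
  refine ⟨?_, ?_, ?_, ?_, ?_⟩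
  · intro x t c h1 h2 h3 h4 h5
    obtain rfl | ⟨i, rfl, -⟩ := hcube x h1
    · exact absurd rfl h2
    rcases t with j | j
    · simp [r_mul_r, inv_r] at h4
      exact absurd (heq.2 (by linear_combination h4)) h2
    rcases c with m | m
    · simp only [r_mul_sr, sr_mul_r, sr.injEq] at h5
      rw [r_mul_r, heq]
      linear_combination -h5
    · simp [sr_mul_sr, hone]
  · intro a b u h1 h2 h3 h4 h5 h6 h7 h8 h9
    obtain ⟨i, hi, hi0, hab⟩ := hrot a b h1 h2 h3 h4 h5 h6
    have hne : r i ≠ u := fun h => by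
      have := h9 1
      simp only [one_mul, inv_one, mul_one] at this
      rcases hab with h' | h' | h'
      · exact this.1 (h.symm.trans h')
      · exact this.2.1 (h.symm.trans h')
      · exact this.2.2 (h.symm.trans h')
    rcases u with j | j
    · exfalso
      exact hne (by rw [huniq i j hi hi0 (heq.1 (by rwa [r_mul_r] at h7)) (fun h => h8 (by rw [h, hone]))])
    refine ⟨fun c hc => ?_, r i, ?_, fun h => hi0 (heq.1 h), hne⟩
    · rcases c with m | m
      · simp only [r_mul_sr, sr_mul_r, sr.injEq] at hc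
        rw [r_mul_r, heq]
        linear_combination -hc
      · simp [sr_mul_sr, hone]
    · rw [r_mul_sr, sr_mul_r, sr.injEq]
      linear_combination -hi
  · intro a b x h1 h2 h3 h4 h5 h6 h7 h8 h9
    obtain rfl | ⟨i, rfl, -⟩ := hcube x h7
    · exact absurd rfl h8
    refine absurd ?_ (h9 (sr 0))
    simp only [sr_mul_r, inv_sr, sr_mul_sr, r_mul_r, r.injEq, zero_add, zero_sub]
    rw [r_mul_r, r_mul_r, heq] at h7
    linear_combination -h7
  · intro x t h1 h2 h3 h4 h5 y
    obtain rfl | ⟨i, rfl, -⟩ := hcube x h1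
    · exact .inl (by group)
    rcases y with j | j
    · left; simp [r_mul_r, inv_r]
    · right
      simp only [sr_mul_r, inv_sr, sr_mul_sr, r_mul_r, r.injEq]
      rw [r_mul_r, r_mul_r, heq] at h1
      linear_combination -h1
  · intro a b h1 h2 h3 h4 h5 h6 h7
    obtain ⟨i, hi, hi0, -⟩ := hrot a b h1 h2 h3 h4 h5 h6
    have hord : orderOf (r (1 : ZMod k) : DihedralGroup k) = k := orderOf_r_one
    rw [DihedralGroup.nat_card] at h7
    refine ⟨r 1, ?_, by rw [hord, DihedralGroup.nat_card], by rw [hord]; exact fun h => h7 (h.mul_left 2), ?_⟩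
    · rw [hord]
      have h8 := ZMod.val_add i i
      rw [hi, ZMod.val_zero] at h8
      have h9 := ZMod.val_lt i
      have h10 : i.val ≠ 0 := fun h => hi0 ((ZMod.val_eq_zero i).1 h)
      obtain ⟨m, hm⟩ := Nat.dvd_of_mod_eq_zero h8.symm
      rcases m with _ | _ | m
      · omega
      · exact ⟨i.val, by omega⟩
      · nlinarith
    · rintro (j | j)
      · exact .inl ⟨(j.val : ℤ), by simp⟩
      · right
        refine ⟨by simp [sr_mul_sr, hone], ?_⟩
        simp [sr_mul_r, inv_sr, sr_mul_sr, inv_r]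

section finite

private theorem a4_cent : ∀ t : alternatingGroup (Fin 4), t * t = 1 → t ≠ 1 →
    (∀ c, c * t = t * c → c * c = 1) ∧ ∃ c, c * t = t * c ∧ c ≠ 1 ∧ c ≠ t := by decide

private theorem a5_cent : ∀ t : alternatingGroup (Fin 5), t * t = 1 → t ≠ 1 →
    (∀ c, c * t = t * c → c * c = 1) ∧ ∃ c, c * t = t * c ∧ c ≠ 1 ∧ c ≠ t := by decide +kernel

private theorem a5_inv : ∀ y : alternatingGroup (Fin 5), y * y * y = 1 → ∃ g, g * y * g⁻¹ = y * y := by
  decide +kernel

private theorem s4_inv : ∀ y : Equiv.Perm (Fin 4), y * y * y = 1 → ∃ g, g * y * g⁻¹ = y * y := by decide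

private theorem s4_cent : ∀ t : Equiv.Perm (Fin 4), t * t = 1 → t ≠ 1 →
    ((∀ c, c * t = t * c → c * c = 1) ∨
      ∀ x : Equiv.Perm (Fin 4), x * x * x = 1 → t * x * t⁻¹ = x * x → x = 1) ∧
    (Equiv.Perm.sign t = -1 → ∀ c, c * t = t * c → c * c = 1) ∧
    ∃ c, c * t = t * c ∧ c ≠ 1 ∧ c ≠ t := by decide +kernel

private theorem s4_double : ∀ t u : Equiv.Perm (Fin 4), t * t = 1 → t ≠ 1 → Equiv.Perm.sign t = 1 →
    u * u = 1 → u ≠ 1 → Equiv.Perm.sign u = 1 → ∃ g, g * u * g⁻¹ = t := by decide +kernel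

end finite

theorem facts_alt_four : Facts (alternatingGroup (Fin 4)) := by
  have hc : Nat.card (alternatingGroup (Fin 4)) = 12 := by
    rw [Nat.card_eq_fintype_card]; rfl
  have hne : ∀ x t : alternatingGroup (Fin 4), x * x * x = 1 → x ≠ 1 → t * x * t⁻¹ = x * x → t * t = 1 → False := by
    decide
  refine ⟨fun x t c h1 h2 h3 h4 _ => (hne x t h1 h2 h4 h3).elim, fun a b u _ _ _ _ _ _ h7 h8 _ => a4_cent u h7 h8,
    fun _ _ _ _ _ _ _ _ _ _ _ _ => hc, fun x t h1 h2 h3 h4 _ y => ?_, fun _ _ _ _ _ _ _ _ h => ?_⟩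
  · obtain rfl : x = 1 := by by_contra h; exact hne x t h1 h h4 h2
    exact .inl (by group)
  · exact absurd (hc ▸ by norm_num) h

theorem facts_alt_five : Facts (alternatingGroup (Fin 5)) := by
  have hc : Nat.card (alternatingGroup (Fin 5)) = 60 := by
    rw [Nat.card_eq_fintype_card]; rfl
  refine ⟨fun x t c h1 h2 h3 h4 h5 => ?_, fun a b u _ _ _ _ _ _ h7 h8 _ => a5_cent u h7 h8,
    fun a b x _ _ _ _ _ _ h7 h8 h9 => ?_, fun x t h1 h2 h3 h4 h5 y => ?_, fun _ _ _ _ _ _ _ _ h => ?_⟩
  · rcases eq_or_ne t 1 with rfl | ht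
    · refine absurd ?_ h2
      simpa using h4
    exact (a5_cent t h3 ht).1 c h5
  · obtain ⟨g, hg⟩ := a5_inv x h7
    exact absurd hg (h9 g)
  · obtain ⟨c, k1, k2, k3⟩ := (a5_cent t h2 h3).2
    rcases h5 c k1 with h | h <;> contradiction
  · exact absurd (hc ▸ by norm_num) h

theorem facts_perm_four : Facts (Equiv.Perm (Fin 4)) := by
  refine ⟨fun x t c h1 h2 h3 h4 h5 => ?_, fun a b u h1 h2 h3 h4 h5 h6 h7 h8 h9 => ?_,
    fun a b x _ _ _ _ _ _ h7 h8 h9 => ?_, fun x t h1 h2 h3 h4 h5 y => ?_, fun _ _ _ _ _ _ _ _ h => ?_⟩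
  · rcases eq_or_ne t 1 with rfl | ht
    · refine absurd ?_ h2
      simpa using h4
    rcases (s4_cent t h3 ht).1 with h | h
    · exact h c h5
    · exact absurd (h x h1 h4) h2
  · refine ⟨?_, (s4_cent u h7 h8).2.2⟩
    rcases Int.units_eq_one_or (Equiv.Perm.sign u) with hu | hu
    · exfalso
      rcases Int.units_eq_one_or (Equiv.Perm.sign a) with ha | ha
      · obtain ⟨g, hg⟩ := s4_double a u h1 h2 ha h7 h8 hu
        exact (h9 g).1 hg
      rcases Int.units_eq_one_or (Equiv.Perm.sign b) with hb | hb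
      · obtain ⟨g, hg⟩ := s4_double b u h3 h4 hb h7 h8 hu
        exact (h9 g).2.1 hg
      · obtain ⟨g, hg⟩ := s4_double (a * b) u (by
          calc a * b * (a * b) = a * (b * a) * b := by group
            _ = (a * a) * (b * b) := by rw [← h6]; group
            _ = 1 := by rw [h1, h3, mul_one]) (fun h => h5 (by
          calc a = a * (b * b) := by rw [h3, mul_one]
            _ = (a * b) * b := by group
            _ = b := by rw [h, one_mul])) (by simp [ha, hb]) h7 h8 hu
        exact (h9 g).2.2 hg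
    · exact (s4_cent u h7 h8).2.1 hu
  · obtain ⟨g, hg⟩ := s4_inv x h7
    exact absurd hg (h9 g)
  · obtain ⟨c, k1, k2, k3⟩ := (s4_cent t h2 h3).2.2
    rcases h5 c k1 with h | h <;> contradiction
  · rw [Nat.card_eq_fintype_card, Fintype.card_perm, Fintype.card_fin] at h
    exact absurd (by decide) h

/-- Dickson's list away from the characteristic. -/
theorem facts_of_dickson {G : Type*} [Group G] {F : Type u} [Field F] [Finite F] {p : ℕ} [Fact p.Prime]
    [CharP F p] {H : Subgroup G} [Finite H] (h : PSL2.DicksonCase F p H) (hp : ¬ p ∣ Nat.card H) : Facts H := by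
  cases h with
  | cyclic hc => exact facts_cyclic hc
  | dihedral r hr k hk h2 _ hcard iso =>
    haveI : NeZero k := ⟨by omega⟩
    exact Facts.of_equiv iso.some facts_dihedral
  | borel P hpH => exact absurd hpH hp
  | tetra _ iso => exact Facts.of_equiv iso.some facts_alt_four
  | octa _ iso => exact Facts.of_equiv iso.some facts_perm_four
  | icosa _ iso => exact Facts.of_equiv iso.some facts_alt_five
  | subfield K iso =>
    exfalso
    haveI : Finite K := Finite.of_injective _ Subtype.val_injective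
    haveI : CharP K p := (algebraMap K F).charP (algebraMap K F).injective p
    let u : Matrix.SpecialLinearGroup (Fin 2) K := ⟨!![1, 1; 0, 1], by simp [Matrix.det_fin_two]⟩
    have hpow : ∀ n : ℕ, ((u ^ n : Matrix.SpecialLinearGroup (Fin 2) K) : Matrix (Fin 2) (Fin 2) K) =
        !![1, (n : K); 0, 1] := fun n => by
      induction n with
      | zero => simp [Matrix.one_fin_two]
      | succ n ih =>
        rw [pow_succ, Matrix.SpecialLinearGroup.coe_mul, ih]
        simp [u, Matrix.mul_fin_two]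
        ring
    have hu : u ^ p = 1 := Subtype.ext (by rw [hpow]; simp [Matrix.one_fin_two])
    have hnc : u ∉ Subgroup.center (Matrix.SpecialLinearGroup (Fin 2) K) := fun h => by
      obtain ⟨c, -, hc⟩ := Matrix.SpecialLinearGroup.mem_center_iff.1 h
      simpa [u, Matrix.scalar_apply] using congrFun (congrFun hc 0) 1
    have key : ∀ {J : Type u} [Group J] [Finite J] (f : Matrix.SpecialLinearGroup (Fin 2) K →* J), f u ≠ 1 →
        p ∣ Nat.card J := fun f hf => by
      have h : orderOf (f u) = p := orderOf_eq_prime (by rw [← map_pow, hu, map_one]) hf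
      exact h ▸ orderOf_dvd_natCard _
    haveI : Finite (Matrix.ProjGenLinGroup (Fin 2) K) := Quotient.finite _
    rcases iso with ⟨⟨e⟩⟩ | ⟨-, ⟨e⟩⟩
    · apply hp
      rw [Nat.card_congr e.toEquiv]
      refine key (Matrix.ProjectiveSpecialLinearGroup.toPGL.comp (QuotientGroup.mk' _)) fun h => hnc ?_
      rw [MonoidHom.comp_apply, ← map_one Matrix.ProjectiveSpecialLinearGroup.toPGL] at h
      exact (QuotientGroup.eq_one_iff u).1 (Matrix.ProjectiveSpecialLinearGroup.toPGL_injective h)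
    · apply hp
      rw [Nat.card_congr e.toEquiv]
      exact key (QuotientGroup.mk' _) fun h => hnc ((QuotientGroup.eq_one_iff u).1 h)

end CfsgLib.Dim3Max.Six
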