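import Cfsg.Agent.Lib.Dim3Max.Six.PElt
import Cfsg.Agent.Lib.Dim3Max.Six.Grp

/-!
The centraliser of a homology of order two, and its image in the projective linear group of the axis.
-/

set_option autoImplicit false
set_option linter.unusedSectionVars false

namespace CfsgLib.Dim3Max.Six

open scoped Matrix MatrixGroups

universe u

variable {F : Type u} [Field F]

namespace Root

variable (r : Root F) (e : GL (Fin 3) F)

/-- The elements commuting with the homology of order two of the frame `e`. -/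
def comm : Subgroup (GL (Fin 3) F) := Subgroup.centralizer {e * r.u * e⁻¹}

variable {r e}

theorem mem_comm {c : GL (Fin 3) F} : c ∈ r.comm e ↔ c * (e * r.u * e⁻¹) = e * r.u * e⁻¹ * c :=
  Subgroup.mem_centralizer_singleton_iff

/-- The matrix in the frame. -/
def inFrame (e c : GL (Fin 3) F) : Matrix (Fin 3) (Fin 3) F := ((e⁻¹ * c * e : GL (Fin 3) F) : Matrix _ _ F)

theorem inFrame_mul (c d : GL (Fin 3) F) : inFrame e (c * d) = inFrame e c * inFrame e d := by
  rw [inFrame, inFrame, inFrame, ← Units.val_mul]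
  congr 1
  group

theorem inFrame_one : inFrame e 1 = 1 := by simp [inFrame]

theorem eq_of_inFrame {c d : GL (Fin 3) F} (h : inFrame e c = inFrame e d) : c = d :=
  mul_left_cancel (mul_right_cancel (Units.ext h : e⁻¹ * c * e = e⁻¹ * d * e))

theorem inFrame_zero {c : GL (Fin 3) F} (hc : c ∈ r.comm e) :
    inFrame e c 0 1 = 0 ∧ inFrame e c 0 2 = 0 ∧ inFrame e c 1 0 = 0 ∧ inFrame e c 2 0 = 0 := by
  have h : e⁻¹ * c * e * r.u = r.u * (e⁻¹ * c * e) := by
    have := mem_comm.1 hc
    calc e⁻¹ * c * e * r.u = e⁻¹ * (c * (e * r.u * e⁻¹)) * e := by group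
      _ = e⁻¹ * (e * r.u * e⁻¹ * c) * e := by rw [this]
      _ = _ := by group
  obtain ⟨b, hb⟩ : ∃ b, e⁻¹ * c * e = b := ⟨_, rfl⟩
  rw [inFrame, hb]
  rw [hb] at h
  have key : ∀ i j : Fin 3, ((i = 0 ∧ j ≠ 0) ∨ (i ≠ 0 ∧ j = 0)) → (b : Matrix (Fin 3) (Fin 3) F) i j = 0 := by
    intro i j hij
    have e1 := congrArg (fun g : GL (Fin 3) F => (g : Matrix (Fin 3) (Fin 3) F) i j) h
    fin_cases i <;> fin_cases j <;> simp [Root.u, Matrix.mul_apply, Fin.sum_univ_three] at hij e1 ⊢ <;>
      first
      | exact mul_left_cancel₀ r.h2 (by linear_combination e1)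
      | exact mul_left_cancel₀ r.h2 (by linear_combination -e1)
  exact ⟨key 0 1 (by simp), key 0 2 (by simp), key 1 0 (by simp), key 2 0 (by simp)⟩

/-- The lower block. -/
def low (A : Matrix (Fin 3) (Fin 3) F) : Matrix (Fin 2) (Fin 2) F := !![A 1 1, A 1 2; A 2 1, A 2 2]

variable (r e)

/-- The lower block as a homomorphism. -/
noncomputable def lowHom : r.comm e →* GL (Fin 2) F :=
  MonoidHom.toHomUnits
    { toFun := fun c => low (inFrame e c)
      map_one' := by simp [inFrame_one, low, Matrix.one_fin_two]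
      map_mul' := fun c d => by
        obtain ⟨a1, a2, a3, a4⟩ := inFrame_zero c.2
        obtain ⟨b1, b2, b3, b4⟩ := inFrame_zero d.2
        rw [Subgroup.coe_mul, inFrame_mul]
        ext i j
        fin_cases i <;> fin_cases j <;>
          simp [low, Matrix.mul_apply, Fin.sum_univ_three, Fin.sum_univ_two, a3, a4] }

/-- The eigenvalue on the centre. -/
noncomputable def top : r.comm e →* Fˣ :=
  MonoidHom.toHomUnits
    { toFun := fun c => inFrame e c 0 0
      map_one' := by simp [inFrame_one]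
      map_mul' := fun c d => by
        obtain ⟨a1, a2, a3, a4⟩ := inFrame_zero c.2
        rw [Subgroup.coe_mul, inFrame_mul]
        simp [Matrix.mul_apply, Fin.sum_univ_three, a1, a2] }

/-- The image on the axis. -/
noncomputable def pr : r.comm e →* Matrix.ProjGenLinGroup (Fin 2) F :=
  (Matrix.ProjGenLinGroup.mk).comp (r.lowHom e)

variable {r e}

theorem lowHom_val (c : r.comm e) :
    (r.lowHom e c : Matrix (Fin 2) (Fin 2) F) = low (inFrame e (c : GL (Fin 3) F)) := rfl

theorem top_val (c : r.comm e) : (r.top e c : F) = inFrame e (c : GL (Fin 3) F) 0 0 := rfl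

theorem ext_frame {c d : r.comm e} (h1 : r.lowHom e c = r.lowHom e d) (h2 : r.top e c = r.top e d) : c = d := by
  obtain ⟨a1, a2, a3, a4⟩ := inFrame_zero c.2
  obtain ⟨b1, b2, b3, b4⟩ := inFrame_zero d.2
  refine Subtype.ext (eq_of_inFrame (e := e) ?_)
  have h1' := congrArg (fun g : GL (Fin 2) F => (g : Matrix (Fin 2) (Fin 2) F)) h1
  have h2' := congrArg Units.val h2
  simp only [lowHom_val, low] at h1'
  rw [top_val, top_val] at h2'
  ext i j
  fin_cases i <;> fin_cases j <;>
    first
    | exact h2' | exact a1.trans b1.symm | exact a2.trans b2.symm | exact a3.trans b3.symm | exact a4.trans b4.symm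
    | exact congrFun (congrFun h1' 0) 0 | exact congrFun (congrFun h1' 0) 1
    | exact congrFun (congrFun h1' 1) 0 | exact congrFun (congrFun h1' 1) 1

theorem top_mul_det {c : r.comm e} (hc : (c : GL (Fin 3) F) ∈ sl3 F) :
    (r.top e c : F) * (r.lowHom e c : Matrix (Fin 2) (Fin 2) F).det = 1 := by
  have h : Matrix.GeneralLinearGroup.det (c : GL (Fin 3) F) = 1 := hc
  have hd : (inFrame e (c : GL (Fin 3) F)).det = 1 := by
    have : Matrix.GeneralLinearGroup.det (e⁻¹ * (c : GL (Fin 3) F) * e) = 1 := by simp [map_mul, h]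
    exact congrArg Units.val this
  obtain ⟨a1, a2, a3, a4⟩ := inFrame_zero c.2
  rw [← hd, top_val, lowHom_val, Matrix.det_fin_three]
  simp [low, Matrix.det_fin_two, a1, a2, a3, a4]
  ring

theorem pr_eq_one_iff {c : r.comm e} :
    r.pr e c = 1 ↔ ∃ b : F, (r.lowHom e c : Matrix (Fin 2) (Fin 2) F) = b • (1 : Matrix (Fin 2) (Fin 2) F) := by
  rw [pr, MonoidHom.comp_apply, Matrix.ProjGenLinGroup.mk_eq_one,
    Matrix.GeneralLinearGroup.mem_center_iff_val_mem_range_scalar]
  constructor <;> rintro ⟨b, hb⟩ <;> exact ⟨b, by simpa [Matrix.smul_one_eq_diagonal, eq_comm] using hb⟩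

end Root

variable [Fintype F] (p : ℕ) [Fact p.Prime] [CharP F p]

/-- A subgroup without elations centralising a homology of order two has order prime to `p`. -/
theorem NoElation.not_dvd_card {M : Subgroup (GL (Fin 3) F)} (hM : NoElation M) (r : Root F) (e : GL (Fin 3) F) :
    ¬ p ∣ Nat.card (M.subgroupOf (r.comm e)) := by
  intro hdvd
  obtain ⟨y, hy⟩ := exists_prime_orderOf_dvd_card' p hdvd
  have hyp : ((y : r.comm e) : GL (Fin 3) F) ^ p = 1 := by
    have := congrArg (fun z : M.subgroupOf (r.comm e) => ((z : r.comm e) : GL (Fin 3) F)) (hy ▸ pow_orderOf_eq_one y)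
    simpa using this
  obtain ⟨z, hz⟩ : ∃ z : GL (Fin 3) F, e⁻¹ * ((y : r.comm e) : GL (Fin 3) F) * e = z := ⟨_, rfl⟩
  have hzp : z ^ p = 1 := by
    rw [← hz, show e⁻¹ * ((y : r.comm e) : GL (Fin 3) F) * e =
      MulAut.conj e⁻¹ ((y : r.comm e) : GL (Fin 3) F) by simp, ← map_pow, hyp, map_one]
  have h3 := sub_one_cube_of_pow (Fact.out) hzp
  obtain ⟨a1, a2, a3, a4⟩ := Root.inFrame_zero (y : r.comm e).2
  rw [Root.inFrame, hz] at a1 a2 a3 a4
  obtain ⟨N, hN⟩ : ∃ N, (z : Matrix (Fin 3) (Fin 3) F) - 1 = N := ⟨_, rfl⟩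
  rw [hN] at h3
  have n1 : N 0 1 = 0 := by rw [← hN]; simpa using a1
  have n2 : N 0 2 = 0 := by rw [← hN]; simpa using a2
  have n3 : N 1 0 = 0 := by rw [← hN]; simpa using a3
  have n4 : N 2 0 = 0 := by rw [← hN]; simpa using a4
  have e00 : N 0 0 = 0 := by
    have := congrFun (congrFun h3 0) 0
    simpa [pow_succ, Matrix.mul_apply, Fin.sum_univ_three, n1, n2, n3, n4] using this
  have hNN : N * N = 0 := by
    obtain ⟨B, hB⟩ : ∃ B : Matrix (Fin 2) (Fin 2) F, B = !![N 1 1, N 1 2; N 2 1, N 2 2] := ⟨_, rfl⟩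
    have hB3 : B * B * B = 0 := by
      ext i j
      have := congrFun (congrFun h3 i.succ) j.succ
      fin_cases i <;> fin_cases j <;>
        simpa [hB, pow_succ, Matrix.mul_apply, Fin.sum_univ_three, Fin.sum_univ_two, n1, n2, n3, n4] using this
    have hdet : B.det = 0 := by
      have := congrArg Matrix.det hB3
      simpa [Matrix.det_mul] using this
    have hCH : B * B = B.trace • B := by
      ext i j
      rw [Matrix.det_fin_two] at hdet
      fin_cases i <;> fin_cases j <;> simp [Matrix.mul_apply, Fin.sum_univ_two, Matrix.trace_fin_two] <;>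
        first | ring1 | linear_combination -hdet | linear_combination hdet
    have hB2 : B * B = 0 := by
      rcases eq_or_ne B.trace 0 with h | h
      · rw [hCH, h, zero_smul]
      · have : B.trace • (B * B) = 0 := by
          rw [← smul_mul_assoc, ← hCH, hB3]
        exact (smul_eq_zero.1 this).resolve_left h
    ext i j
    fin_cases i <;> fin_cases j <;>
      simp [Matrix.mul_apply, Fin.sum_univ_three, n1, n2, n3, n4, e00] <;>
      [have := congrFun (congrFun hB2 0) 0; have := congrFun (congrFun hB2 0) 1;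
        have := congrFun (congrFun hB2 1) 0; have := congrFun (congrFun hB2 1) 1] <;>
      simpa [hB, Matrix.mul_apply, Fin.sum_univ_two] using this
  have hone : ((y : r.comm e) : GL (Fin 3) F) = 1 := by
    refine hM.eq_one_of_sq y.2 ?_
    have hyz : ((y : r.comm e) : GL (Fin 3) F) = e * z * e⁻¹ := by rw [← hz]; group
    have hd : (((y : r.comm e) : GL (Fin 3) F) : Matrix (Fin 3) (Fin 3) F) - 1 =
        (e : Matrix (Fin 3) (Fin 3) F) * N * ((e⁻¹ : GL (Fin 3) F) : Matrix (Fin 3) (Fin 3) F) := by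
      rw [hyz, Units.val_mul, Units.val_mul, ← hN, mul_sub, sub_mul, mul_one, Units.mul_inv]
    rw [hd]
    calc _ = (e : Matrix (Fin 3) (Fin 3) F) * (N * (((e⁻¹ : GL (Fin 3) F) : Matrix (Fin 3) (Fin 3) F) *
          (e : Matrix (Fin 3) (Fin 3) F)) * N) * ((e⁻¹ : GL (Fin 3) F) : Matrix (Fin 3) (Fin 3) F) := by
          simp only [mul_assoc]
      _ = 0 := by rw [Units.inv_mul, mul_one, hNN, mul_zero, zero_mul]
  have : y = 1 := Subtype.ext (Subtype.ext hone)
  rw [this, orderOf_one] at hy
  exact (Fact.out : p.Prime).ne_one hy.symm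

/-- Dickson's facts for the image of such a subgroup. -/
theorem NoElation.facts_image (p : ℕ) [Fact p.Prime] [CharP F p] {M : Subgroup (GL (Fin 3) F)} (hM : NoElation M) (r : Root F) (e : GL (Fin 3) F) :
    Facts ((M.subgroupOf (r.comm e)).map (r.pr e)) := by
  haveI : Finite (Matrix.ProjGenLinGroup (Fin 2) F) := Quotient.finite _
  refine facts_of_dickson (F := F) (p := p) (PSL2.dickson (MonoidHom.id _) Function.injective_id _) fun h => ?_
  exact hM.not_dvd_card p r e (h.trans (Subgroup.card_map_dvd _ _))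

end CfsgLib.Dim3Max.Six
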