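import Mathlib

/-!
Counting the conjugates of a subset of a finite group.
-/

set_option autoImplicit false
set_option linter.unusedSectionVars false

namespace CfsgLib.Dim3Max.Six

variable {G : Type*} [Group G]

/-- The union of the conjugates of a set. -/
def conjUnion (S : Set G) : Set G := {x | ∃ g : G, ∃ s ∈ S, g * s * g⁻¹ = x}

theorem subset_conjUnion (S : Set G) : S ⊆ conjUnion S := fun s hs => ⟨1, s, hs, by group⟩

theorem conjUnion_conj {S : Set G} {x : G} (h : x ∈ conjUnion S) (g : G) : g * x * g⁻¹ ∈ conjUnion S := by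
  obtain ⟨k, s, hs, rfl⟩ := h
  exact ⟨g * k, s, hs, by group⟩

theorem mem_conjUnion_of_conj {S : Set G} {x g : G} (h : g * x * g⁻¹ ∈ conjUnion S) : x ∈ conjUnion S := by
  simpa [mul_assoc] using conjUnion_conj h g⁻¹

variable [Finite G]

/-- If the conjugates of `S` meet `S` only through `N`, there are many of them. -/
theorem le_card_conjUnion (S : Set G) (N : Subgroup G) (h : ∀ g : G, ∀ s ∈ S, g * s * g⁻¹ ∈ S → g ∈ N) :
    Nat.card G * Nat.card S ≤ Nat.card (conjUnion S) * Nat.card N := by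
  classical
  choose g s hs he using fun x : conjUnion S => x.2
  rw [← Nat.card_prod, ← Nat.card_prod]
  have hx : ∀ v : G × S, v.1 * v.2 * v.1⁻¹ ∈ conjUnion S := fun v => ⟨v.1, v.2, v.2.2, rfl⟩
  have hn : ∀ v : G × S, (g ⟨_, hx v⟩)⁻¹ * v.1 ∈ N := fun v => by
    refine h _ v.2 v.2.2 ?_
    have h2 : (g ⟨_, hx v⟩)⁻¹ * v.1 * v.2 * ((g ⟨_, hx v⟩)⁻¹ * v.1)⁻¹ = s ⟨_, hx v⟩ := by
      calc (g ⟨_, hx v⟩)⁻¹ * v.1 * v.2 * ((g ⟨_, hx v⟩)⁻¹ * v.1)⁻¹
          = (g ⟨_, hx v⟩)⁻¹ * ((⟨_, hx v⟩ : conjUnion S) : G) * g ⟨_, hx v⟩ := by simp [mul_assoc]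
        _ = (g ⟨_, hx v⟩)⁻¹ * (g ⟨_, hx v⟩ * s ⟨_, hx v⟩ * (g ⟨_, hx v⟩)⁻¹) * g ⟨_, hx v⟩ := by rw [he]
        _ = s ⟨_, hx v⟩ := by group
    rw [h2]; exact hs _
  refine Nat.card_le_card_of_injective (fun v => ((⟨_, hx v⟩ : conjUnion S), (⟨_, hn v⟩ : N))) ?_
  rintro ⟨a, b⟩ ⟨a', b'⟩ hab
  simp only [Prod.mk.injEq, Subtype.mk.injEq] at hab
  obtain ⟨h1, h2⟩ := hab
  have hh : (⟨_, hx (a, b)⟩ : conjUnion S) = ⟨_, hx (a', b')⟩ := Subtype.ext h1
  rw [hh] at h2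
  obtain rfl := mul_left_cancel h2
  simp only [mul_left_inj, mul_right_inj] at h1
  exact Prod.ext rfl (Subtype.ext h1)

/-- If `N` normalises `S`, there are few conjugates. -/
theorem card_conjUnion_le (S : Set G) (N : Subgroup G) (h : ∀ n ∈ N, ∀ s ∈ S, n * s * n⁻¹ ∈ S) :
    Nat.card (conjUnion S) * Nat.card N ≤ Nat.card G * Nat.card S := by
  classical
  choose g s hs he using fun x : conjUnion S => x.2
  rw [← Nat.card_prod, ← Nat.card_prod]
  refine Nat.card_le_card_of_injective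
    (fun v => (g v.1 * (v.2 : G), (⟨((v.2 : G))⁻¹ * s v.1 * ((v.2 : G))⁻¹⁻¹, h _ (inv_mem v.2.2) _ (hs v.1)⟩ : S))) ?_
  rintro ⟨x, n⟩ ⟨x', n'⟩ hv
  simp only [Prod.mk.injEq, Subtype.mk.injEq] at hv
  obtain ⟨h1, h2⟩ := hv
  have key : ∀ (v : conjUnion S) (m : G), (v : G) = g v * m * (m⁻¹ * s v * m⁻¹⁻¹) * (g v * m)⁻¹ := fun v m => by
    conv_lhs => rw [← he v]
    group
  have hx : x = x' := Subtype.ext (by rw [key x n, key x' n', h1, h2])
  subst hx
  exact Prod.ext rfl (Subtype.ext (mul_left_cancel h1))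

/-- Disjoint subsets avoiding a set. -/
theorem card_add_le {A B C : Set G} (hA : A ⊆ C) (hB : B ⊆ C) (h : Disjoint A B) :
    Nat.card A + Nat.card B ≤ Nat.card C := by
  rw [Nat.card_coe_set_eq, Nat.card_coe_set_eq, Nat.card_coe_set_eq,
    ← Set.ncard_union_eq h (Set.toFinite A) (Set.toFinite B)]
  exact Set.ncard_le_ncard (Set.union_subset hA hB) (Set.toFinite C)

theorem card_union_le (A B : Set G) : Nat.card ↑(A ∪ B) ≤ Nat.card A + Nat.card B := by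
  rw [Nat.card_coe_set_eq, Nat.card_coe_set_eq, Nat.card_coe_set_eq]
  exact Set.ncard_union_le A B

theorem card_le_of_subset {A B : Set G} (h : A ⊆ B) : Nat.card A ≤ Nat.card B := by
  rw [Nat.card_coe_set_eq, Nat.card_coe_set_eq]
  exact Set.ncard_le_ncard h (Set.toFinite B)

end CfsgLib.Dim3Max.Six
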