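import Cfsg.Agent.Lib.Dim3Max.Six.Setting
import Cfsg.Agent.Lib.Dim3Max.Six.Count

/-!
Interface of the semisimple elements of prime order.
-/

set_option autoImplicit false

namespace CfsgLib.Dim3Max.Six

universe u

/-- An element of prime order commuting with no involution gives many elements of order divisible by it. -/
def SsStmt (F : Type u) [Field F] [Fintype F] : Prop :=
  ∀ (r : Root F) (p : ℕ) (M : Subgroup (GL (Fin 3) F)), Six r p M → ∀ (l : ℕ), l.Prime → 5 ≤ l → l ≠ p →
    l ∣ Nat.card M → (∀ y v : M, orderOf y = l → orderOf v = 2 → v * y ≠ y * v) →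
    ∃ S : Set M, (∀ v ∈ S, l ∣ orderOf v) ∧ 4 * Nat.card M ≤ 15 * Nat.card (conjUnion S)

end CfsgLib.Dim3Max.Six
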