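import Cfsg.Agent.Lib.Dim3Max.Six.A4Count
import Cfsg.Agent.Lib.Dim3Max.Six.Iface

/-!
The group normalises the extraspecial group when the field has no primitive ninth root of unity.
-/

set_option autoImplicit false
set_option linter.unusedSectionVars false
set_option linter.dupNamespace false
set_option linter.style.haveILetI false

namespace CfsgLib.Dim3Max.Six

open scoped Matrix MatrixGroups

universe u

variable {F : Type u} [Field F] [Fintype F] {r : Root F} {p : ℕ} {M : Subgroup (GL (Fin 3) F)}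

theorem orderOf_conj_eq {G : Type*} [Group G] (g x : G) : orderOf (g * x * g⁻¹) = orderOf x :=
  MulEquiv.orderOf_eq (MulAut.conj g) x

theorem Six.orderOf_xM (h : Six r p M) : orderOf h.xM = 3 := by
  haveI : Fact (Nat.Prime 3) := ⟨Nat.prime_three⟩
  refine orderOf_eq_prime (Subtype.ext (by rw [SubmonoidClass.coe_pow, pow_three']; exact r.x_cube)) fun e => ?_
  exact r.x_ne_om 0 (by rw [pow_zero]; exact congrArg Subtype.val e)

theorem Six.orderOf_conjUnion_x (h : Six r p M) {v : M} (hv : v ∈ conjUnion ({h.xM} : Set M)) : v ^ 3 = 1 := by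
  obtain ⟨g, s, rfl, rfl⟩ := hv
  have := pow_orderOf_eq_one h.xM
  rw [h.orderOf_xM] at this
  rw [conj_pow, this, mul_one, mul_inv_cancel]

/-- An element of odd prime order in the centraliser has an image of the same order. -/
theorem Six.pj_sq_ne (h : Six r p M) {c : CJ r M} {l : ℕ} (hl : l.Prime) (h5 : 5 ≤ l) (hc : l ∣ orderOf c) :
    pj r M c * pj r M c ≠ 1 := by
  intro e
  have h12 : c ^ 12 = 1 := by
    have h6 : (c * c) ^ 6 = 1 := by
      obtain ⟨k, hk | hk⟩ := h.pj_ker (c := c * c) (by rw [map_mul]; exact e) <;> rw [hk]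
      · have e3 := pow_orderOf_eq_one h.oc
        rw [h.orderOf_oc] at e3
        rw [← pow_mul, show k * 6 = 3 * (2 * k) by ring, pow_mul, e3, one_pow]
      · have e3 := pow_orderOf_eq_one h.oc
        rw [h.orderOf_oc] at e3
        rw [(show Commute (h.oc ^ k) h.jc from (show Commute h.oc h.jc from h.oc_comm _).pow_left k).mul_pow,
          ← pow_mul, show k * 6 = 3 * (2 * k) by ring, pow_mul, e3, one_pow, one_mul,
          show (6 : ℕ) = 2 * 3 by norm_num, pow_mul, sq, h.jc_sq, one_pow]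
    rw [show (12 : ℕ) = 2 * 6 by norm_num, pow_mul, sq]
    exact h6
  have := hc.trans (orderOf_dvd_of_pow_eq_one h12)
  have := Nat.le_of_dvd (by norm_num) this
  interval_cases l <;> first | omega | (exact absurd hl (by decide))

/-- The elements of order a multiple of an allowed prime are conjugate into the counted set. -/
theorem Six.mem_S (h : Six r p M) (hd6 : ∀ c : CJ r M, (dl r M c : F) ^ 6 = 1) {l : ℕ} (hl : l.Prime) (h5 : 5 ≤ l)
    {y i : M} (hy : orderOf y = l) (hi : i * y = y * i) (hij : ∃ g : M, g * i * g⁻¹ = (h.jc : M))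
    {v : M} (hv : l ∣ orderOf v) : v ∈ conjUnion (h.sset Set.univ) := by
  haveI := Fact.mk hl
  obtain ⟨g, hg⟩ := hij
  have hy1 : g * y * g⁻¹ ∈ CJ r M := by
    refine mem_CJ.2 (congrArg Subtype.val (show g * y * g⁻¹ * (h.jc : M) = (h.jc : M) * (g * y * g⁻¹) from ?_))
    rw [← hg]
    calc _ = g * (y * i) * g⁻¹ := by group
      _ = g * (i * y) * g⁻¹ := by rw [hi]
      _ = _ := by group
  obtain ⟨c, hc⟩ : ∃ c : CJ r M, c = ⟨_, hy1⟩ := ⟨_, rfl⟩
  have hco : orderOf c = l := by
    rw [hc, ← Subgroup.orderOf_coe, orderOf_conj_eq, hy]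
  -- a Sylow subgroup inside the centraliser
  obtain ⟨P, hP⟩ := (IsPGroup.of_card (p := l) (n := 1) (G := Subgroup.zpowers (c : M)) (by
    rw [Nat.card_zpowers, pow_one, Subgroup.orderOf_coe, hco])).exists_le_sylow
  have hPC : (P : Subgroup M) ≤ CJ r M := by
    haveI : Nontrivial (P : Subgroup M) := by
      refine ⟨⟨⟨(c : M), hP (Subgroup.mem_zpowers _)⟩, 1, fun e => hl.ne_one ?_⟩⟩
      have e' := congrArg Subtype.val e
      rw [← hco, ← Subgroup.orderOf_coe]
      exact orderOf_eq_one_iff.2 e'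
    haveI := P.isPGroup'.center_nontrivial
    obtain ⟨z, hz⟩ := exists_ne (1 : Subgroup.center (P : Subgroup M))
    have hzc : ((z : (P : Subgroup M)) : M) * (c : M) = (c : M) * ((z : (P : Subgroup M)) : M) :=
      congrArg Subtype.val (Subgroup.mem_center_iff.1 z.2 ⟨c, hP (Subgroup.mem_zpowers _)⟩).symm
    have hzC := h.centralizer_le (hd6 c) (h.pj_sq_ne hl h5 (by rw [hco])) hzc
    have hzl : l ∣ orderOf (⟨_, hzC⟩ : CJ r M) := by
      obtain ⟨k, hk⟩ := P.isPGroup' (z : (P : Subgroup M))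
      obtain ⟨m, -, hm⟩ := (Nat.dvd_prime_pow hl).1 (orderOf_dvd_of_pow_eq_one hk)
      rw [← Subgroup.orderOf_coe]
      show l ∣ orderOf ((z : (P : Subgroup M)) : M)
      rw [Subgroup.orderOf_coe, hm]
      refine dvd_pow_self l fun hm0 => hz (Subtype.ext ?_)
      rw [hm0, pow_zero, orderOf_eq_one_iff] at hm
      exact hm
    intro a ha
    exact h.centralizer_le (hd6 _) (h.pj_sq_ne hl h5 hzl)
      (congrArg Subtype.val (Subgroup.mem_center_iff.1 z.2 ⟨a, ha⟩))
  obtain ⟨Q, hQ⟩ := (IsPGroup.of_card (p := l) (n := 1) (G := Subgroup.zpowers (v ^ (orderOf v / l))) (by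
    rw [Nat.card_zpowers, pow_one, orderOf_pow_orderOf_div (orderOf_pos v).ne' hv])).exists_le_sylow
  obtain ⟨k, hk⟩ := MulAction.exists_smul_eq M Q P
  have hwC : k * v ^ (orderOf v / l) * k⁻¹ ∈ CJ r M := by
    refine hPC ?_
    rw [← hk, Sylow.coe_subgroup_smul]
    exact ⟨_, hQ (Subgroup.mem_zpowers _), rfl⟩
  have hwo : l ∣ orderOf (⟨_, hwC⟩ : CJ r M) := by
    rw [← Subgroup.orderOf_coe, orderOf_conj_eq, orderOf_pow_orderOf_div (orderOf_pos v).ne' hv]
  have hkv := h.centralizer_le (hd6 _) (h.pj_sq_ne hl h5 hwo) (v := k * v * k⁻¹) (by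
    show k * v * k⁻¹ * (k * v ^ (orderOf v / l) * k⁻¹) = k * v ^ (orderOf v / l) * k⁻¹ * (k * v * k⁻¹)
    rw [← conj_pow]
    exact ((Commute.refl _).pow_right _).eq)
  obtain ⟨d, hd⟩ : ∃ d : CJ r M, d = ⟨_, hkv⟩ := ⟨_, rfl⟩
  have hdo : l ∣ orderOf d := by rw [hd, ← Subgroup.orderOf_coe, orderOf_conj_eq]; exact hv
  refine mem_conjUnion_of_conj (g := k) (subset_conjUnion _ ⟨d, ⟨trivial, ?_, ?_⟩, by rw [hd]⟩)
  · rintro ⟨m, hm⟩
    refine h.pj_sq_ne hl h5 hdo ?_
    rcases (h.cj_invol hm.1 hm.2.1 hm.2.2).1 d (Commute.self_pow d m).eq with e | e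
    · rw [e, one_mul]
    · rw [e, ← map_mul, hm.1, map_one]
  · intro hz
    exact h.pj_sq_ne hl h5 hdo (by rw [h.pj_oc_zpow hz, one_mul])

/-- The elements of even order are conjugate into the counted set. -/
theorem Six.mem_S_even (h : Six r p M) (hno : ∀ e : F, e ^ 3 ≠ r.w) {v : M} (hv : 2 ∣ orderOf v) :
    v ∈ conjUnion (h.sset Set.univ) := by
  haveI : Fact (Nat.Prime 2) := ⟨Nat.prime_two⟩
  obtain ⟨m, hm⟩ : ∃ m, orderOf v / 2 = m := ⟨_, rfl⟩
  have hi : orderOf (v ^ m) = 2 := hm ▸ orderOf_pow_orderOf_div (orderOf_pos v).ne' hv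
  obtain ⟨g, hg⟩ := h.invol_conj hno (v := v ^ m) (by rw [← sq, ← hi, pow_orderOf_eq_one])
    (fun e => by rw [e, orderOf_one] at hi; norm_num at hi)
  have hw : g * v * g⁻¹ ∈ CJ r M := by
    refine mem_CJ.2 (congrArg Subtype.val (show g * v * g⁻¹ * (h.jc : M) = (h.jc : M) * (g * v * g⁻¹) from ?_))
    rw [← hg, ← conj_pow]
    exact ((Commute.refl _).pow_right _).eq
  obtain ⟨d, hd⟩ : ∃ d : CJ r M, d = ⟨_, hw⟩ := ⟨_, rfl⟩
  have hdm : d ^ m = h.jc := by
    refine Subtype.ext ?_
    rw [SubmonoidClass.coe_pow, hd]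
    show (g * v * g⁻¹) ^ m = _
    rw [conj_pow, hg]
  refine mem_conjUnion_of_conj (g := g) (subset_conjUnion _ ⟨d, ⟨trivial, ?_, ?_⟩, by rw [hd]⟩)
  · rintro ⟨k, hk1, hk2, hk3⟩
    refine hk3 ((invol_pow_eq hk1 hk2 (b := m) (by rw [hdm, h.jc_sq]) ?_).trans hdm)
    rw [hdm]
    intro e
    have := h.orderOf_jc
    rw [e, orderOf_one] at this
    norm_num at this
  · intro hz
    have := orderOf_dvd_of_mem_zpowers hz
    rw [h.orderOf_oc, hd, ← Subgroup.orderOf_coe, orderOf_conj_eq] at this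
    have := hv.trans this
    omega

/-- The centraliser of the involution normalises the group when its image is a four group. -/
theorem Six.CJ_le_normalizer (h : Six r p M) (h4 : Nat.card (Img r M) = 4) (c : CJ r M) :
    ((c : M) : GL (Fin 3) F) ∈ Cfsg.Geo.subgroupNormalizer r.grp := by
  classical
  haveI : Finite (Img r M) := Finite.of_surjective _ pj_surj
  obtain ⟨k1, k2, k3, k4, k5, k6⟩ := h.pj_klein
  set N : Subgroup (CJ r M) := (Cfsg.Geo.subgroupNormalizer r.grp).comap (M.subtype.comp (CJ r M).subtype)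
  have hf : h.fc ∈ N := r.f_mem_normalizer
  have hg : h.gc ∈ N := r.g_mem_normalizer
  have hj : h.jc ∈ N := r.j_mem_normalizer
  have ho : h.oc ∈ N := Subgroup.le_normalizer r.om_mem
  set a := pj r M h.fc
  set b := pj r M h.gc
  letI := Fintype.ofFinite (Img r M)
  have hall : ({1, a, b, a * b} : Finset (Img r M)) = Finset.univ := by
    refine Finset.eq_univ_of_card _ ?_
    rw [← Nat.card_eq_fintype_card, h4]
    have e1 : a * b ≠ a := fun e => k4 (mul_eq_left.1 e)
    have e2 : a * b ≠ b := fun e => k2 (mul_eq_right.1 e)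
    have e3 : a * b ≠ 1 := fun e => k5 (by rw [mul_eq_one_iff_eq_inv] at e; rw [e, inv_eq_of_mul_eq_one_right k3])
    simp [Ne.symm k2, Ne.symm k4, k5, Ne.symm e1, Ne.symm e2, Ne.symm e3]
  obtain ⟨q, hq, hqc⟩ : ∃ q ∈ N, pj r M q = pj r M c := by
    have := Finset.mem_univ (pj r M c)
    rw [← hall] at this
    simp only [Finset.mem_insert, Finset.mem_singleton] at this
    rcases this with e | e | e | e
    · exact ⟨1, one_mem N, by rw [map_one, e]⟩
    · exact ⟨_, hf, e.symm⟩
    · exact ⟨_, hg, e.symm⟩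
    · exact ⟨_, mul_mem hf hg, by rw [map_mul, e]⟩
  suffices c ∈ N from this
  obtain ⟨k, hk | hk⟩ := h.pj_ker (c := q⁻¹ * c) (by rw [map_mul, map_inv, hqc, inv_mul_cancel]) <;>
    rw [inv_mul_eq_iff_eq_mul] at hk <;> rw [hk]
  · exact mul_mem hq (pow_mem ho k)
  · exact mul_mem hq (mul_mem (pow_mem ho k) hj)

set_option maxHeartbeats 4000000 in
/-- The group normalises the extraspecial group. -/
theorem caseA (hss : SsStmt F) (r : Root F) (p : ℕ) (M : Subgroup (GL (Fin 3) F)) (h : Six r p M)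
    (hno : ∀ e : F, e ^ 3 ≠ r.w) : M ≤ Cfsg.Geo.subgroupNormalizer r.grp := by
  classical
  haveI := Fact.mk h.prime
  obtain ⟨n, hn0, hn2, hn3, hcard, hd6, hinv⟩ := h.dih hno
  set S := h.sset Set.univ with hS
  set CS := conjUnion S
  set CX := conjUnion ({h.xM} : Set M)
  have hSs : Nat.card CS * Nat.card (CJ r M) = Nat.card M * Nat.card S := by
    refine le_antisymm (card_conjUnion_le S (CJ r M) ?_) (le_card_conjUnion S (CJ r M) (h.sset_ti hd6 _))
    rintro g hg _ ⟨c, ⟨-, hc1, hc2⟩, rfl⟩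
    refine ⟨⟨g, hg⟩ * c * ⟨g, hg⟩⁻¹, ⟨trivial, fun hb => hc1 ?_, fun hz => hc2 ?_⟩, rfl⟩
    · have := h.bad_conj hb (⟨g, hg⟩ : CJ r M)⁻¹
      simpa [mul_assoc] using this
    · obtain ⟨k, hk⟩ := hz
      refine ⟨k, ?_⟩
      have hk' : h.oc ^ k = (⟨g, hg⟩ : CJ r M) * c * (⟨g, hg⟩ : CJ r M)⁻¹ := hk
      have hcm : Commute (h.oc ^ k) (⟨g, hg⟩ : CJ r M) := (show Commute h.oc _ from h.oc_comm _).zpow_left k
      calc h.oc ^ k = (⟨g, hg⟩ : CJ r M)⁻¹ * (h.oc ^ k * ⟨g, hg⟩) := by rw [hcm.eq, inv_mul_cancel_left]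
        _ = c := by rw [hk']; group
  have hSc := h.card_sset_univ
  rw [← hS, hcard] at hSc
  have hX : Nat.card CX * 9 = Nat.card M := h.card_X hno hd6
  rw [hcard] at hSs
  -- the size of the counted set
  have hcase : (Nat.card S + 3 = 12 * n) ∨ (4 ∣ n ∧ Nat.card S + 3 = 9 * n) := by
    rcases hinv with hinv | ⟨h4, hb, -⟩
    · left
      have : h.bad = ∅ := Set.eq_empty_of_forall_notMem fun c ⟨m, hm⟩ => hinv _ hm
      rw [this] at hSc
      simp only [Nat.card_coe_set_eq, Set.ncard_empty] at hSc ⊢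
      omega
    · exact .inr ⟨h4, by omega⟩
  have hnS : 5 * Nat.card M ≤ 8 * Nat.card CS := by
    refine Nat.le_of_mul_le_mul_right (c := 12 * n) ?_ (by omega)
    have h15 : 15 * n ≤ 2 * Nat.card S := by
      rcases hcase with e | ⟨⟨a, rfl⟩, e⟩ <;> omega
    calc 5 * Nat.card M * (12 * n) = 4 * (Nat.card M * (15 * n)) := by ring
      _ ≤ 4 * (Nat.card M * (2 * Nat.card S)) := by gcongr
      _ = 8 * Nat.card CS * (12 * n) := by rw [mul_assoc 8, hSs]; ring
  have hdisSX : Disjoint CS CX := by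
    rw [Set.disjoint_left]
    rintro _ ⟨k, _, ⟨d, -, rfl⟩, rfl⟩ ⟨k', _, rfl, e⟩
    refine h.x_not_CJ (g := k⁻¹ * k') ?_
    rw [show k⁻¹ * k' * h.xM * (k⁻¹ * k')⁻¹ = k⁻¹ * (k' * h.xM * k'⁻¹) * k by group, e,
      show k⁻¹ * (k * (d : M) * k⁻¹) * k = (d : M) by group]
    exact d.2
  have hCScj : ∀ v ∈ CS, ∃ c : CJ r M, orderOf v = orderOf c ∧ ∃ g : M, g * (c : M) * g⁻¹ = v := by
    rintro _ ⟨g, _, ⟨c, -, rfl⟩, rfl⟩
    exact ⟨c, by rw [orderOf_conj_eq, Subgroup.orderOf_coe], g, rfl⟩
  have hjM : (h.jc : M) * (h.jc : M) = 1 ∧ (h.jc : M) ≠ 1 := by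
    refine ⟨by rw [← Subgroup.coe_mul, h.jc_sq, OneMemClass.coe_one], fun e => ?_⟩
    have h2 := h.orderOf_jc
    rw [show h.jc = 1 from Subtype.ext e, orderOf_one] at h2
    norm_num at h2
  -- every further prime centralises an involution
  have hpair : ∀ l : ℕ, l.Prime → 5 ≤ l → l ≠ p → l ∣ Nat.card M →
      ∃ y i : M, orderOf y = l ∧ orderOf i = 2 ∧ i * y = y * i := by
    intro l hl h5 hlp hdvd
    by_contra hcon
    push Not at hcon
    obtain ⟨S', hS'o, hS'⟩ := hss r p M h l hl h5 hlp hdvd (fun y v hy hv => hcon y v hy hv)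
    have hS'o' : ∀ v ∈ conjUnion S', l ∣ orderOf v := by
      rintro _ ⟨g, s, hs, rfl⟩
      rw [orderOf_conj_eq]
      exact hS'o s hs
    have hd1 : Disjoint (CS ∪ CX) (conjUnion S') := by
      rw [Set.disjoint_left]
      rintro v (hv | hv) hv'
      · obtain ⟨c, hco, g, rfl⟩ := hCScj v hv
        have hl' := hS'o' _ hv'
        rw [hco] at hl'
        haveI : Fact (Nat.Prime 2) := ⟨Nat.prime_two⟩
        refine hcon ((c ^ (orderOf c / l) : CJ r M) : M) (h.jc : M) ?_ (orderOf_eq_prime (by rw [sq]; exact hjM.1) hjM.2) ?_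
        · rw [Subgroup.orderOf_coe, orderOf_pow_orderOf_div (orderOf_pos c).ne' hl']
        · rw [← Subgroup.coe_mul, h.jc_comm, Subgroup.coe_mul]
      · have := (hS'o' v hv').trans (orderOf_dvd_of_pow_eq_one (h.orderOf_conjUnion_x hv))
        have := Nat.le_of_dvd (by norm_num) this
        omega
    have h1 := card_add_le (C := CS ∪ CX) (Set.subset_union_left) (Set.subset_union_right) hdisSX
    have h2 := card_add_le (C := (Set.univ : Set M)) (Set.subset_univ (CS ∪ CX)) (Set.subset_univ (conjUnion S')) hd1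
    rw [Nat.card_univ] at h2
    have hM : 0 < Nat.card M := Nat.card_pos
    omega
  -- every element is counted
  have hcov : ∀ v : M, v ∈ (Subgroup.zpowers h.om' : Set M) ∪ CS ∪ CX ∨ v ^ (3 * p) = 1 ∧ v ^ 3 ≠ 1 ∧ p ∣ Nat.card M := by
    intro v
    by_cases h2 : 2 ∣ orderOf v
    · exact .inl (.inl (.inr (h.mem_S_even hno h2)))
    by_cases hl : ∃ l, l.Prime ∧ 5 ≤ l ∧ l ≠ p ∧ l ∣ orderOf v
    · obtain ⟨l, hl, h5, hlp, hlv⟩ := hl
      obtain ⟨y, i, hy, hi, hiy⟩ := hpair l hl h5 hlp (hlv.trans (orderOf_dvd_natCard v))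
      have hi2 : i * i = 1 := by rw [← sq, ← hi, pow_orderOf_eq_one]
      have hi1 : i ≠ 1 := fun e => by rw [e, orderOf_one] at hi; norm_num at hi
      exact .inl (.inl (.inr (h.mem_S hd6 hl h5 hy hiy (h.invol_conj hno hi2 hi1) hlv)))
    by_cases hp : p ∣ orderOf v
    · have hpM := hp.trans (orderOf_dvd_natCard v)
      obtain ⟨U, e, -, -, -, -, -, hU, -, -⟩ := h.unip hpM
      exact .inr ⟨(hU v hp).1, (hU v hp).2, hpM⟩
    left
    push Not at hl
    have h3 : orderOf v = 3 ^ (orderOf v).primeFactorsList.length := by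
      refine Nat.eq_prime_pow_of_unique_prime_dvd (orderOf_pos v).ne' fun {d} hd hdv => ?_
      rcases eq_or_ne d 3 with e | e
      · exact e
      exfalso
      have := hd.two_le
      have : d ≠ 4 := fun e4 => by rw [e4] at hd; norm_num at hd
      rcases eq_or_ne d 2 with e2 | e2
      · exact h2 (e2 ▸ hdv)
      rcases eq_or_ne d p with ep | ep
      · exact hp (ep ▸ hdv)
      exact hl d hd (by omega) ep hdv
    rcases h.three_elt hno (v := v) (by rw [← h3, pow_orderOf_eq_one]) with ⟨k, hk⟩ | ⟨m, hm⟩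
    · exact .inl (.inl ⟨k, Subtype.ext (by simpa [Six.om'] using hk.symm)⟩)
    · exact .inr ⟨m, _, rfl, hm⟩
  -- the scalars
  have hZ : Nat.card (Subgroup.zpowers h.om' : Set M) = 3 := (Nat.card_zpowers _).trans h.orderOf_om'
  have hZ3 : ∀ v ∈ (Subgroup.zpowers h.om' : Set M), v ^ 3 = 1 := fun v hv => by
    have := orderOf_dvd_of_mem_zpowers hv
    rw [h.orderOf_om'] at this
    exact orderOf_dvd_iff_pow_eq_one.1 this
  have hdZ : Disjoint (Subgroup.zpowers h.om' : Set M) (CS ∪ CX) := by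
    rw [Set.disjoint_left]
    rintro v ⟨k, rfl⟩ hv
    have hz : ∀ g : M, g * h.om' ^ k * g⁻¹ = h.om' ^ k := fun g => by
      have : Commute (h.om' ^ k) g := (show Commute h.om' g from Subtype.ext (r.om_comm _)).zpow_left k
      rw [← this.eq, mul_inv_cancel_right]
    rcases hv with ⟨g, s, ⟨c, ⟨-, -, hcz⟩, rfl⟩, e⟩ | ⟨g, s, rfl, e⟩
    · refine hcz ⟨k, Subtype.ext ?_⟩
      show ((h.oc ^ k : CJ r M) : M) = (c : M)
      rw [SubgroupClass.coe_zpow]
      show h.om' ^ k = (c : M)
      calc h.om' ^ k = g⁻¹ * h.om' ^ k * g⁻¹⁻¹ := (hz g⁻¹).symm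
        _ = g⁻¹ * (g * (c : M) * g⁻¹) * g⁻¹⁻¹ := by rw [e]
        _ = _ := by group
    · obtain ⟨j, hj⟩ := mem_powers_iff_mem_zpowers.2 (Subgroup.zpow_mem_zpowers h.om' k)
      have hj' : h.om' ^ j = h.om' ^ k := hj
      refine r.x_ne_om j ?_
      rw [← h.om'_pow, hj']
      have : h.xM = h.om' ^ k := by
        calc h.xM = g⁻¹ * (g * h.xM * g⁻¹) * g⁻¹⁻¹ := by group
          _ = g⁻¹ * h.om' ^ k * g⁻¹⁻¹ := by rw [e]
          _ = _ := hz g⁻¹
      exact congrArg Subtype.val this
  have hsum : Nat.card ↥((Subgroup.zpowers h.om' : Set M) ∪ (CS ∪ CX)) = 3 + (Nat.card CS + Nat.card CX) := by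
    rw [Nat.card_coe_set_eq, Nat.card_coe_set_eq, Nat.card_coe_set_eq, Set.ncard_union_eq hdZ,
      Set.ncard_union_eq hdisSX, ← Nat.card_coe_set_eq, hZ]
  -- the lattice of orders
  have hdivCJ : 12 * n ∣ Nat.card M := hcard ▸ Subgroup.card_subgroup_dvd_card (CJ r M)
  have h27 : 27 ∣ Nat.card M := r.card_grp ▸ h.twenty_four_dvd
  have hn' : n = 2 ∨ 4 ≤ n := by omega
  by_cases hpM : p ∣ Nat.card M
  · obtain ⟨U, e, hep, he0, hUc, hUmem, hne, -, ⟨d, hd, -⟩, -⟩ := h.unip hpM
    obtain ⟨q, hq⟩ := hep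
    have hp7 := h.seven_le
    have hdU : Disjoint ((Subgroup.zpowers h.om' : Set M) ∪ (CS ∪ CX)) (conjUnion U) := by
      rw [Set.disjoint_left]
      rintro v hv hvU
      obtain ⟨hv1, hv3⟩ := (hUmem v).1 hvU
      rcases hv with hv | hv | hv
      · exact hv3 (hZ3 v hv)
      · obtain ⟨c, hco, -⟩ := hCScj v hv
        have hc3 := orderOf_dvd_of_pow_eq_one hv1
        refine hv3 (orderOf_dvd_iff_pow_eq_one.1 (((Nat.Prime.coprime_iff_not_dvd h.prime).2 ?_).symm.dvd_of_dvd_mul_right hc3))
        rw [hco]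
        exact fun hd => h.not_dvd_CJ (hd.trans (orderOf_dvd_natCard c))
      · exact hv3 (h.orderOf_conjUnion_x hv)
    have htot : Nat.card M = 3 + (Nat.card CS + Nat.card CX) + Nat.card (conjUnion U) := by
      rw [← hsum, Nat.card_coe_set_eq, Nat.card_coe_set_eq (conjUnion U), ← Set.ncard_union_eq hdU, ← Set.ncard_univ]
      congr 1
      refine (Set.eq_univ_of_forall fun v => ?_).symm
      rcases hcov v with ((hv | hv) | hv) | ⟨h1, h2, -⟩
      · exact .inl (.inl hv)
      · exact .inl (.inr (.inl hv))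
      · exact .inl (.inr (.inr hv))
      · exact .inr ((hUmem v).2 ⟨h1, h2⟩)
    have hpe : (p : ℤ) = e * q + 1 := by
      have h1 : 1 ≤ p := by omega
      have : p = e * q + 1 := by omega
      exact_mod_cast this
    have hq0 : 0 < q := Nat.pos_of_ne_zero fun e0 => by rw [e0, mul_zero] at hq; omega
    rcases hcase with hs | ⟨h4, hs⟩
    · rcases hn' with hn | hn
      · subst hn
        have h216 : 216 * p ∣ Nat.card M := by
          refine Nat.Coprime.mul_dvd_of_dvd_of_dvd ?_ ?_ hpM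
          · rw [Nat.coprime_comm, Nat.Prime.coprime_iff_not_dvd h.prime]
            intro hd216
            rw [show (216 : ℕ) = 2 ^ 3 * 3 ^ 3 by norm_num] at hd216
            rcases (Nat.Prime.dvd_mul h.prime).1 hd216 with hh | hh <;>
              have := Nat.le_of_dvd (by norm_num) (h.prime.dvd_of_dvd_pow hh) <;> omega
          · exact (by norm_num : Nat.lcm 24 27 = 216) ▸ Nat.lcm_dvd hdivCJ h27
        obtain ⟨k, hk⟩ := h216
        have hcu : Nat.card (conjUnion U) = 216 * k * q := by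
          refine Nat.eq_of_mul_eq_mul_right (show 0 < 3 * p * e by positivity) ?_
          rw [hUc, hk, show 3 * p - 3 = 3 * (p - 1) by omega, hq]
          ring
        have hk0 : 0 < k := Nat.pos_of_ne_zero fun e0 => by
          rw [e0, mul_zero] at hk
          have : 0 < Nat.card M := Nat.card_pos
          omega
        have hkey : 3 * p * k = 3 + 216 * k * q := by
          have h7 : Nat.card CS * 8 = Nat.card M * 7 := by
            have hs' : Nat.card S = 21 := by omega
            rw [hs'] at hSs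
            omega
          have hk' : Nat.card M = 216 * (p * k) := by rw [hk]; ring
          have hcu' : Nat.card (conjUnion U) = 216 * (k * q) := by rw [hcu]; ring
          have : 3 * (p * k) = 3 + 216 * (k * q) := by omega
          linarith
        have he72 := arith_two (p := (p : ℤ)) (e := e) (q := q) (k := k) (by exact_mod_cast hk0) (by exact_mod_cast hq0) hpe (by exact_mod_cast hkey)
        refine absurd ?_ hne
        have he' : e = 72 := by exact_mod_cast he72
        have hp' : p = 72 * q + 1 := by rw [← he']; omega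
        have hk1 : k = 1 := by subst hp'; nlinarith
        rw [hk, he', hk1]; ring
      · exfalso
        have hM : 0 < Nat.card M := Nat.card_pos
        have : Nat.card CS + Nat.card CX ≤ Nat.card M := by omega
        have e1 : Nat.card M * (Nat.card S + 3) = Nat.card M * (12 * n) := by rw [hs]
        nlinarith [Nat.mul_le_mul_left (Nat.card M) hn, Nat.mul_le_mul_left (12 * n) this]
    · exfalso
      have hn4 : 4 ≤ n := Nat.le_of_dvd hn0 h4
      have h108 : 108 * n ∣ Nat.card M := by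
        rw [show 108 * n = 27 * (4 * n) by ring]
        refine Nat.Coprime.mul_dvd_of_dvd_of_dvd ?_ h27 ((Dvd.intro_left 3 (by ring)).trans hdivCJ)
        rw [show (27 : ℕ) = 3 ^ 3 by norm_num, Nat.coprime_pow_left_iff (by norm_num),
          Nat.Prime.coprime_iff_not_dvd Nat.prime_three]
        omega
      obtain ⟨k, hk⟩ : 108 * n * p ∣ Nat.card M := by
        refine Nat.Coprime.mul_dvd_of_dvd_of_dvd ?_ h108 hpM
        rw [Nat.coprime_comm, Nat.Prime.coprime_iff_not_dvd h.prime]
        intro hd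
        rcases (Nat.Prime.dvd_mul h.prime).1 hd with hh | hh
        · rw [show (108 : ℕ) = 2 ^ 2 * 3 ^ 3 by norm_num] at hh
          rcases (Nat.Prime.dvd_mul h.prime).1 hh with hh | hh <;>
            have := Nat.le_of_dvd (by norm_num) (h.prime.dvd_of_dvd_pow hh) <;> omega
        · exact h.not_dvd_CJ (hcard ▸ hh.mul_left 12)
      have hk0 : 0 < k := Nat.pos_of_ne_zero fun e0 => by
        rw [e0, mul_zero] at hk
        have : 0 < Nat.card M := Nat.card_pos
        omega
      have hcu : Nat.card (conjUnion U) = 108 * n * k * q := by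
        refine Nat.eq_of_mul_eq_mul_right (show 0 < 3 * p * e by positivity) ?_
        rw [hUc, hk, show 3 * p - 3 = 3 * (p - 1) by omega, hq]
        ring
      have hdiv : (e : ℤ) ∣ 36 * (n : ℤ) * k := by
        refine ⟨d, ?_⟩
        have : 3 * p * (e * d) = 3 * p * (36 * n * k) := by rw [← mul_assoc, ← hd, hk]; ring
        have := Nat.eq_of_mul_eq_mul_left (by omega) this
        exact_mod_cast this.symm
      have heq : 3 * p * k * (5 * n + 9) = 3 + 108 * n * k * q := by
        have h9 : Nat.card CX = 12 * n * p * k := by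
          rw [hk] at hX
          linarith
        have h12 : Nat.card CS = 9 * p * k * Nat.card S := by
          refine Nat.eq_of_mul_eq_mul_right (show 0 < 12 * n by omega) ?_
          rw [hSs, hk]
          ring
        rw [hcu, h9, h12, hk] at htot
        have hs' : (Nat.card S : ℤ) = 9 * n - 3 := by omega
        zify at htot ⊢
        rw [hs'] at htot
        linarith
      have hk1 : (k : ℤ) = 1 := by
        have h1 : (k : ℤ) * ((p : ℤ) * (5 * n + 9) - 36 * n * q) = 1 := by
          zify at heq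
          linarith
        rcases Int.eq_one_or_neg_one_of_mul_eq_one h1 with h' | h'
        · exact h'
        · omega
      exact arith_four (n := (n : ℤ)) (p := p) (e := e) (q := q) (k := k) (by omega) (by omega) (by omega) hpe (by omega)
        (by omega) (Int.natCast_dvd_natCast.2 h4) (by simpa [hk1] using hdiv) (by exact_mod_cast heq)
  · have htot : Nat.card M = 3 + (Nat.card CS + Nat.card CX) := by
      rw [← hsum, Nat.card_coe_set_eq, ← Set.ncard_univ]
      congr 1
      refine (Set.eq_univ_of_forall fun v => ?_).symm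
      rcases hcov v with ((hv | hv) | hv) | ⟨-, -, hpp⟩
      · exact .inl hv
      · exact .inr (.inl hv)
      · exact .inr (.inr hv)
      · exact absurd hpp hpM
    rcases hcase with hs | ⟨h4, hs⟩
    · rcases hn' with hn | hn
      · subst hn
        have hs' : Nat.card S = 21 := by omega
        rw [hs'] at hSs
        have h216 : Nat.card M = 216 := by omega
        set N := (Cfsg.Geo.subgroupNormalizer r.grp).subgroupOf M
        have hN1 : CJ r M ≤ N := fun v hv => h.CJ_le_normalizer (by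
          have := h.card_CJ
          omega) ⟨v, hv⟩
        have hN2 : r.grp.subgroupOf M ≤ N := fun v hv => Subgroup.le_normalizer hv
        have hd1 := Subgroup.card_dvd_of_le hN1
        have hd2 := Subgroup.card_dvd_of_le hN2
        rw [hcard] at hd1
        rw [Nat.card_congr (Subgroup.subgroupOfEquivOfLe h.grp_le).toEquiv, r.card_grp] at hd2
        have hd3 : 216 ∣ Nat.card N := (by norm_num : Nat.lcm 24 27 = 216) ▸ Nat.lcm_dvd hd1 hd2
        have htop : N = ⊤ := Subgroup.eq_top_of_le_card _ (by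
          rw [h216]
          exact Nat.le_of_dvd Nat.card_pos hd3)
        exact Subgroup.subgroupOf_eq_top.1 htop
      · exfalso
        have hM : 0 < Nat.card M := Nat.card_pos
        have : Nat.card CS + Nat.card CX ≤ Nat.card M := by omega
        have e1 : Nat.card M * (Nat.card S + 3) = Nat.card M * (12 * n) := by rw [hs]
        nlinarith [Nat.mul_le_mul_left (Nat.card M) hn, Nat.mul_le_mul_left (12 * n) this]
    · exfalso
      have hn4 : 4 ≤ n := Nat.le_of_dvd hn0 h4
      have h108 : 108 * n ∣ Nat.card M := by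
        rw [show 108 * n = 27 * (4 * n) by ring]
        refine Nat.Coprime.mul_dvd_of_dvd_of_dvd ?_ h27 ((Dvd.intro_left 3 (by ring)).trans hdivCJ)
        rw [show (27 : ℕ) = 3 ^ 3 by norm_num, Nat.coprime_pow_left_iff (by norm_num),
          Nat.Prime.coprime_iff_not_dvd Nat.prime_three]
        omega
      obtain ⟨k, hk⟩ := h108
      have h9 : Nat.card CX = 12 * n * k := by
        rw [hk] at hX
        linarith
      have h12 : Nat.card CS = 9 * k * Nat.card S := by
        refine Nat.eq_of_mul_eq_mul_right (show 0 < 12 * n by omega) ?_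
        rw [hSs, hk]
        ring
      rw [h9, h12, hk] at htot
      have hs' : (Nat.card S : ℤ) = 9 * n - 3 := by omega
      zify at htot
      rw [hs'] at htot
      rcases Nat.eq_zero_or_pos k with rfl | hk0
      · simp at htot
      · nlinarith

end CfsgLib.Dim3Max.Six
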