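import Cfsg.Agent.Lib.Dim3Max.Six.Sylow
import Cfsg.Agent.Lib.Dim3Max.Six.Count

/-!
The three-elements of a group containing a monomial element of order nine with cube a scalar: the diagonal
subgroup, the Sylow three-subgroup and a lower bound on the number of non-scalar three-elements.
-/

set_option autoImplicit false
set_option linter.unusedSectionVars false

namespace CfsgLib.Dim3Max.Six

open scoped Matrix MatrixGroups

universe u

variable {F : Type u} [Field F]

namespace ThreeB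

open Root (low)

variable {r : Root F} {e : Fˣ}

/-- The element of order nine. -/
noncomputable def zel (r : Root F) (e : Fˣ) : GL (Fin 3) F := scl e * r.s

theorem zel_val : (zel r e : Matrix (Fin 3) (Fin 3) F) = Matrix.diagonal ![(e : F), e * r.w, e * r.w] := by
  rw [zel, scl_mul_val]
  ext i j
  fin_cases i <;> fin_cases j <;> simp [Root.s]

theorem zel_comm {g : GL (Fin 3) F} (h : r.s * g = g * r.s) : zel r e * g = g * zel r e := by
  rw [zel, mul_assoc, h, ← mul_assoc, scl_comm, mul_assoc]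

theorem zel_cube (he : (e : F) ^ 3 = r.w) : zel r e ^ 3 = r.om := by
  refine Units.ext ?_
  rw [Units.val_pow_eq_pow_val, zel_val, Matrix.diagonal_pow, r.om_val]
  ext i j
  fin_cases i <;> fin_cases j <;> simp [mul_pow, he] <;> linear_combination r.w * r.w_cube

theorem zel_f : zel r e * r.f * (zel r e)⁻¹ = r.g := by
  calc zel r e * r.f * (zel r e)⁻¹ = scl e * (r.s * r.f * r.s⁻¹) * (scl e)⁻¹ := by rw [zel]; group
    _ = r.g := by rw [scl_comm, mul_inv_cancel_right, Root.g]

theorem low_z : low (Root.inFrame r.ej (zel r e)) = !![(e : F), 0; 0, (e : F) * r.w] := by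
  rw [r.inFrame_eq (B := !![(e : F) * r.w, 0, 0; 0, (e : F), 0; 0, 0, (e : F) * r.w]) (by
    rw [zel_val]
    ext i j
    fin_cases i <;> fin_cases j <;> simp [Root.ej, Matrix.mul_apply, Fin.sum_univ_three] <;> ring)]
  rfl

/-- A polynomial identity of degree two is preserved by conjugation. -/
theorem two_values {g s s' : GL (Fin 3) F} (hg : g * s * g⁻¹ = s') {a b : F} {d : Fin 3 → F}
    (hs : ((s : Matrix (Fin 3) (Fin 3) F) - a • 1) * ((s : Matrix (Fin 3) (Fin 3) F) - b • 1) = 0)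
    (hd : (s' : Matrix (Fin 3) (Fin 3) F) = Matrix.diagonal d) (i : Fin 3) : d i = a ∨ d i = b := by
  have hc : ∀ c : F, (s' : Matrix (Fin 3) (Fin 3) F) - c • 1 = (g : Matrix (Fin 3) (Fin 3) F) *
      ((s : Matrix (Fin 3) (Fin 3) F) - c • 1) * ((g⁻¹ : GL (Fin 3) F) : Matrix (Fin 3) (Fin 3) F) := by
    intro c
    rw [← hg, Units.val_mul, Units.val_mul, mul_sub, sub_mul, mul_smul_comm, mul_one, smul_mul_assoc, Units.mul_inv]
  have h0 : ((s' : Matrix (Fin 3) (Fin 3) F) - a • 1) * ((s' : Matrix (Fin 3) (Fin 3) F) - b • 1) = 0 := by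
    rw [hc, hc]
    calc _ = (g : Matrix (Fin 3) (Fin 3) F) * (((s : Matrix (Fin 3) (Fin 3) F) - a • 1) *
          (((g⁻¹ : GL (Fin 3) F) : Matrix (Fin 3) (Fin 3) F) * (g : Matrix (Fin 3) (Fin 3) F)) *
          ((s : Matrix (Fin 3) (Fin 3) F) - b • 1)) * ((g⁻¹ : GL (Fin 3) F) : Matrix (Fin 3) (Fin 3) F) := by
          simp only [mul_assoc]
      _ = 0 := by rw [Units.inv_mul, mul_one, hs, mul_zero, zero_mul]
  have h1 := congrFun (congrFun h0 i) i
  rw [hd, Matrix.smul_one_eq_diagonal, Matrix.smul_one_eq_diagonal, Matrix.diagonal_sub, Matrix.diagonal_sub,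
    Matrix.diagonal_mul_diagonal, Matrix.diagonal_apply_eq, Matrix.zero_apply, mul_eq_zero, sub_eq_zero,
    sub_eq_zero] at h1
  exact h1

theorem diag_two {s : GL (Fin 3) F} {d : Fin 3 → F} (hd : (s : Matrix (Fin 3) (Fin 3) F) = Matrix.diagonal d)
    {a b : F} (h : ∀ i, d i = a ∨ d i = b) :
    ((s : Matrix (Fin 3) (Fin 3) F) - a • 1) * ((s : Matrix (Fin 3) (Fin 3) F) - b • 1) = 0 := by
  rw [hd, Matrix.smul_one_eq_diagonal, Matrix.smul_one_eq_diagonal, Matrix.diagonal_sub, Matrix.diagonal_sub,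
    Matrix.diagonal_mul_diagonal, ← Matrix.diagonal_zero]
  congr 1
  funext i
  rcases h i with h | h <;> simp [h]

/-- A diagonal element commutes with the diagonal generator. -/
theorem comm_x_of_diag {v : GL (Fin 3) F} {t : Fin 3 → F} (h : (v : Matrix (Fin 3) (Fin 3) F) = Matrix.diagonal t) :
    v * r.x = r.x * v := by
  refine Units.ext ?_
  rw [Units.val_mul, Units.val_mul, h]
  ext i j
  fin_cases i <;> fin_cases j <;> simp [Root.x, Matrix.diagonal_mul, Matrix.mul_diagonal, mul_comm]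

/-- The centraliser of a diagonal element with three distinct entries is diagonal. -/
theorem diag_of_comm_distinct {v s : GL (Fin 3) F} {d : Fin 3 → F}
    (hd : (s : Matrix (Fin 3) (Fin 3) F) = Matrix.diagonal d) (hne : ∀ i j, i ≠ j → d i ≠ d j)
    (h : v * s = s * v) : v * r.x = r.x * v := by
  refine comm_x_of_diag (t := fun i => (v : Matrix (Fin 3) (Fin 3) F) i i) ?_
  ext i j
  rcases eq_or_ne i j with rfl | hij
  · rw [Matrix.diagonal_apply_eq]
  rw [Matrix.diagonal_apply_ne _ hij]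
  have e1 := congrArg (fun z : GL (Fin 3) F => (z : Matrix (Fin 3) (Fin 3) F) i j) h
  simp [hd, Matrix.mul_diagonal, Matrix.diagonal_mul] at e1
  by_contra hv
  exact hne i j hij (mul_left_cancel₀ hv (by linear_combination -e1))

variable [Fintype F] {p : ℕ} {M : Subgroup (GL (Fin 3) F)}

/-- The image of the centraliser of the involution has twelve elements, and the centraliser of the element of
order three in it is cyclic. -/
theorem image_twelve (h : Six r p M) (he : (e : F) ^ 3 = r.w) :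
    Nat.card (Img r M) = 12 ∧ ∀ c ∈ M, c * r.j = r.j * c → c * zel r e = zel r e * c →
      c * r.x = r.x * c ∨ c * r.j * r.x = r.x * (c * r.j) := by
  classical
  have hzM : zel r e ∈ M := h.z_mem e he
  have hzj : zel r e * r.j = r.j * zel r e := zel_comm r.s_j
  have hzx : zel r e * r.x = r.x * zel r e := zel_comm r.s_x
  obtain ⟨z', hz'⟩ : ∃ z', cm hzM hzj = z' := ⟨_, rfl⟩
  obtain ⟨X, hX⟩ : ∃ X, im r M z' = X := ⟨_, rfl⟩
  have hz'v : (z'.1 : GL (Fin 3) F) = zel r e := by rw [← hz']; rfl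
  obtain ⟨a, b, -, -, -, a1, a2, b1, b2, hab, cab, af, bg⟩ := h.klein
  have hX3 : X * X * X = 1 := by
    rw [← hX, ← map_mul, ← map_mul, show z' * z' * z' = cm (pow_mem h.om_mem 1) (r.om_pow_comm 1 r.j) from
      Subtype.ext (Subtype.ext (by
        show (z'.1 : GL (Fin 3) F) * z'.1 * z'.1 = r.om ^ 1
        rw [hz'v, ← pow_three', zel_cube he, pow_one])), im_om_pow h]
  have hX1 : X ≠ 1 := by
    rw [← hX, Ne, im_eq_one]
    rintro ⟨c, hc⟩
    rw [hz'v, low_z] at hc
    have e0 := congrFun (congrFun hc 0) 0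
    have e1 := congrFun (congrFun hc 1) 1
    simp at e0 e1
    exact r.w_ne_one (mul_left_cancel₀ e.ne_zero (by linear_combination e1 - e0))
  have hXA : X * im r M a * X⁻¹ = im r M b := by
    rw [← hX, ← map_inv, ← map_mul, ← map_mul]
    congr 1
    refine Subtype.ext (Subtype.ext ?_)
    show (z'.1 : GL (Fin 3) F) * a.1 * (z'.1 : GL (Fin 3) F)⁻¹ = b.1
    rw [hz'v, af, bg, zel_f]
  have hno : ∀ g, g * X * g⁻¹ ≠ X * X := by
    intro g hg
    obtain ⟨c, rfl⟩ := im_surj g
    have h1 : im r M (c * z' * c⁻¹ * (z' * z')⁻¹) = 1 := by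
      simp only [map_mul, map_inv, hX, hg, mul_inv_cancel]
    obtain ⟨k, hk⟩ := h.kernel h1
    obtain ⟨κ, hκ, hκ3, hκz⟩ : ∃ κ : GL (Fin 3) F, ((c * z' * c⁻¹ * (z' * z')⁻¹).1 : GL (Fin 3) F) = κ ∧
        (κ ^ 3 = 1 ∨ κ ^ 3 = r.j) ∧ κ * zel r e = zel r e * κ := by
      rcases hk with hk | hk
      · exact ⟨_, hk, .inl (r.om_pow_three k), r.om_pow_comm k _⟩
      · refine ⟨_, hk, .inr ?_, ?_⟩
        · rw [(show Commute (r.om ^ k) r.j from r.om_pow_comm k r.j).mul_pow, r.om_pow_three, one_mul, pow_succ,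
            sq, r.j_sq, one_mul]
        · rw [mul_assoc, ← hzj, ← mul_assoc, r.om_pow_comm, mul_assoc]
    have hconj : (c.1 : GL (Fin 3) F) * zel r e * (c.1 : GL (Fin 3) F)⁻¹ = κ * (zel r e * zel r e) := by
      rw [← hκ, ← hz'v]
      show _ = (c.1 : GL (Fin 3) F) * z'.1 * (c.1 : GL (Fin 3) F)⁻¹ *
        ((z'.1 : GL (Fin 3) F) * z'.1)⁻¹ * ((z'.1 : GL (Fin 3) F) * z'.1)
      rw [inv_mul_cancel_right]
    have e3 := congrArg (· ^ 3) hconj
    simp only [conj_pow, zel_cube he] at e3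
    rw [← r.om_comm, mul_inv_cancel_right,
      (show Commute κ (zel r e * zel r e) from (show Commute κ (zel r e) from hκz).mul_right hκz).mul_pow,
      (Commute.refl (zel r e)).mul_pow, zel_cube he] at e3
    rcases hκ3 with h3 | h3 <;> rw [h3] at e3
    · rw [one_mul] at e3
      have := left_eq_mul.1 e3
      exact r.w_ne_one (by simpa [r.om_val] using congrArg (fun g : GL (Fin 3) F =>
        (g : Matrix (Fin 3) (Fin 3) F) 0 0) this)
    · have hj : r.j = r.om ^ 2 := by
        have e4 : r.j * r.om = 1 := by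
          rw [← mul_assoc] at e3
          exact (mul_right_cancel (e3.symm.trans (one_mul r.om).symm) :)
        rw [eq_inv_of_mul_eq_one_left e4]
        exact inv_eq_of_mul_eq_one_right (by rw [sq, ← mul_assoc]; exact r.om_cube)
      exact r.j_ne_scalar (r.w ^ 2) (by rw [hj, r.om_pow_val])
  have h12 : Nat.card (Img r M) = 12 :=
    h.facts.four _ _ X a1 a2 b1 b2 hab cab hX3 hX1 hno
  refine ⟨h12, fun c hc hcj hcz => ?_⟩
  -- every element is a product
  obtain ⟨A, hA⟩ : ∃ A, im r M a = A := ⟨_, rfl⟩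
  obtain ⟨B, hB⟩ : ∃ B, im r M b = B := ⟨_, rfl⟩
  simp only [hA, hB] at a1 a2 b1 b2 hab cab hXA
  have hcab : Commute A B := cab
  let V : Fin 4 → Img r M := ![1, A, B, A * B]
  have hVc : ∀ i j, Commute (V i) (V j) := fun i j => by
    fin_cases i <;> fin_cases j <;> simp [V, Commute.refl, hcab, hcab.symm, Commute.mul_left, Commute.mul_right]
  have hV2 : ∀ i, V i * V i = 1 := fun i => by
    have e4 : A * B * (A * B) = 1 := by rw [hcab.symm.mul_mul_mul_comm, a1, b1, one_mul]
    fin_cases i <;> simp [V, a1, b1, e4]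
  have hVinj : Function.Injective V := by
    have hAB1 : A * B ≠ 1 := fun e1 => hab (mul_left_cancel (a1.trans e1.symm))
    intro i j hij
    fin_cases i <;> fin_cases j <;>
      simp [V, a2, b2, hab, a2.symm, b2.symm, hab.symm, hAB1, hAB1.symm] at hij ⊢
  have hX2 : X⁻¹ = X * X := inv_eq_of_mul_eq_one_left hX3
  haveI : Finite (Img r M) := Nat.finite_of_card_ne_zero (by omega)
  have hbij : Function.Bijective fun im : Fin 4 × Fin 3 => V im.1 * X ^ (im.2 : ℕ) := by
    rw [Nat.bijective_iff_injective_and_card, h12, Nat.card_prod, Nat.card_fin, Nat.card_fin]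
    refine ⟨?_, rfl⟩
    rintro ⟨i, m⟩ ⟨j, n⟩ heq
    simp only at heq
    have hw : V j * V i = X ^ (n : ℕ) * (X ^ (m : ℕ))⁻¹ := by
      calc V j * V i = V j * (V i * X ^ (m : ℕ)) * (X ^ (m : ℕ))⁻¹ := by group
        _ = V j * V j * X ^ (n : ℕ) * (X ^ (m : ℕ))⁻¹ := by rw [heq]; group
        _ = _ := by rw [hV2, one_mul]
    have hw2 : (V j * V i) ^ 2 = 1 := by rw [sq, (hVc i j).mul_mul_mul_comm, hV2, hV2, one_mul]
    have hw3 : (V j * V i) ^ 3 = 1 := by
      rw [hw, ((Commute.refl X).pow_pow _ _).inv_right.mul_pow, inv_pow, ← pow_mul, ← pow_mul,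
        mul_comm (n : ℕ), mul_comm (m : ℕ), pow_mul, pow_mul, pow_three', hX3, one_pow, one_pow, inv_one, one_mul]
    rw [pow_succ, hw2, one_mul] at hw3
    have hij : i = j := hVinj (mul_left_cancel (hw3.trans (hV2 j).symm))
    subst hij
    have hmn := mul_left_cancel heq
    have hord : orderOf X = 3 := by
      haveI : Fact (Nat.Prime 3) := ⟨Nat.prime_three⟩
      exact orderOf_eq_prime (by rw [pow_three']; exact hX3) hX1
    exact Prod.ext rfl (Fin.ext (pow_injOn_Iio_orderOf (by rw [hord]; exact m.2) (by rw [hord]; exact n.2) hmn))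
  obtain ⟨⟨i, m⟩, him⟩ := hbij.2 (im r M (cm hc hcj))
  simp only at him
  have hcX : Commute (im r M (cm hc hcj)) X := by
    rw [← hX, Commute, SemiconjBy, ← map_mul, ← map_mul]
    congr 1
    refine Subtype.ext (Subtype.ext ?_)
    show c * (z'.1 : GL (Fin 3) F) = (z'.1 : GL (Fin 3) F) * c
    rw [hz'v, hcz]
  have hVX : Commute (V i) X := by
    have h1 : V i = im r M (cm hc hcj) * (X ^ (m : ℕ))⁻¹ := by rw [← him, mul_inv_cancel_right]
    rw [h1]
    exact hcX.mul_left ((Commute.refl X).pow_left _).inv_left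
  have hAX : ¬ Commute A X := fun hc' => hab (by rw [← hXA, ← hc'.eq, mul_inv_cancel_right])
  have hi : i = 0 := by
    fin_cases i
    · rfl
    · exact absurd hVX hAX
    · exfalso
      have h1 : X * B * X⁻¹ = B := by rw [← (show Commute B X from hVX).eq, mul_inv_cancel_right]
      exact hab (mul_left_cancel (mul_right_cancel (hXA.trans h1.symm)))
    · exfalso
      have h1 : X * (A * B) * X⁻¹ = A * B := by rw [← (show Commute (A * B) X from hVX).eq, mul_inv_cancel_right]
      have h2 : X * B * X⁻¹ = A := by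
        have : B * (X * B * X⁻¹) = B * A := by
          rw [← hcab.eq, ← h1]
          nth_rw 1 [← hXA]
          group
        exact mul_left_cancel this
      refine hAX ?_
      have h3 : Commute A (X * X) := by
        have : X * X * A * (X * X)⁻¹ = A := by
          calc X * X * A * (X * X)⁻¹ = X * (X * A * X⁻¹) * X⁻¹ := by group
            _ = A := by rw [hXA, h2]
        exact (mul_inv_eq_iff_eq_mul.1 this).symm
      have h4 : X = X * X * (X * X) := by rw [← mul_assoc, hX3, one_mul]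
      rw [h4]
      exact h3.mul_right h3
  subst hi
  simp only [V, Matrix.cons_val_zero, one_mul] at him
  have h1 : im r M (cm hc hcj * (z' ^ (m : ℕ))⁻¹) = 1 := by
    rw [map_mul, map_inv, map_pow, hX, him, mul_inv_cancel]
  obtain ⟨k, hk⟩ := h.kernel h1
  have hcv : c = ((cm hc hcj * (z' ^ (m : ℕ))⁻¹).1 : GL (Fin 3) F) * zel r e ^ (m : ℕ) := by
    show c = c * ((z'.1 : GL (Fin 3) F) ^ (m : ℕ))⁻¹ * zel r e ^ (m : ℕ)
    rw [hz'v, inv_mul_cancel_right]
  have hzm : zel r e ^ (m : ℕ) * r.x = r.x * zel r e ^ (m : ℕ) :=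
    ((show Commute (zel r e) r.x from hzx).pow_left _).eq
  have hgood : (r.om ^ k * zel r e ^ (m : ℕ)) * r.x = r.x * (r.om ^ k * zel r e ^ (m : ℕ)) := by
    rw [mul_assoc, hzm, ← mul_assoc, r.om_pow_comm k r.x, mul_assoc]
  rcases hk with hk | hk <;> rw [hk] at hcv
  · left; rw [hcv]; exact hgood
  · right
    rw [show c * r.j = r.om ^ k * zel r e ^ (m : ℕ) from ?_]
    · exact hgood
    rw [hcv, mul_assoc (r.om ^ k * r.j),
      ((show Commute (zel r e) r.j from hzj).pow_left _).eq, ← mul_assoc, mul_assoc (r.om ^ k), r.j_sq, mul_one]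

/-- The diagonal elements of the group have entries ninth roots of one. -/
theorem diag_ninth (h : Six r p M) (he : (e : F) ^ 3 = r.w) {d : GL (Fin 3) F} (hdM : d ∈ M)
    (hx : d * r.x = r.x * d) : d ^ 9 = 1 := by
  classical
  obtain ⟨t, ht⟩ : ∃ t, (fun i => (d : Matrix (Fin 3) (Fin 3) F) i i) = t := ⟨_, rfl⟩
  have hdd := r.diag_of_comm hx
  rw [ht] at hdd
  have h36 : ∀ c ∈ M, c * r.j = r.j * c → ∀ b : F, Root.inFrame r.ej c 0 0 = b → b ^ 36 = 1 := by
    intro c hc hcj b hb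
    have h1 : (im r M (cm hc hcj)) ^ 12 = 1 := (image_twelve h he).1 ▸ pow_card_eq_one'
    rw [← map_pow] at h1
    obtain ⟨k, hk⟩ := h.kernel h1
    have htop : ∀ v : r.comm r.ej, (v : GL (Fin 3) F) = r.om ^ k ∨ (v : GL (Fin 3) F) = r.om ^ k * r.j →
        (r.top r.ej v : F) = r.w ^ k := by
      intro v hv
      have ho : Root.inFrame r.ej (r.om ^ k) = r.w ^ k • (1 : Matrix (Fin 3) (Fin 3) F) := by
        rw [Root.inFrame, mul_assoc, r.om_pow_comm k r.ej, inv_mul_cancel_left, r.om_pow_val]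
      rcases hv with hv | hv
      · rw [Root.top_val, hv, ho]; simp
      · rw [Root.top_val, hv, Root.inFrame_mul, ho, r.frame_j]; simp
    have h2 : (r.top r.ej ((cm hc hcj ^ 12 : Cent r M) : r.comm r.ej) : F) = r.w ^ k := htop _ hk
    rw [SubmonoidClass.coe_pow, map_pow, Units.val_pow_eq_pow_val, Root.top_val] at h2
    rw [show b ^ 36 = (b ^ 12) ^ 3 by ring, ← hb]
    rw [show Root.inFrame r.ej c 0 0 ^ 12 = r.w ^ k from h2, ← pow_mul, mul_comm, pow_mul, pow_three', r.w_cube,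
      one_pow]
  have hdet : t 0 * t 1 * t 2 = 1 := by
    have : (d : Matrix (Fin 3) (Fin 3) F).det = 1 := congrArg Units.val (h.le hdM)
    rwa [hdd, Matrix.det_diagonal, Fin.prod_univ_three] at this
  have hzero : ∀ (d : GL (Fin 3) F) (t : Fin 3 → F), d ∈ M → (d : Matrix (Fin 3) (Fin 3) F) = Matrix.diagonal t →
      (t 1 * t 2) ^ 36 = 1 := by
    intro d t hd hdd
    have hm : ((d * (r.j * d * r.j) : GL (Fin 3) F) : Matrix (Fin 3) (Fin 3) F) =
        Matrix.diagonal ![t 0 * t 0, t 1 * t 2, t 1 * t 2] := by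
      have hjd : ((r.j * d * r.j : GL (Fin 3) F) : Matrix (Fin 3) (Fin 3) F) =
          Matrix.diagonal ![t 0, t 2, t 1] := by
        rw [Units.val_mul, Units.val_mul, hdd, mul_assoc]
        ext i j
        fin_cases i <;> fin_cases j <;>
          simp [Root.j, Matrix.mul_apply, Matrix.diagonal_apply, Fin.sum_univ_three]
      rw [Units.val_mul, hjd, hdd, Matrix.diagonal_mul_diagonal]
      congr 1
      funext i
      fin_cases i <;> simp [mul_comm]
    refine h36 (d * (r.j * d * r.j)) (mul_mem hd (mul_mem (mul_mem h.j_mem hd) h.j_mem)) ?_ _ ?_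
    · refine Units.ext ?_
      rw [Units.val_mul, Units.val_mul _ (d * _), hm]
      ext i j
      fin_cases i <;> fin_cases j <;> simp [Root.j, Matrix.mul_apply, Matrix.vecMul_diagonal, Fin.sum_univ_three]
    · rw [r.inFrame_eq (B := !![t 1 * t 2, 0, 0; 0, t 0 * t 0, 0; 0, 0, t 1 * t 2]) (by
        rw [hm]
        ext i j
        fin_cases i <;> fin_cases j <;> simp [Root.ej, Matrix.mul_apply, Fin.sum_univ_three])]
      rfl
  have hy : ∀ (d : GL (Fin 3) F) (t : Fin 3 → F), (d : Matrix (Fin 3) (Fin 3) F) = Matrix.diagonal t →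
      ((r.y * d * r.y⁻¹ : GL (Fin 3) F) : Matrix (Fin 3) (Fin 3) F) = Matrix.diagonal ![t 1, t 2, t 0] := by
    intro d t hdd
    rw [Units.val_mul, Units.val_mul, hdd, show ((r.y⁻¹ : GL (Fin 3) F) : Matrix (Fin 3) (Fin 3) F) =
      !![0, 0, 1; 1, 0, 0; 0, 1, 0] from rfl]
    ext i j
    fin_cases i <;> fin_cases j <;> simp [Root.y, Matrix.mul_apply, Matrix.vecMul_diagonal, Fin.sum_univ_three]
  have hm1 := mul_mem (mul_mem h.y_mem hdM) (inv_mem h.y_mem)
  have hm2 := mul_mem (mul_mem h.y_mem hm1) (inv_mem h.y_mem)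
  have e0 := hzero d t hdM hdd
  have e1 := hzero _ _ hm1 (hy d t hdd)
  have e2 := hzero _ _ hm2 (hy _ _ (hy d t hdd))
  simp at e1 e2
  have hall : ∀ i, t i ^ 36 = 1 := by
    have hd36 : (t 0 * t 1 * t 2) ^ 36 = 1 := by rw [hdet, one_pow]
    intro i
    fin_cases i
    · simp only [mul_pow] at hd36 e0 ⊢
      show t 0 ^ 36 = 1
      linear_combination hd36 - t 0 ^ 36 * e0
    · simp only [mul_pow] at hd36 e1 ⊢
      show t 1 ^ 36 = 1
      linear_combination hd36 - t 1 ^ 36 * e1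
    · simp only [mul_pow] at hd36 e2 ⊢
      show t 2 ^ 36 = 1
      linear_combination hd36 - t 2 ^ 36 * e2
  have hd36 : d ^ 36 = 1 := by
    refine Units.ext ?_
    rw [Units.val_pow_eq_pow_val, hdd, Matrix.diagonal_pow, Units.val_one, ← Matrix.diagonal_one]
    congr 1
    funext i
    exact hall i
  have hcx : ∀ n : ℕ, d ^ n * r.x = r.x * d ^ n := fun n => ((show Commute d r.x from hx).pow_left n).eq
  have h18 : d ^ 18 = 1 := h.no_invol_x (pow_mem hdM _) (by rw [← pow_add, hd36]) (hcx _)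
  exact h.no_invol_x (pow_mem hdM _) (by rw [← pow_add, h18]) (hcx _)

theorem entry_ninth (h : Six r p M) (he : (e : F) ^ 3 = r.w) {d : GL (Fin 3) F} (hdM : d ∈ M)
    (hx : d * r.x = r.x * d) (i : Fin 3) : (d : Matrix (Fin 3) (Fin 3) F) i i ^ 9 = 1 := by
  have e9 := congrArg (fun g : GL (Fin 3) F => (g : Matrix (Fin 3) (Fin 3) F) i i) (diag_ninth h he hdM hx)
  simp only [Units.val_pow_eq_pow_val] at e9
  rw [r.diag_of_comm hx, Matrix.diagonal_pow, Matrix.diagonal_apply_eq, Units.val_one, Matrix.one_apply_eq] at e9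
  exact e9

theorem card_root_le {G : Type*} [Finite G] (S : Set G) (φ : G → F) (hφ : ∀ v ∈ S, φ v ^ 9 = 1)
    (hinj : Set.InjOn φ S) : Nat.card S ≤ 9 := by
  classical
  haveI := Fintype.ofFinite G
  have h1 : (S.toFinset.image φ) ⊆ (Polynomial.nthRoots 9 (1 : F)).toFinset := by
    intro a ha
    obtain ⟨v, hv, rfl⟩ := Finset.mem_image.1 ha
    rw [Multiset.mem_toFinset, Polynomial.mem_nthRoots (by norm_num)]
    exact hφ v (Set.mem_toFinset.1 hv)
  have h2 := Finset.card_le_card h1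
  rw [Finset.card_image_of_injOn (by simpa using hinj), Set.toFinset_card] at h2
  rw [Nat.card_eq_fintype_card]
  exact h2.trans ((Multiset.toFinset_card_le _).trans (Polynomial.card_nthRoots 9 _))

/-- The centraliser of the element of order nine is the diagonal subgroup, extended by the involution. -/
theorem cent_z (h : Six r p M) (he : (e : F) ^ 3 = r.w) {v : GL (Fin 3) F} (hv : v ∈ M)
    (hvz : v * zel r e = zel r e * v) : v * r.x = r.x * v ∨ v * r.j * r.x = r.x * (v * r.j) := by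
  classical
  have hblock : ∀ v : GL (Fin 3) F, v * zel r e = zel r e * v → v ∈ r.comm 1 := by
    intro v hvz
    refine Root.mem_comm.2 ?_
    simp only [one_mul, inv_one, mul_one]
    have hz := fun i j => congrArg (fun g : GL (Fin 3) F => (g : Matrix (Fin 3) (Fin 3) F) i j) hvz
    have hne : (e : F) * r.w ≠ e := fun e' => r.w_ne_one (mul_left_cancel₀ e.ne_zero (by linear_combination e'))
    have key : ∀ i j : Fin 3, ![(e : F), e * r.w, e * r.w] i ≠ ![(e : F), e * r.w, e * r.w] j →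
        (v : Matrix (Fin 3) (Fin 3) F) i j = 0 := by
      intro i j hij
      have e1 := hz i j
      rw [Units.val_mul, Units.val_mul, zel_val, Matrix.mul_diagonal, Matrix.diagonal_mul] at e1
      by_contra h0
      exact hij (mul_left_cancel₀ h0 (by linear_combination -e1))
    refine Units.ext ?_
    rw [Units.val_mul, Units.val_mul]
    ext i j
    fin_cases i <;> fin_cases j <;>
      simp [Root.u, Matrix.mul_apply, Fin.sum_univ_three, key 0 1 (by simpa using hne.symm), key 0 2 (by simpa using hne.symm),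
        key 1 0 (by simpa using hne), key 2 0 (by simpa using hne)]
  have hblock' : ∀ c : r.comm 1, (c : GL (Fin 3) F) * zel r e = zel r e * c := by
    intro c
    obtain ⟨a1, a2, a3, a4⟩ := Root.inFrame_zero c.2
    simp [Root.inFrame] at a1 a2 a3 a4
    refine Units.ext ?_
    rw [Units.val_mul, Units.val_mul, zel_val]
    ext i j
    fin_cases i <;> fin_cases j <;> simp [Matrix.mul_diagonal, Matrix.diagonal_mul, a1, a2, a3, a4, mul_comm]
  have hju : r.j ∈ r.comm 1 := Root.mem_comm.2 (by simpa using r.j_u)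
  have hxu : r.x ∈ r.comm 1 := Root.mem_comm.2 (by simpa using r.x_u)
  let K := M.subgroupOf (r.comm 1)
  let ψ := (r.pr 1).subgroupMap K
  have hlow : ∀ k : K, ψ k = 1 ↔ ∃ b : F, low ((k.1 : GL (Fin 3) F) : Matrix (Fin 3) (Fin 3) F) =
      b • (1 : Matrix (Fin 2) (Fin 2) F) := fun k => by
    rw [← Subtype.coe_inj, show ((ψ k : (K.map (r.pr 1))) : Matrix.ProjGenLinGroup (Fin 2) F) = r.pr 1 k.1 from rfl]
    refine (Root.pr_eq_one_iff (c := k.1)).trans ?_
    rw [Root.lowHom_val, show Root.inFrame 1 (k.1 : GL (Fin 3) F) = ((k.1 : GL (Fin 3) F) : Matrix _ _ F) by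
      simp [Root.inFrame]]
  obtain ⟨X, hXdef⟩ : ∃ X : K, X = ⟨⟨r.x, hxu⟩, h.x_mem⟩ := ⟨_, rfl⟩
  obtain ⟨J, hJdef⟩ : ∃ J : K, J = ⟨⟨r.j, hju⟩, h.j_mem⟩ := ⟨_, rfl⟩
  have hJ2 : J * J = 1 := by rw [hJdef]; exact Subtype.ext (Subtype.ext r.j_sq)
  have hcentJ : ∀ c : K.map (r.pr 1), c * ψ J = ψ J * c → c = 1 ∨ c = ψ J := by
    intro c hc
    obtain ⟨c, rfl⟩ : ∃ k, ψ k = c := (r.pr 1).subgroupMap_surjective K c
    have hk : ψ (J * (c * J * c⁻¹)) = 1 := by
      rw [map_mul, map_mul, map_mul, hc, map_inv, mul_inv_cancel_right, ← map_mul, hJ2, map_one]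
    obtain ⟨b, hb⟩ := (hlow _).1 hk
    obtain ⟨d, hd⟩ : ∃ d : GL (Fin 3) F, ((J * (c * J * c⁻¹)).1 : GL (Fin 3) F) = d := ⟨_, rfl⟩
    obtain ⟨a1, a2, a3, a4⟩ : (d : Matrix (Fin 3) (Fin 3) F) 0 1 = 0 ∧ (d : Matrix (Fin 3) (Fin 3) F) 0 2 = 0 ∧
        (d : Matrix (Fin 3) (Fin 3) F) 1 0 = 0 ∧ (d : Matrix (Fin 3) (Fin 3) F) 2 0 = 0 := by
      have h0 := Root.inFrame_zero (J * (c * J * c⁻¹)).1.2
      rw [hd] at h0
      simpa [Root.inFrame] using h0
    rw [hd] at hb
    have b00 := congrFun (congrFun hb 0) 0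
    have b01 := congrFun (congrFun hb 0) 1
    have b10 := congrFun (congrFun hb 1) 0
    have b11 := congrFun (congrFun hb 1) 1
    simp [low] at b00 b01 b10 b11
    have hdj : d * r.j = r.j * d := by
      refine Units.ext ?_
      rw [Units.val_mul, Units.val_mul]
      ext i j
      fin_cases i <;> fin_cases j <;>
        simp [Root.j, Matrix.mul_apply, Fin.sum_univ_three, a1, a2, a3, a4, b00, b01, b10, b11]
    have hdx : d * r.x = r.x * d := comm_x_of_diag (t := fun i => (d : Matrix (Fin 3) (Fin 3) F) i i) (by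
      ext i j
      fin_cases i <;> fin_cases j <;> simp [a1, a2, a3, a4, b01, b10])
    have hdM : d ∈ M := hd ▸ (J * (c * J * c⁻¹)).2
    have hcv : (c.1 : GL (Fin 3) F) * r.j * (c.1 : GL (Fin 3) F)⁻¹ = r.j * d := by
      rw [← hd, hJdef]
      show _ = r.j * (r.j * ((c.1 : GL (Fin 3) F) * r.j * (c.1 : GL (Fin 3) F)⁻¹))
      rw [← mul_assoc r.j, r.j_sq, one_mul]
    have hd2 : d * d = 1 := by
      have e2 : r.j * d * (r.j * d) = 1 := by
        rw [← hcv]
        calc _ = (c.1 : GL (Fin 3) F) * (r.j * r.j) * (c.1 : GL (Fin 3) F)⁻¹ := by group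
          _ = 1 := by rw [r.j_sq, mul_one, mul_inv_cancel]
      rw [(show Commute d r.j from hdj).mul_mul_mul_comm, r.j_sq, one_mul] at e2
      exact e2
    have hd1 := h.no_invol_x hdM hd2 hdx
    rw [hd1, mul_one] at hcv
    have hcj : (c.1 : GL (Fin 3) F) * r.j = r.j * c.1 := mul_inv_eq_iff_eq_mul.1 hcv
    have hscal : ∀ c : K, (c.1 : GL (Fin 3) F) * r.j = r.j * c.1 → (c.1 : GL (Fin 3) F) * r.x = r.x * c.1 →
        ψ c = 1 := by
      intro c hcj hcx
      have hdd := r.diag_of_comm hcx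
      have e11 := congrArg (fun g : GL (Fin 3) F => (g : Matrix (Fin 3) (Fin 3) F) 1 2) hcj
      obtain ⟨t, ht⟩ : ∃ t, (fun i => ((c.1 : GL (Fin 3) F) : Matrix (Fin 3) (Fin 3) F) i i) = t := ⟨_, rfl⟩
      rw [ht] at hdd
      simp [hdd, Root.j, Matrix.mul_apply, Matrix.vecMul_diagonal, Fin.sum_univ_three] at e11
      refine (hlow c).2 ⟨t 1, ?_⟩
      ext i j
      fin_cases i <;> fin_cases j <;> simp [low, hdd, e11]
    rcases (image_twelve h he).2 (c.1 : GL (Fin 3) F) c.2 hcj (hblock' c.1) with hcx | hcx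
    · exact Or.inl (hscal c hcj hcx)
    · right
      have h1 : ψ (c * J) = 1 := by
        refine hscal (c * J) ?_ ?_
        · show (c.1 : GL (Fin 3) F) * J.1 * r.j = r.j * ((c.1 : GL (Fin 3) F) * J.1)
          rw [hJdef]
          show (c.1 : GL (Fin 3) F) * r.j * r.j = r.j * ((c.1 : GL (Fin 3) F) * r.j)
          rw [← mul_assoc r.j, ← hcj]
        · show (c.1 : GL (Fin 3) F) * J.1 * r.x = r.x * ((c.1 : GL (Fin 3) F) * J.1)
          rw [hJdef]; exact hcx
      rw [map_mul] at h1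
      rw [eq_inv_of_mul_eq_one_left h1]
      exact inv_eq_of_mul_eq_one_left (by rw [← map_mul, hJ2, map_one])
  have hJ1 : ψ J ≠ 1 := by
    rw [Ne, hlow, hJdef]
    rintro ⟨b, hb⟩
    simpa [low, Root.j] using congrFun (congrFun hb 0) 1
  obtain ⟨w, hw⟩ : ∃ w : K, w = ⟨⟨v, hblock v hvz⟩, hv⟩ := ⟨_, rfl⟩
  have hnorm := h.facts_u.norm (ψ X) (ψ J)
    (by rw [← map_mul, ← map_mul, show X * X * X = 1 by rw [hXdef]; exact Subtype.ext (Subtype.ext r.x_cube), map_one])
    (by rw [← map_mul, hJ2, map_one]) hJ1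
    (by
      rw [← map_inv, ← map_mul, ← map_mul, ← map_mul]
      congr 1
      rw [hXdef, hJdef]
      refine Subtype.ext (Subtype.ext ?_)
      show r.j * r.x * r.j⁻¹ = r.x * r.x
      rw [r.j_x, mul_inv_cancel_right]
      exact inv_eq_of_mul_eq_one_left r.x_cube)
    hcentJ (ψ w)
  obtain ⟨a1, a2, a3, a4⟩ := Root.inFrame_zero (hblock v hvz)
  simp [Root.inFrame] at a1 a2 a3 a4
  obtain ⟨n00, hn00⟩ : ∃ z, (v : Matrix (Fin 3) (Fin 3) F) 1 1 = z := ⟨_, rfl⟩
  obtain ⟨n01, hn01⟩ : ∃ z, (v : Matrix (Fin 3) (Fin 3) F) 1 2 = z := ⟨_, rfl⟩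
  obtain ⟨n10, hn10⟩ : ∃ z, (v : Matrix (Fin 3) (Fin 3) F) 2 1 = z := ⟨_, rfl⟩
  obtain ⟨n11, hn11⟩ : ∃ z, (v : Matrix (Fin 3) (Fin 3) F) 2 2 = z := ⟨_, rfl⟩
  have hzeros : n00 * n01 = 0 ∧ n10 * n11 = 0 := by
    have hL : ∀ n : ℕ, ψ w * ψ X * (ψ w)⁻¹ = ψ X ^ n → ∃ b : F,
        low (v : Matrix (Fin 3) (Fin 3) F) * !![r.w, 0; 0, r.w * r.w] =
          b • (!![r.w, 0; 0, r.w * r.w] ^ n * low (v : Matrix (Fin 3) (Fin 3) F)) := by
      intro n hn
      have h1 : ψ (w * X * w⁻¹ * (X ^ n)⁻¹) = 1 := by simp only [map_mul, map_inv, map_pow, hn, mul_inv_cancel]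
      obtain ⟨b, hb⟩ := (hlow _).1 h1
      refine ⟨b, ?_⟩
      have hlowv : ∀ k : K, low ((k.1 : GL (Fin 3) F) : Matrix (Fin 3) (Fin 3) F) =
          (r.lowHom 1 k.1 : Matrix (Fin 2) (Fin 2) F) := fun k => by
        rw [Root.lowHom_val]; simp [Root.inFrame]
      have hXl : (r.lowHom 1 X.1 : Matrix (Fin 2) (Fin 2) F) = !![r.w, 0; 0, r.w * r.w] := by
        rw [← hlowv, hXdef]; simp [low, Root.x]
      have hwl : (r.lowHom 1 w.1 : Matrix (Fin 2) (Fin 2) F) = low (v : Matrix (Fin 3) (Fin 3) F) := by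
        rw [← hlowv, hw]
      rw [hlowv] at hb
      simp only [Subgroup.coe_mul, Subgroup.coe_inv, SubmonoidClass.coe_pow, map_mul, map_inv, map_pow,
        Units.val_mul] at hb
      rw [← hwl, ← hXl, ← Units.val_pow_eq_pow_val, ← smul_mul_assoc]
      have h2 := congrArg (fun Y : Matrix (Fin 2) (Fin 2) F =>
        Y * ((r.lowHom 1 X.1 ^ n : GL (Fin 2) F) : Matrix (Fin 2) (Fin 2) F) *
          (r.lowHom 1 w.1 : Matrix (Fin 2) (Fin 2) F)) hb
      simp only [Units.inv_mul_cancel_right, smul_mul_assoc, one_mul] at h2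
      rw [smul_mul_assoc]
      exact h2
    have hw2 : r.w * r.w ≠ r.w := fun e' => r.w_ne_one (mul_left_cancel₀ r.w_ne_zero (by linear_combination e'))
    rcases hnorm with hn | hn
    · obtain ⟨b, hb⟩ := hL 1 (by rw [pow_one]; exact hn)
      have q00 := congrFun (congrFun hb 0) 0
      have q01 := congrFun (congrFun hb 0) 1
      have q10 := congrFun (congrFun hb 1) 0
      have q11 := congrFun (congrFun hb 1) 1
      simp [low, Matrix.mul_apply, Fin.sum_univ_two, hn00, hn01, hn10, hn11] at q00 q01 q10 q11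
      constructor <;> by_contra h0 <;> obtain ⟨u0, u1⟩ := mul_ne_zero_iff.1 h0 <;> apply hw2
      · exact mul_left_cancel₀ h0 (by linear_combination n00 * q01 - n01 * q00)
      · exact mul_left_cancel₀ h0 (by linear_combination n10 * q11 - n11 * q10)
    · obtain ⟨b, hb⟩ := hL 2 (by rw [pow_two]; exact hn)
      have q00 := congrFun (congrFun hb 0) 0
      have q01 := congrFun (congrFun hb 0) 1
      have q10 := congrFun (congrFun hb 1) 0
      have q11 := congrFun (congrFun hb 1) 1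
      simp [low, pow_two, Matrix.mul_apply, Fin.sum_univ_two, hn00, hn01, hn10, hn11] at q00 q01 q10 q11
      constructor <;> by_contra h0 <;> obtain ⟨u0, u1⟩ := mul_ne_zero_iff.1 h0 <;> apply hw2
      · exact mul_left_cancel₀ h0 (by linear_combination n00 * q01 - n01 * q00)
      · exact mul_left_cancel₀ h0 (by linear_combination n10 * q11 - n11 * q10)
  have hdet : n00 * n11 - n01 * n10 ≠ 0 := fun h0 => by
    have : (v : Matrix (Fin 3) (Fin 3) F).det = 1 := congrArg Units.val (h.le hv)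
    simp [Matrix.det_fin_three, a1, a2, a3, a4, hn00, hn01, hn10, hn11] at this
    exact zero_ne_one (α := F) (by linear_combination this - (v : Matrix (Fin 3) (Fin 3) F) 0 0 * h0)
  rcases mul_eq_zero.1 hzeros.1 with h0 | h0
  · right
    have h1 : n11 = 0 := (mul_eq_zero.1 hzeros.2).resolve_left fun h1 => hdet (by rw [h0, h1]; ring)
    refine comm_x_of_diag (t := ![-(v : Matrix (Fin 3) (Fin 3) F) 0 0, -n01, -n10]) ?_
    rw [Units.val_mul]
    ext i j
    fin_cases i <;> fin_cases j <;>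
      simp [Root.j, Matrix.mul_apply, Fin.sum_univ_three, a1, a2, a3, a4, hn00, hn01, hn10, hn11, h0, h1]
  · left
    have h1 : n10 = 0 := (mul_eq_zero.1 hzeros.2).resolve_right fun h1 => hdet (by rw [h0, h1]; ring)
    refine comm_x_of_diag (t := ![(v : Matrix (Fin 3) (Fin 3) F) 0 0, n00, n11]) ?_
    ext i j
    fin_cases i <;> fin_cases j <;> simp [a1, a2, a3, a4, hn00, hn01, hn10, hn11, h0, h1]

theorem x_val : (r.x : Matrix (Fin 3) (Fin 3) F) = Matrix.diagonal ![1, r.w, r.w * r.w] := by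
  ext i j; fin_cases i <;> fin_cases j <;> simp [Root.x]

theorem zx_val (k n : ℕ) : ((r.om ^ k * zel r e ^ n : GL (Fin 3) F) : Matrix (Fin 3) (Fin 3) F) =
    Matrix.diagonal ![r.w ^ k * (e : F) ^ n, r.w ^ k * ((e : F) * r.w) ^ n, r.w ^ k * ((e : F) * r.w) ^ n] := by
  rw [Units.val_mul, r.om_pow_val, Units.val_pow_eq_pow_val, zel_val, Matrix.diagonal_pow, Matrix.smul_mul,
    Matrix.one_mul, ← Matrix.diagonal_smul]
  congr 1
  funext i
  fin_cases i <;> simp

theorem orderOf_e (he : (e : F) ^ 3 = r.w) : orderOf (e : F) = 9 := by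
  haveI : Fact (Nat.Prime 3) := ⟨Nat.prime_three⟩
  refine orderOf_eq_prime_pow (n := 1) (by rw [pow_one, he]; exact r.w_ne_one) ?_
  rw [pow_succ, pow_one, pow_mul, he, pow_three']; exact r.w_cube

theorem orderOf_w (r : Root F) : orderOf r.w = 3 :=
  haveI : Fact (Nat.Prime 3) := ⟨Nat.prime_three⟩
  orderOf_eq_prime (by rw [pow_three']; exact r.w_cube) r.w_ne_one

theorem om_pow_inj {i j : ℕ} (h : r.om ^ i = r.om ^ j) : i % 3 = j % 3 := by
  have e0 := congrArg (fun g : GL (Fin 3) F => (g : Matrix (Fin 3) (Fin 3) F) 0 0) h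
  simp [r.om_pow_val] at e0
  rw [← pow_mod_orderOf r.w i, ← pow_mod_orderOf r.w j, orderOf_w] at e0
  exact pow_injOn_Iio_orderOf (by rw [orderOf_w]; exact Nat.mod_lt _ (by norm_num))
    (by rw [orderOf_w]; exact Nat.mod_lt _ (by norm_num)) e0

theorem om_pow_mod (k : ℕ) : r.om ^ k = r.om ^ (k % 3) := pow_eq_pow_mod k (by rw [pow_three']; exact r.om_cube)

end ThreeB

open ThreeB in
/-- The diagonal three-subgroup, the Sylow three-subgroup and many non-scalar three-elements. -/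
theorem Six.threeB [Fintype F] {r : Root F} {p : ℕ} {M : Subgroup (GL (Fin 3) F)} (h : Six r p M) {e : Fˣ}
    (he : (e : F) ^ 3 = r.w) :
    (∃ t : Subgroup M, (∀ v, v ∈ t ↔ (v : GL (Fin 3) F) * r.x = r.x * (v : GL (Fin 3) F)) ∧
      (Nat.card t = 27 ∨ Nat.card t = 81) ∧
      ∃ P : Sylow 3 M, t ≤ P ∧ (⟨r.y, h.y_mem⟩ : M) ∈ P ∧ Nat.card P = 3 * Nat.card t) ∧
    ∃ S : Set M, (∀ v ∈ S, v ^ (3 ^ 5) = 1 ∧ ∀ k : ℕ, (v : GL (Fin 3) F) ≠ r.om ^ k) ∧
      4 * Nat.card M ≤ 27 * Nat.card S := by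
  classical
  haveI : Fact (Nat.Prime 3) := ⟨Nat.prime_three⟩
  haveI : Finite (GL (Fin 3) F) := Finite.of_injective (fun g => (g : Matrix (Fin 3) (Fin 3) F)) Units.val_injective
  obtain ⟨t, ht⟩ : ∃ t : Subgroup M, ∀ v, v ∈ t ↔ (v : GL (Fin 3) F) * r.x = r.x * (v : GL (Fin 3) F) :=
    ⟨(Subgroup.centralizer {r.x}).subgroupOf M, fun v => by
      rw [Subgroup.mem_subgroupOf, Subgroup.mem_centralizer_singleton_iff]⟩
  obtain ⟨xe, hxe⟩ : ∃ v : M, v = ⟨r.x, h.x_mem⟩ := ⟨_, rfl⟩
  obtain ⟨ye, hye⟩ : ∃ v : M, v = ⟨r.y, h.y_mem⟩ := ⟨_, rfl⟩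
  obtain ⟨ze, hze⟩ : ∃ v : M, v = ⟨zel r e, h.z_mem e he⟩ := ⟨_, rfl⟩
  obtain ⟨oe, hoe⟩ : ∃ v : M, v = ⟨r.om, h.om_mem⟩ := ⟨_, rfl⟩
  have hxv : (xe : GL (Fin 3) F) = r.x := by rw [hxe]
  have hyv : (ye : GL (Fin 3) F) = r.y := by rw [hye]
  have hzv : (ze : GL (Fin 3) F) = zel r e := by rw [hze]
  have hov : (oe : GL (Fin 3) F) = r.om := by rw [hoe]
  have hxt : xe ∈ t := (ht _).2 (by rw [hxv])
  have hzt : ze ∈ t := (ht _).2 (by rw [hzv]; exact zel_comm r.s_x)
  have hot : oe ∈ t := (ht _).2 (by rw [hov]; exact r.om_comm r.x)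
  -- diagonal form
  let E : M → Fin 3 → F := fun v i => ((v : GL (Fin 3) F) : Matrix (Fin 3) (Fin 3) F) i i
  have hdiag : ∀ v ∈ t, ((v : GL (Fin 3) F) : Matrix (Fin 3) (Fin 3) F) = Matrix.diagonal (E v) := fun v hv =>
    r.diag_of_comm ((ht v).1 hv)
  have hE9 : ∀ v ∈ t, ∀ i, E v i ^ 9 = 1 := fun v hv i => entry_ninth h he v.2 ((ht v).1 hv) i
  have hv9 : ∀ v ∈ t, v ^ 9 = 1 := fun v hv => Subtype.ext (diag_ninth h he v.2 ((ht v).1 hv))
  have hdet : ∀ v ∈ t, E v 0 * E v 1 * E v 2 = 1 := fun v hv => by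
    have : ((v : GL (Fin 3) F) : Matrix (Fin 3) (Fin 3) F).det = 1 := congrArg Units.val (h.le v.2)
    rwa [hdiag v hv, Matrix.det_diagonal, Fin.prod_univ_three] at this
  have hE0 : ∀ v ∈ t, ∀ i, E v i ≠ 0 := fun v hv i h0 => by
    have := hE9 v hv i
    rw [h0, zero_pow (by norm_num)] at this
    exact zero_ne_one this
  have hEext : ∀ v ∈ t, ∀ v' ∈ t, E v 0 = E v' 0 → E v 1 = E v' 1 → v = v' := by
    intro v hv v' hv' h0 h1
    have h2 : E v 2 = E v' 2 := mul_left_cancel₀ (mul_ne_zero (hE0 v hv 0) (hE0 v hv 1))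
      ((hdet v hv).trans (by rw [h0, h1]; exact (hdet v' hv').symm))
    refine Subtype.ext (Units.ext ?_)
    rw [hdiag v hv, hdiag v' hv']
    congr 1
    funext i
    fin_cases i <;> assumption
  have hcomm : ∀ v ∈ t, ∀ v' ∈ t, v * v' = v' * v := by
    intro v hv v' hv'
    refine Subtype.ext (Units.ext ?_)
    rw [Subgroup.coe_mul, Subgroup.coe_mul, Units.val_mul, Units.val_mul, hdiag v hv, hdiag v' hv',
      Matrix.diagonal_mul_diagonal, Matrix.diagonal_mul_diagonal]
    simp [mul_comm]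
  -- the order of the diagonal subgroup
  have h27 : 27 ≤ Nat.card t := by
    have hmem : ∀ v : Fin 9 × Fin 3, ze ^ (v.1 : ℕ) * xe ^ (v.2 : ℕ) ∈ t := fun v =>
      mul_mem (pow_mem hzt _) (pow_mem hxt _)
    have hinj : Function.Injective fun v : Fin 9 × Fin 3 => (⟨_, hmem v⟩ : t) := by
      rintro ⟨i, k⟩ ⟨j, l⟩ hv
      simp only [Subtype.mk.injEq] at hv
      have hv' := congrArg (fun g : M => (g : GL (Fin 3) F)) hv
      simp only [Subgroup.coe_mul, SubmonoidClass.coe_pow, hxv, hzv] at hv'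
      have e0 := congrArg (fun g : GL (Fin 3) F => (g : Matrix (Fin 3) (Fin 3) F) 0 0) hv'
      simp [zel_val, x_val, Matrix.diagonal_pow, Matrix.diagonal_mul_diagonal] at e0
      obtain rfl : i = j := Fin.ext (pow_injOn_Iio_orderOf (by rw [orderOf_e he]; exact i.2)
        (by rw [orderOf_e he]; exact j.2) e0)
      have e1 := congrArg (fun g : GL (Fin 3) F => (g : Matrix (Fin 3) (Fin 3) F) 1 1) (mul_left_cancel hv')
      simp [x_val, Matrix.diagonal_pow] at e1
      exact Prod.ext rfl (Fin.ext (pow_injOn_Iio_orderOf (by rw [orderOf_w]; exact k.2)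
        (by rw [orderOf_w]; exact l.2) e1))
    have := Nat.card_le_card_of_injective _ hinj
    rwa [Nat.card_prod, Nat.card_fin, Nat.card_fin] at this
  have h81 : Nat.card t ≤ 81 := by
    obtain ⟨R, hR⟩ : ∃ R : Finset F, (Polynomial.nthRoots 9 (1 : F)).toFinset = R := ⟨_, rfl⟩
    have hmem : ∀ (v : t) (i : Fin 3), E v i ∈ R := fun v i => by
      rw [← hR, Multiset.mem_toFinset, Polynomial.mem_nthRoots (by norm_num)]; exact hE9 v v.2 i
    have hinj : Function.Injective fun v : t => ((⟨_, hmem v 0⟩ : R), (⟨_, hmem v 1⟩ : R)) := by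
      intro v v' hv
      simp only [Prod.mk.injEq, Subtype.mk.injEq] at hv
      exact Subtype.ext (hEext v v.2 v' v'.2 hv.1 hv.2)
    have := Nat.card_le_card_of_injective _ hinj
    rw [Nat.card_prod, Nat.card_eq_fintype_card (α := R), Fintype.card_coe] at this
    have hR9 : R.card ≤ 9 := hR ▸ (Multiset.toFinset_card_le _).trans (Polynomial.card_nthRoots 9 _)
    exact this.trans (Nat.mul_le_mul hR9 hR9)
  have ht3 : IsPGroup 3 t := fun v => ⟨2, Subtype.ext (hv9 v v.2)⟩
  have hcard : Nat.card t = 27 ∨ Nat.card t = 81 := by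
    obtain ⟨n, hn⟩ := IsPGroup.iff_card.1 ht3
    rw [hn] at h27 h81 ⊢
    have h3 : 3 ≤ n := (Nat.pow_le_pow_iff_right (by norm_num : 1 < 3)).1 (by norm_num; exact h27)
    have h4 : n ≤ 4 := (Nat.pow_le_pow_iff_right (by norm_num : 1 < 3)).1 (by norm_num; exact h81)
    interval_cases n <;> norm_num
  -- conjugation by the cyclic generator
  have hycon : ∀ (i : ℕ), ∀ v ∈ t, ((ye ^ i * v : M) : GL (Fin 3) F) * r.x * ((ye ^ i * v : M) : GL (Fin 3) F)⁻¹ =
      r.om ^ i * r.x := by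
    intro i v hv
    rw [Subgroup.coe_mul, SubmonoidClass.coe_pow, hyv]
    calc r.y ^ i * (v : GL (Fin 3) F) * r.x * (r.y ^ i * (v : GL (Fin 3) F))⁻¹
        = r.y ^ i * ((v : GL (Fin 3) F) * r.x) * (v : GL (Fin 3) F)⁻¹ * (r.y ^ i)⁻¹ := by group
      _ = r.y ^ i * r.x * (r.y ^ i)⁻¹ := by rw [(ht v).1 hv]; group
      _ = _ := r.conj_x i
  have hyn : ∀ (i : ℕ), ∀ v ∈ t, ye ^ i * v * (ye ^ i)⁻¹ ∈ t := by
    intro i v hv
    rw [ht, Subgroup.coe_mul, Subgroup.coe_mul, Subgroup.coe_inv, SubmonoidClass.coe_pow, hyv,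
      ← mul_inv_eq_iff_eq_mul]
    calc r.y ^ i * (v : GL (Fin 3) F) * (r.y ^ i)⁻¹ * r.x * (r.y ^ i * (v : GL (Fin 3) F) * (r.y ^ i)⁻¹)⁻¹
        = r.y ^ i * (v : GL (Fin 3) F) * ((r.y ^ i)⁻¹ * r.x * r.y ^ i) * (v : GL (Fin 3) F)⁻¹ * (r.y ^ i)⁻¹ := by group
      _ = r.y ^ i * ((r.om ^ i)⁻¹ * r.x) * (r.y ^ i)⁻¹ := by
        have h1 : (r.y ^ i)⁻¹ * r.x * r.y ^ i = (r.om ^ i)⁻¹ * r.x := by
          rw [eq_inv_mul_iff_mul_eq, ← mul_assoc, ← mul_assoc, r.om_pow_comm, mul_assoc (r.y ^ i)⁻¹ (r.om ^ i),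
            ← r.conj_x]
          group
        rw [h1]
        calc r.y ^ i * (v : GL (Fin 3) F) * ((r.om ^ i)⁻¹ * r.x) * (v : GL (Fin 3) F)⁻¹ * (r.y ^ i)⁻¹
            = r.y ^ i * ((r.om ^ i)⁻¹ * ((v : GL (Fin 3) F) * r.x)) * (v : GL (Fin 3) F)⁻¹ * (r.y ^ i)⁻¹ := by
              simp only [← mul_assoc]
              rw [mul_assoc _ (v : GL (Fin 3) F) (r.om ^ i)⁻¹,
                ← ((show Commute (r.om ^ i) (v : GL (Fin 3) F) from r.om_pow_comm i _).inv_left).eq]
              simp only [← mul_assoc]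
          _ = _ := by rw [(ht v).1 hv]; group
      _ = (r.om ^ i)⁻¹ * (r.y ^ i * r.x * (r.y ^ i)⁻¹) := by
        rw [← mul_assoc (r.y ^ i), ← ((show Commute (r.om ^ i) (r.y ^ i) from r.om_pow_comm i _).inv_left).eq]
        group
      _ = r.x := by rw [r.conj_x, inv_mul_cancel_left]
  have hy3 : ye ^ 3 = 1 := by rw [hye]; exact Subtype.ext (by show r.y ^ 3 = 1; rw [pow_three']; exact r.y_cube)
  have hy1 : ye ≠ 1 := fun h1 => by
    have h2 := hycon 1 1 (one_mem _)
    rw [h1, one_pow, one_mul, OneMemClass.coe_one, one_mul, inv_one, mul_one, pow_one] at h2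
    have := om_pow_inj (r := r) (i := 1) (j := 0) (by rw [pow_one, pow_zero]; exact right_eq_mul.1 h2)
    norm_num at this
  have hynorm : ye ∈ Subgroup.normalizer (t : Set M) := by
    refine Subgroup.mem_normalizer_iff.2 fun v => ⟨fun hv => by simpa using hyn 1 v hv, fun hv => ?_⟩
    have := hyn 2 _ hv
    have e2 : ye ^ 2 * (ye * v * ye⁻¹) * (ye ^ 2)⁻¹ = v := by
      calc ye ^ 2 * (ye * v * ye⁻¹) * (ye ^ 2)⁻¹ = ye ^ 3 * v * (ye ^ 3)⁻¹ := by group
        _ = v := by rw [hy3, one_mul, inv_one, mul_one]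
    rwa [e2] at this
  -- the Sylow subgroup
  have hy3g : IsPGroup 3 (Subgroup.zpowers ye) := IsPGroup.of_card (n := 1) (by
    rw [Nat.card_zpowers, orderOf_eq_prime hy3 hy1, pow_one])
  obtain ⟨P, hP⟩ := (hy3g.to_sup_of_normal_right' ht3 (Subgroup.zpowers_le.2 hynorm)).exists_le_sylow
  have htP : t ≤ P := le_sup_right.trans hP
  have hyP : ye ∈ P := hP ((le_sup_left : _ ≤ Subgroup.zpowers ye ⊔ t) (Subgroup.mem_zpowers ye))
  have hPcard : Nat.card P = 3 * Nat.card t := by
    refine le_antisymm ?_ ?_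
    · let P' : Subgroup (GL (Fin 3) F) := (P : Subgroup M).map M.subtype
      have hgrp : r.grp ≤ P' := by
        refine (Subgroup.closure_le _).2 ?_
        rintro v (rfl | rfl)
        · exact ⟨xe, htP hxt, hxv⟩
        · exact ⟨ye, hyP, hyv⟩
      obtain ⟨m, hm, -, hall⟩ := h.three_centre (Subgroup.map_subtype_le _) (P.2.map _) hgrp
      choose k hk using fun v : P => hall ((v : M) : GL (Fin 3) F) ⟨v, v.2, rfl⟩
      let mm : M := ⟨m, hm⟩
      have hmem : ∀ v : P, (ye ^ k v)⁻¹ * (mm⁻¹ * (v : M) * mm) ∈ t := fun v => by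
        rw [ht, Subgroup.coe_mul, Subgroup.coe_inv, SubmonoidClass.coe_pow, hyv, Subgroup.coe_mul, Subgroup.coe_mul,
          Subgroup.coe_inv]
        exact r.mod_cent (hk v)
      have hinj : Function.Injective fun v : P =>
          ((⟨k v % 3, Nat.mod_lt _ (by norm_num)⟩ : Fin 3), (⟨_, hmem v⟩ : t)) := by
        intro v v' hv
        simp only [Prod.mk.injEq, Fin.mk.injEq, Subtype.mk.injEq] at hv
        have hk' : ye ^ k v = ye ^ k v' := by rw [pow_eq_pow_mod (k v) hy3, pow_eq_pow_mod (k v') hy3, hv.1]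
        have h2 := hv.2
        rw [hk', mul_right_inj, mul_left_inj, mul_right_inj] at h2
        exact Subtype.ext h2
      have := Nat.card_le_card_of_injective _ hinj
      rwa [Nat.card_prod, Nat.card_fin] at this
    · have hmem : ∀ v : Fin 3 × t, ye ^ (v.1 : ℕ) * (v.2 : M) ∈ P := fun v => mul_mem (pow_mem hyP _) (htP v.2.2)
      have hinj : Function.Injective fun v : Fin 3 × t => (⟨_, hmem v⟩ : P) := by
        rintro ⟨i, d⟩ ⟨j, d'⟩ hv
        simp only [Subtype.mk.injEq] at hv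
        have h1 := hycon i d d.2
        rw [hv, hycon j d' d'.2, mul_left_inj] at h1
        obtain rfl : i = j := Fin.ext (by
          have := om_pow_inj h1
          rw [Nat.mod_eq_of_lt i.2, Nat.mod_eq_of_lt j.2] at this
          exact this.symm)
        exact Prod.ext rfl (Subtype.ext (mul_left_cancel hv))
      have := Nat.card_le_card_of_injective _ hinj
      rwa [Nat.card_prod, Nat.card_fin] at this
  refine ⟨⟨t, ht, hcard, P, htP, hye ▸ hyP, hPcard⟩, ?_⟩
  -- six conjugacy representatives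
  have hz9 : ze ^ 9 = 1 := hv9 _ hzt
  have hz3 : ze ^ 3 = oe := Subtype.ext (by rw [SubmonoidClass.coe_pow, hzv, hov]; exact zel_cube he)
  have hoc : ∀ (k : ℕ) (g : M), oe ^ k * g = g * oe ^ k := fun k g => Subtype.ext (by
    rw [Subgroup.coe_mul, Subgroup.coe_mul, SubmonoidClass.coe_pow, hov]; exact r.om_pow_comm k _)
  have ho3 : oe ^ 3 = 1 := by rw [← hz3, ← pow_mul]; exact hz9
  have hoinj : ∀ {i j : ℕ}, oe ^ i = oe ^ j → i % 3 = j % 3 := fun {i j} hij => by
    have := congrArg (fun g : M => (g : GL (Fin 3) F)) hij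
    simp only [SubmonoidClass.coe_pow, hov] at this
    exact om_pow_inj this
  let nn : Fin 2 → ℕ := ![1, 8]
  let φ : Fin 3 × Fin 2 → M := fun v => oe ^ (v.1 : ℕ) * ze ^ nn v.2
  have hφ3 : ∀ v, φ v ^ 3 = oe ^ nn v.2 := fun v => by
    show (oe ^ (v.1 : ℕ) * ze ^ nn v.2) ^ 3 = _
    rw [(show Commute (oe ^ (v.1 : ℕ)) (ze ^ nn v.2) from hoc _ _).mul_pow, ← pow_mul, ← pow_mul,
      mul_comm (v.1 : ℕ) 3, mul_comm (nn v.2) 3, pow_mul, pow_mul, ho3, hz3, one_pow, one_mul]
  have hnn : ∀ a b : Fin 2, nn a % 3 = nn b % 3 → a = b := by decide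
  have hn3 : ∀ b : Fin 2, ¬ 3 ∣ nn b := by decide
  have hn9 : ∀ b : Fin 2, nn b * nn b % 9 = 1 := by decide
  have hφinj : Function.Injective φ := by
    rintro ⟨i, a⟩ ⟨j, b⟩ hv
    have h1 := hφ3 (i, a)
    rw [hv, hφ3] at h1
    obtain rfl : b = a := hnn _ _ (hoinj h1)
    have h2 : oe ^ (i : ℕ) = oe ^ (j : ℕ) := mul_right_cancel hv
    have := hoinj h2
    rw [Nat.mod_eq_of_lt i.2, Nat.mod_eq_of_lt j.2] at this
    exact Prod.ext (Fin.ext this) rfl
  have hφt : ∀ v, φ v ∈ t := fun v => mul_mem (pow_mem hot _) (pow_mem hzt _)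
  have hφval : ∀ v, (((φ v : M) : GL (Fin 3) F) : Matrix (Fin 3) (Fin 3) F) =
      Matrix.diagonal ![r.w ^ (v.1 : ℕ) * (e : F) ^ nn v.2, r.w ^ (v.1 : ℕ) * ((e : F) * r.w) ^ nn v.2,
        r.w ^ (v.1 : ℕ) * ((e : F) * r.w) ^ nn v.2] := fun v => by
    show (((oe ^ (v.1 : ℕ) * ze ^ nn v.2 : M) : GL (Fin 3) F) : Matrix (Fin 3) (Fin 3) F) = _
    rw [Subgroup.coe_mul, SubmonoidClass.coe_pow, SubmonoidClass.coe_pow, hov, hzv]
    exact zx_val _ _
  obtain ⟨S6, hS6⟩ : ∃ S6 : Set M, S6 = Set.range φ := ⟨_, rfl⟩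
  have h6 : 3 * Nat.card M ≤ Nat.card (conjUnion S6) * Nat.card t := by
    have hN : ∀ g : M, ∀ s ∈ S6, g * s * g⁻¹ ∈ S6 → g ∈ Subgroup.centralizer {ze} := by
      rw [hS6]
      rintro g s ⟨⟨i, a⟩, rfl⟩ ⟨⟨j, b⟩, hv⟩
      have h1 := congrArg (· ^ 3) hv
      simp only [conj_pow, hφ3] at h1
      rw [← hoc, mul_inv_cancel_right] at h1
      obtain rfl : b = a := hnn _ _ (hoinj h1)
      have h2 : g * ze ^ nn b * g⁻¹ = oe ^ (2 * (i : ℕ) + j) * ze ^ nn b := by
        have h3 : oe ^ (2 * (i : ℕ)) * oe ^ (i : ℕ) = 1 := by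
          rw [← pow_add, show 2 * (i : ℕ) + i = 3 * i by ring, pow_mul, ho3, one_pow]
        calc g * ze ^ nn b * g⁻¹ = oe ^ (2 * (i : ℕ)) * (oe ^ (i : ℕ) * g) * ze ^ nn b * g⁻¹ := by
              rw [← mul_assoc (oe ^ (2 * (i : ℕ))), h3, one_mul]
          _ = oe ^ (2 * (i : ℕ)) * (g * (oe ^ (i : ℕ) * ze ^ nn b) * g⁻¹) := by rw [hoc (i : ℕ) g]; group
          _ = oe ^ (2 * (i : ℕ)) * (oe ^ (j : ℕ) * ze ^ nn b) := by rw [show g * (oe ^ (i : ℕ) * ze ^ nn b) * g⁻¹ = _ from hv.symm]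
          _ = _ := by rw [← mul_assoc, ← pow_add]
      have hzz : (ze ^ nn b) ^ nn b = ze := by
        rw [← pow_mul, pow_eq_pow_mod _ hz9, hn9 b, pow_one]
      have h4 : g * ze * g⁻¹ = oe ^ ((2 * (i : ℕ) + j) * nn b) * ze := by
        have h5 := congrArg (· ^ nn b) h2
        simp only [conj_pow] at h5
        rwa [(show Commute (oe ^ (2 * (i : ℕ) + j)) (ze ^ nn b) from hoc _ _).mul_pow, hzz, ← pow_mul] at h5
      obtain ⟨d, hd⟩ : ∃ d, (2 * (i : ℕ) + j) * nn b = d := ⟨_, rfl⟩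
      rw [hd] at h4
      have h6 : ((g : M) : GL (Fin 3) F) * zel r e * ((g : M) : GL (Fin 3) F)⁻¹ = r.om ^ d * zel r e ^ 1 := by
        have := congrArg (fun v : M => (v : GL (Fin 3) F)) h4
        simpa [hzv, hov] using this
      have hab := two_values h6 (diag_two (zel_val) (a := (e : F)) (b := (e : F) * r.w)
        (fun i => by fin_cases i <;> simp)) (zx_val d 1)
      have hw0 : r.w ^ d = 1 := by
        have q0 := hab 0
        have q1 := hab 1
        simp only [pow_one, Matrix.cons_val_zero, Matrix.cons_val_one] at q0 q1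
        rcases q0 with q | q
        · exact mul_left_cancel₀ e.ne_zero (by linear_combination q)
        · exfalso
          have q' : r.w ^ d = r.w := mul_left_cancel₀ e.ne_zero (by linear_combination q)
          rw [q'] at q1
          rcases q1 with q2 | q2
          · exact r.sq_ne_one (mul_left_cancel₀ e.ne_zero (by linear_combination q2))
          · exact r.sw_ne (mul_left_cancel₀ e.ne_zero (by linear_combination -q2))
      have hod : r.om ^ d = 1 := Units.ext (by rw [r.om_pow_val, hw0, one_smul, Units.val_one])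
      rw [hod, one_mul, pow_one, mul_inv_eq_iff_eq_mul] at h6
      rw [Subgroup.mem_centralizer_singleton_iff]
      exact Subtype.ext (by simp only [Subgroup.coe_mul, hzv]; exact h6)
    have h1 := le_card_conjUnion S6 _ hN
    rw [hS6, Nat.card_range_of_injective hφinj, Nat.card_prod, Nat.card_fin, Nat.card_fin, ← hS6] at h1
    have h2 : Nat.card (Subgroup.centralizer {ze} : Subgroup M) ≤ 2 * Nat.card t := by
      let jm : M := ⟨r.j, h.j_mem⟩
      have hmem : ∀ v : (Subgroup.centralizer {ze} : Subgroup M), ∃ w : Bool × t,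
          (v : M) = if w.1 then (w.2 : M) * jm⁻¹ else (w.2 : M) := by
        intro v
        have hvz := Subgroup.mem_centralizer_singleton_iff.1 v.2
        have hvz' := congrArg (fun v : M => (v : GL (Fin 3) F)) hvz
        simp only [Subgroup.coe_mul, hzv] at hvz'
        rcases cent_z h he (v : M).2 hvz' with hc | hc
        · exact ⟨(false, ⟨v, (ht _).2 hc⟩), rfl⟩
        · refine ⟨(true, ⟨(v : M) * jm, (ht _).2 hc⟩), ?_⟩
          simp
      choose f hf using hmem
      have := Nat.card_le_card_of_injective f fun a b hab => Subtype.ext (by rw [hf a, hf b, hab])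
      simpa [Nat.card_prod] using this
    have h3 := h1.trans (Nat.mul_le_mul_left _ h2)
    linarith
  -- elements with three distinct entries
  have hdist : ∀ g : M, ∀ s ∈ S6, ∀ s' ∈ t, g * s * g⁻¹ = s' → (∀ i j, i ≠ j → E s' i ≠ E s' j) → False := by
    rw [hS6]
    rintro g s ⟨v, rfl⟩ s' hs' hg hne
    have hg' := congrArg (fun v : M => (v : GL (Fin 3) F)) hg
    simp only [Subgroup.coe_mul, Subgroup.coe_inv] at hg'
    have hab := two_values hg' (diag_two (hφval v) (fun i => (by fin_cases i <;> simp :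
      _ = r.w ^ (v.1 : ℕ) * (e : F) ^ nn v.2 ∨ _ = r.w ^ (v.1 : ℕ) * ((e : F) * r.w) ^ nn v.2))) (hdiag s' hs')
    rcases hab 0 with a | a <;> rcases hab 1 with b | b <;> rcases hab 2 with c | c <;>
      first
      | exact hne 0 1 (by decide) (a.trans b.symm)
      | exact hne 0 2 (by decide) (a.trans c.symm)
      | exact hne 1 2 (by decide) (b.trans c.symm)
  obtain ⟨S', hS't, hS'ne, hcount⟩ : ∃ S' : Set M, (∀ s ∈ S', s ∈ t) ∧ (∀ s ∈ S', ∀ i j, i ≠ j → E s i ≠ E s j) ∧
      4 * Nat.card M ≤ 27 * (Nat.card (conjUnion S6) + Nat.card (conjUnion S')) := by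
    rcases hcard with hc | hc
    · refine ⟨{xe}, fun s hs => by rw [Set.mem_singleton_iff.1 hs]; exact hxt, fun s hs => ?_, ?_⟩
      · rw [Set.mem_singleton_iff.1 hs]
        intro i j hij
        simp only [E, hxv, x_val, Matrix.diagonal_apply_eq]
        fin_cases i <;> fin_cases j <;>
          simp [r.w_ne_one, r.sq_ne_one, sub_ne_zero.1 r.sw_ne, r.w_ne_one.symm, r.sq_ne_one.symm,
            (sub_ne_zero.1 r.sw_ne).symm] at hij ⊢
      · have hN : ∀ g : M, ∀ s ∈ ({xe} : Set M), g * s * g⁻¹ ∈ ({xe} : Set M) → g ∈ t := by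
          intro g s hs hg
          rw [Set.mem_singleton_iff] at hs hg
          rw [hs, mul_inv_eq_iff_eq_mul] at hg
          rw [ht]
          simpa [hxv] using congrArg (fun v : M => (v : GL (Fin 3) F)) hg
        have h1 := le_card_conjUnion _ _ hN
        rw [Nat.card_coe_set_eq ({xe} : Set M), Set.ncard_singleton, mul_one, hc] at h1
        rw [hc] at h6
        linarith
    · let D : Set t := {v | ∀ i j, i ≠ j → E v i ≠ E v j}
      have hperm : ∀ i j k : Fin 3, i ≠ j → i ≠ k → j ≠ k → ∀ f : Fin 3 → F, f i * f j * f k = f 0 * f 1 * f 2 := by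
        intro i j k hij hik hjk f
        fin_cases i <;> fin_cases j <;> fin_cases k <;>
          simp only [Fin.zero_eta, Fin.mk_one, Fin.reduceFinMk, ne_eq, not_true_eq_false] at hij hik hjk ⊢ <;> ring
      have hcov : ∀ i j k l : Fin 3, i ≠ j → i ≠ k → j ≠ k → l = i ∨ l = j ∨ l = k := by decide
      have hA : ∀ i j k : Fin 3, i ≠ j → i ≠ k → j ≠ k → Nat.card {v : t | E v i = E v j} ≤ 9 := by
        intro i j k hij hik hjk
        refine card_root_le _ (fun v => E v i) (fun v _ => hE9 v v.2 i) ?_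
        intro v hv v' hv' hvv
        simp only [Set.mem_setOf_eq] at hv hv' hvv
        have hj : E v j = E v' j := by rw [← hv, hvv, hv']
        have hk : E v k = E v' k := by
          have e1 := hdet v v.2
          have e2 := hdet v' v'.2
          refine mul_left_cancel₀ (mul_ne_zero (hE0 v v.2 i) (hE0 v v.2 j)) ?_
          conv_rhs => rw [hvv, hj]
          rw [← hperm i j k hij hik hjk] at e1 e2
          linear_combination e1 - e2
        have hall : ∀ l, E v l = E v' l := by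
          intro l
          rcases hcov i j k l hij hik hjk with rfl | rfl | rfl <;> assumption
        exact Subtype.ext (hEext v v.2 v' v'.2 (hall 0) (hall 1))
      have hD : 54 ≤ Nat.card D := by
        have hsub : (Set.univ : Set t) ⊆
            D ∪ ({v : t | E v 0 = E v 1} ∪ ({v : t | E v 0 = E v 2} ∪ {v : t | E v 1 = E v 2})) := by
          intro v _
          by_contra hv
          simp only [Set.mem_union, not_or, Set.mem_setOf_eq] at hv
          obtain ⟨hv, a, b, c⟩ := hv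
          refine hv fun i j hij => ?_
          fin_cases i <;> fin_cases j <;> simp at hij ⊢ <;>
            first | exact a | exact b | exact c | exact Ne.symm a | exact Ne.symm b | exact Ne.symm c
        have h1 := card_le_of_subset hsub
        rw [Nat.card_univ, hc] at h1
        have h2 := hA 0 1 2 (by decide) (by decide) (by decide)
        have h3 := hA 0 2 1 (by decide) (by decide) (by decide)
        have h4 := hA 1 2 0 (by decide) (by decide) (by decide)
        have h5 := h1.trans ((card_union_le _ _).trans (Nat.add_le_add le_rfl ((card_union_le _ _).trans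
          (Nat.add_le_add le_rfl (card_union_le _ _)))))
        omega
      refine ⟨Subtype.val '' D, ?_, ?_, ?_⟩
      · rintro s ⟨v, -, rfl⟩; exact v.2
      · rintro s ⟨v, hv, rfl⟩; exact hv
      have hmv : ∀ (g : M), ∀ s ∈ t, ∀ s' ∈ t, g * s * g⁻¹ = s' → (∀ i j, i ≠ j → E s' i ≠ E s' j) →
          ∀ v ∈ t, g * v * g⁻¹ ∈ t := by
        intro g s hs s' hs' hg hne v hv
        rw [ht]
        refine diag_of_comm_distinct (hdiag s' hs') hne ?_
        have : g * v * g⁻¹ * s' = s' * (g * v * g⁻¹) := by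
          rw [← hg, conj_mul, conj_mul, hcomm v hv s hs]
        exact congrArg (fun v : M => (v : GL (Fin 3) F)) this
      have hN : ∀ g : M, ∀ s ∈ Subtype.val '' D, g * s * g⁻¹ ∈ Subtype.val '' D → g ∈ Subgroup.normalizer (t : Set M) := by
        rintro g s ⟨v, hv, rfl⟩ ⟨v', hv', hg⟩
        refine Subgroup.mem_normalizer_iff.2 fun u => ⟨fun hu => hmv g v v.2 v' v'.2 hg.symm hv' u hu, fun hu => ?_⟩
        have := hmv g⁻¹ v' v'.2 v v.2 (by rw [hg]; group) hv _ hu
        simpa [mul_assoc] using this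
      have h1 := le_card_conjUnion _ _ hN
      rw [Nat.card_image_of_injective Subtype.val_injective] at h1
      have h2 : Nat.card (Subgroup.normalizer (t : Set M)) ≤ 6 * Nat.card t := by
        obtain ⟨f, hf⟩ : ∃ f : Subgroup.normalizer (t : Set M) → M, ∀ g, f g = (g : M) * xe * (g : M)⁻¹ := ⟨_, fun _ => rfl⟩
        have hr : Set.range f ⊆ Set.range fun v : Fin 3 × Fin 2 => oe ^ (v.1 : ℕ) * xe ^ ((v.2 : ℕ) + 1) := by
          rintro u ⟨g, rfl⟩
          have hu : f g ∈ t := by rw [hf]; exact (Subgroup.mem_normalizer_iff.1 g.2 xe).1 hxt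
          have hu3 : f g ^ 3 = 1 := by
            rw [hf, conj_pow, show xe ^ 3 = 1 by
              rw [hxe]; exact Subtype.ext (by show r.x ^ 3 = 1; rw [pow_three']; exact r.x_cube), mul_one, mul_inv_cancel]
          have hE3 : ∀ i, E (f g) i ^ 3 = 1 := fun i => by
            have e3 := congrArg (fun v : M => ((v : GL (Fin 3) F) : Matrix (Fin 3) (Fin 3) F) i i) hu3
            simp only [SubmonoidClass.coe_pow, Units.val_pow_eq_pow_val, hdiag _ hu, Matrix.diagonal_pow,
              Matrix.diagonal_apply_eq, OneMemClass.coe_one, Units.val_one, Matrix.one_apply_eq] at e3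
            exact e3
          obtain ⟨a, c, hac⟩ := diag_cube_eq r hE3 (hdet _ hu)
          have hval : ((f g : M) : GL (Fin 3) F) = r.om ^ c * r.x ^ a := Units.ext ((hdiag _ hu).trans hac)
          rw [r.x_pow_mod, om_pow_mod c] at hval
          have ha0 : a % 3 ≠ 0 := fun h0 => by
            rw [h0, pow_zero, mul_one, hf, Subgroup.coe_mul, Subgroup.coe_mul, Subgroup.coe_inv, hxv,
              mul_inv_eq_iff_eq_mul, r.om_pow_comm] at hval
            exact r.x_ne_om _ (mul_left_cancel hval)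
          refine ⟨(⟨c % 3, Nat.mod_lt _ (by norm_num)⟩, ⟨a % 3 - 1, by omega⟩), Subtype.ext ?_⟩
          simp only [Subgroup.coe_mul, SubmonoidClass.coe_pow, hov, hxv, Nat.sub_add_cancel (Nat.one_le_iff_ne_zero.2 ha0)]
          exact hval.symm
        choose g0 hg0 using fun u : Set.range f => u.2
        have hmem : ∀ g, (g0 ⟨f g, g, rfl⟩ : M)⁻¹ * (g : M) ∈ t := fun g => by
          have key : ∀ a, f a = f g → (a : M)⁻¹ * (g : M) ∈ t := by
            intro a e0
            rw [hf, hf] at e0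
            have e1 := congrArg (fun v : M => (v : GL (Fin 3) F)) e0
            simp only [Subgroup.coe_mul, Subgroup.coe_inv, hxv] at e1
            rw [ht]
            simp only [Subgroup.coe_mul, Subgroup.coe_inv]
            rw [← mul_inv_eq_iff_eq_mul]
            calc _ = ((a : M) : GL (Fin 3) F)⁻¹ *
                  (((g : M) : GL (Fin 3) F) * r.x * ((g : M) : GL (Fin 3) F)⁻¹) * ((a : M) : GL (Fin 3) F) := by group
              _ = r.x := by rw [← e1]; group
          exact key _ (hg0 ⟨f g, g, rfl⟩)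
        have hinj : Function.Injective fun g => ((⟨f g, g, rfl⟩ : Set.range f), (⟨_, hmem g⟩ : t)) := by
          intro g g' hv
          simp only [Prod.mk.injEq, Subtype.mk.injEq] at hv
          have hv2 := hv.2
          rw [hv.1] at hv2
          exact Subtype.ext (mul_left_cancel hv2)
        have h3 := Nat.card_le_card_of_injective _ hinj
        rw [Nat.card_prod] at h3
        refine h3.trans (Nat.mul_le_mul_right _ ((card_le_of_subset hr).trans ((Finite.card_range_le _).trans ?_)))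
        rw [Nat.card_prod, Nat.card_fin, Nat.card_fin]
      rw [hc] at h6 h2
      nlinarith [Nat.mul_le_mul_left (Nat.card M) hD, Nat.mul_le_mul_left (Nat.card (conjUnion (Subtype.val '' D))) h2]
  have hS6t : ∀ s ∈ S6, s ∈ t := by rw [hS6]; rintro s ⟨v, rfl⟩; exact hφt v
  refine ⟨conjUnion S6 ∪ conjUnion S', fun v hv => ?_, hcount.trans (Nat.mul_le_mul_left _ ?_)⟩
  · obtain ⟨g, s, hs, hns, rfl⟩ : ∃ g s, s ∈ t ∧ (∃ i j, E s i ≠ E s j) ∧ g * s * g⁻¹ = v := by
      rcases hv with ⟨g, s, hs, he'⟩ | ⟨g, s, hs, he'⟩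
      · refine ⟨g, s, hS6t s hs, ⟨0, 1, ?_⟩, he'⟩
        rw [hS6] at hs
        obtain ⟨v, rfl⟩ := hs
        intro hh
        simp only [E, hφval, Matrix.diagonal_apply_eq, Matrix.cons_val_zero, Matrix.cons_val_one] at hh
        rw [mul_pow] at hh
        have hw : r.w ^ nn v.2 = 1 := (mul_eq_left₀ (pow_ne_zero _ e.ne_zero)).1
          (mul_left_cancel₀ (pow_ne_zero (v.1 : ℕ) r.w_ne_zero) hh).symm
        have h0 := orderOf_dvd_of_pow_eq_one hw
        rw [orderOf_w] at h0
        exact hn3 _ h0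
      · exact ⟨g, s, hS't s hs, ⟨0, 1, hS'ne s hs 0 1 (by decide)⟩, he'⟩
    refine ⟨?_, fun k hk => ?_⟩
    · rw [conj_pow, show (3 : ℕ) ^ 5 = 9 * 27 by norm_num, pow_mul, hv9 s hs, one_pow, mul_one, mul_inv_cancel]
    · obtain ⟨i, j, hij⟩ := hns
      simp only [Subgroup.coe_mul, Subgroup.coe_inv] at hk
      rw [mul_inv_eq_iff_eq_mul, r.om_pow_comm] at hk
      have := mul_left_cancel hk
      exact hij (by simp [E, this, r.om_pow_val])
  · refine card_add_le Set.subset_union_left Set.subset_union_right (Set.disjoint_left.2 ?_)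
    rintro v ⟨g, s, hs, rfl⟩ ⟨g', s', hs', he'⟩
    refine hdist (g'⁻¹ * g) s hs s' (hS't s' hs') ?_ (hS'ne s' hs')
    calc g'⁻¹ * g * s * (g'⁻¹ * g)⁻¹ = g'⁻¹ * (g * s * g⁻¹) * g' := by group
      _ = g'⁻¹ * (g' * s' * g'⁻¹) * g' := by rw [he']
      _ = s' := by group

end CfsgLib.Dim3Max.Six
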