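import Cfsg.Agent.Lib.Dim3Max.Six.CaseBCent
import Cfsg.Agent.Lib.Dim3Max.Six.CaseBThree
import Cfsg.Agent.Lib.Dim3Max.Six.Iface

/-!
A group containing a cube root of the scalar times the monomial element normalises the extraspecial group.
-/

set_option autoImplicit false
set_option linter.unusedSectionVars false
set_option linter.dupNamespace false
set_option linter.style.haveILetI false

namespace CfsgLib.Dim3Max.Six

open scoped Matrix MatrixGroups
open Root (low)

universe u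

variable {F : Type u} [Field F] [Fintype F] {r : Root F} {p : ℕ} {M : Subgroup (GL (Fin 3) F)}

/-- Three disjoint subsets. -/
theorem card_three_le {G : Type*} [Finite G] {A B C : Set G} (hAB : Disjoint A B) (hAC : Disjoint A C)
    (hBC : Disjoint B C) : Nat.card A + Nat.card B + Nat.card C ≤ Nat.card G := by
  rw [Nat.card_coe_set_eq, Nat.card_coe_set_eq, Nat.card_coe_set_eq,
    ← Set.ncard_union_eq hAB (Set.toFinite A) (Set.toFinite B),
    ← Set.ncard_union_eq (hAC.union_left hBC) (Set.toFinite _) (Set.toFinite C), ← Set.ncard_univ]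
  exact Set.ncard_le_ncard (Set.subset_univ _) Set.finite_univ

theorem eq_one_of_dvd_pow_three {q n : ℕ} (hq : q.Prime) (h3 : q ≠ 3) (h : q ∣ 3 ^ n) : False :=
  h3 ((Nat.prime_dvd_prime_iff_eq hq Nat.prime_three).1 (hq.dvd_of_dvd_pow h))

/-- No further prime divides the order. -/
theorem Six.no_prime (h : Six r p M) (hs : SsStmt F) {e : Fˣ} (he : (e : F) ^ 3 = r.w) {l : ℕ} (hl : l.Prime)
    (h2 : l ≠ 2) (h3 : l ≠ 3) (hp : l ≠ p) : ¬ l ∣ Nat.card M := by
  intro hdvd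
  obtain ⟨-, -, h12⟩ := h.zImage he
  have h5 : 5 ≤ l := by
    have := hl.two_le
    have h4 : l ≠ 4 := fun e4 => by rw [e4] at hl; norm_num at hl
    omega
  have hinv : ∀ y v : M, orderOf y = l → orderOf v = 2 → v * y ≠ y * v := by
    intro y v hy hv hc
    have h72 := (h.two_part h12).2 y v hv hc
    rw [hy, show 72 = 2 ^ 3 * 3 ^ 2 from rfl] at h72
    rcases (Nat.Prime.dvd_mul hl).1 h72 with h' | h'
    · exact h2 ((Nat.prime_dvd_prime_iff_eq hl Nat.prime_two).1 (hl.dvd_of_dvd_pow h'))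
    · exact eq_one_of_dvd_pow_three hl h3 h'
  obtain ⟨E, hE2, hE⟩ := h.even_count h12
  obtain ⟨-, T, hT3, hT⟩ := h.threeB he
  obtain ⟨S, hSl, hS⟩ := hs r p M h l hl h5 hp hdvd hinv
  have hSl' : ∀ v ∈ conjUnion S, l ∣ orderOf v := by
    rintro _ ⟨g, s, hsS, rfl⟩
    rw [← MulAut.conj_apply, MulEquiv.orderOf_eq]
    exact hSl s hsS
  have hT243 : ∀ v ∈ T, orderOf v ∣ 3 ^ 5 := fun v hv => orderOf_dvd_of_pow_eq_one (hT3 v hv).1
  have hAB : Disjoint (conjUnion E) T := Set.disjoint_left.2 fun v hvA hvB =>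
    eq_one_of_dvd_pow_three Nat.prime_two (by norm_num) ((hE2 v hvA).trans (hT243 v hvB))
  have hBC : Disjoint T (conjUnion S) := Set.disjoint_left.2 fun v hvB hvC =>
    eq_one_of_dvd_pow_three hl h3 ((hSl' v hvC).trans (hT243 v hvB))
  have hAC : Disjoint (conjUnion E) (conjUnion S) := Set.disjoint_left.2 fun v hvA hvC =>
    hinv _ _ (orderOf_pow_orderOf_div (orderOf_pos v).ne' (hSl' v hvC))
      (orderOf_pow_orderOf_div (orderOf_pos v).ne' (hE2 v hvA)) (Commute.pow_pow_self v _ _).eq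
  have hsum := card_three_le hAB hAC hBC
  have : 0 < Nat.card M := Nat.card_pos
  omega

/-- The order of the group. -/
theorem Six.caseB_card (h : Six r p M) (hs : SsStmt F) {e : Fˣ} (he : (e : F) ^ 3 = r.w) {t : ℕ}
    (ht : t = 27 ∨ t = 81) (P : Sylow 3 M) (hP : Nat.card P = 3 * t) :
    (¬ p ∣ Nat.card M → Nat.card M = 8 * (3 * t)) ∧ (p ∣ Nat.card M → Nat.card M = 8 * (3 * t) * p) := by
  classical
  haveI : Fact (Nat.Prime 3) := ⟨Nat.prime_three⟩
  obtain ⟨-, -, h12⟩ := h.zImage he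
  have hp7 := h.seven_le
  have h8 : 8 * (3 * t) ∣ Nat.card M := by
    refine Nat.Coprime.mul_dvd_of_dvd_of_dvd (by rcases ht with rfl | rfl <;> norm_num) ?_
      (hP ▸ Subgroup.card_subgroup_dvd_card _)
    exact (show 8 ∣ 72 by norm_num).trans (h.card_CJ72 h12 ▸ Subgroup.card_subgroup_dvd_card _)
  have hcop : Nat.Coprime (8 * (3 * t)) p := by
    refine Nat.Coprime.symm ((Nat.Prime.coprime_iff_not_dvd h.prime).2 fun hd => ?_)
    have : p ∣ 2 ^ 3 * 3 ^ 5 := hd.trans (by rcases ht with rfl | rfl <;> norm_num)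
    rcases (Nat.Prime.dvd_mul h.prime).1 this with h' | h'
    · have := (Nat.prime_dvd_prime_iff_eq h.prime Nat.prime_two).1 (h.prime.dvd_of_dvd_pow h')
      omega
    · exact eq_one_of_dvd_pow_three h.prime (by omega) h'
  have hprime : ∀ q k : ℕ, q.Prime → q ^ (k + 1) ∣ Nat.card M → (q = p ∧ k = 0) ∨ q ^ (k + 1) ∣ 8 * (3 * t) := by
    intro q k hq hd
    rcases eq_or_ne q p with rfl | hqp
    · refine .inl ⟨rfl, ?_⟩
      by_contra hk
      obtain ⟨-, -, -, -, -, -, -, -, -, hsq⟩ := h.unip ((dvd_pow_self q (Nat.succ_ne_zero k)).trans hd)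
      refine hsq ((?_ : q * q ∣ q ^ (k + 1)).trans hd)
      rw [← pow_two]
      exact pow_dvd_pow q (by omega)
    refine .inr ?_
    rcases eq_or_ne q 2 with rfl | h2
    · exact ((pow_dvd_pow 2 ((h.two_part h12).1 _ hd)).trans (by norm_num : (2 : ℕ) ^ 3 ∣ 8)).trans (dvd_mul_right _ _)
    rcases eq_or_ne q 3 with rfl | h3
    · exact (hP ▸ P.pow_dvd_card_of_pow_dvd_card hd : 3 ^ (k + 1) ∣ 3 * t).trans (dvd_mul_left _ _)
    exact absurd ((dvd_pow_self q (Nat.succ_ne_zero k)).trans hd) (h.no_prime hs he hq h2 h3 hqp)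
  refine ⟨fun hnp => Nat.dvd_antisymm ((Nat.dvd_iff_prime_pow_dvd_dvd _ _).2 fun q k hq hd => ?_) h8,
    fun hpd => Nat.dvd_antisymm ((Nat.dvd_iff_prime_pow_dvd_dvd _ _).2 fun q k hq hd => ?_)
      (hcop.mul_dvd_of_dvd_of_dvd h8 hpd)⟩
  · rcases k with _ | k
    · simp
    rcases hprime q k hq hd with ⟨rfl, rfl⟩ | h'
    · exact absurd (by simpa using hd) hnp
    · exact h'
  · rcases k with _ | k
    · simp
    rcases hprime q k hq hd with ⟨rfl, rfl⟩ | h'
    · simp
    · exact h'.trans (dvd_mul_right _ _)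

/-- The characteristic does not divide the order. -/
theorem Six.p_not_dvd (h : Six r p M) (hs : SsStmt F) (h9 : p % 9 = 1 ∨ p % 9 = 8) {e : Fˣ}
    (he : (e : F) ^ 3 = r.w) : ¬ p ∣ Nat.card M := by
  classical
  intro hpd
  obtain ⟨-, -, h12⟩ := h.zImage he
  have hp7 := h.seven_le
  obtain ⟨⟨t, -, htc, P, -, -, hPc⟩, T, hT3, hT⟩ := h.threeB he
  obtain ⟨E, hE2, hE⟩ := h.even_count h12
  obtain ⟨S, ev, hev, hev0, hC, hSmem, hne, -, ⟨d, hd, hdp⟩, -⟩ := h.unip hpd
  have hm := (h.caseB_card hs he htc P hPc).2 hpd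
  have hT243 : ∀ v ∈ T, orderOf v ∣ 3 ^ 5 := fun v hv => orderOf_dvd_of_pow_eq_one (hT3 v hv).1
  have hAB : Disjoint (conjUnion E) T := Set.disjoint_left.2 fun v hvA hvB =>
    eq_one_of_dvd_pow_three Nat.prime_two (by norm_num) ((hE2 v hvA).trans (hT243 v hvB))
  have hBC : Disjoint T (conjUnion S) := Set.disjoint_left.2 fun v hvB hvC => by
    obtain ⟨h3p, h3⟩ := (hSmem v).1 hvC
    have hcop : Nat.Coprime (3 ^ 5) p := Nat.Coprime.pow_left 5
      ((Nat.coprime_primes Nat.prime_three h.prime).2 (by omega))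
    refine h3 (orderOf_dvd_iff_pow_eq_one.1 (Nat.Coprime.dvd_of_dvd_mul_right ?_ (orderOf_dvd_of_pow_eq_one h3p)))
    exact Nat.Coprime.coprime_dvd_left (hT243 v hvB) hcop
  have hAC : Disjoint (conjUnion E) (conjUnion S) := Set.disjoint_left.2 fun v hvA hvC => by
    have h2 := (hE2 v hvA).trans (orderOf_dvd_of_pow_eq_one ((hSmem v).1 hvC).1)
    rcases (Nat.Prime.dvd_mul Nat.prime_two).1 h2 with h' | h'
    · norm_num at h'
    · have := (Nat.prime_dvd_prime_iff_eq Nat.prime_two h.prime).1 h'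
      omega
  exact caseB_arith h.prime h9 hp7 hev hev0 hdp htc hm hd (fun hd1 => hne (by rw [hd, hd1, mul_one])) hE hT hC
    (card_three_le hAB hAC hBC)

/-- A diagonal element whose Fourier conjugate is diagonal is scalar. -/
theorem Root.scalar_of_fourier (r : Root F) {v w : GL (Fin 3) F} (hv : v * r.x = r.x * v) (hw : w * r.x = r.x * w)
    (hc : r.f * v * r.f⁻¹ = w) : ∃ b : F, (v : Matrix (Fin 3) (Fin 3) F) = b • 1 := by
  have hk : r.k ≠ 0 := fun h0 => by
    have := mul_inv_cancel₀ r.sw_ne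
    rw [show (r.w - r.w * r.w)⁻¹ = r.k from rfl, h0, mul_zero] at this
    exact zero_ne_one this
  obtain ⟨d, hd⟩ : ∃ d : Fin 3 → F, (v : Matrix (Fin 3) (Fin 3) F) = Matrix.diagonal d := ⟨_, r.diag_of_comm hv⟩
  obtain ⟨c, hc'⟩ : ∃ c : Fin 3 → F, (w : Matrix (Fin 3) (Fin 3) F) = Matrix.diagonal c := ⟨_, r.diag_of_comm hw⟩
  have he : (r.f : Matrix (Fin 3) (Fin 3) F) * Matrix.diagonal d = Matrix.diagonal c * (r.f : Matrix (Fin 3) (Fin 3) F) := by
    rw [← hd, ← hc', ← Units.val_mul, ← Units.val_mul, ← hc, inv_mul_cancel_right]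
  rw [show (r.f : Matrix (Fin 3) (Fin 3) F) =
    r.k • !![1, 1, 1; 1, r.w, r.w * r.w; 1, r.w * r.w, r.w] from rfl] at he
  have e00 := congrFun (congrFun he 0) 0
  have e01 := congrFun (congrFun he 0) 1
  have e02 := congrFun (congrFun he 0) 2
  simp [hk] at e00 e01 e02
  refine ⟨d 0, ?_⟩
  rw [hd, Matrix.smul_one_eq_diagonal]
  congr 1
  funext i
  fin_cases i
  · rfl
  · show d 1 = d 0
    exact mul_left_cancel₀ hk (by linear_combination e01 - e00)
  · show d 2 = d 0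
    exact mul_left_cancel₀ hk (by linear_combination e02 - e00)

/-- The diagonal subgroup does not have order eighty-one. -/
theorem Six.t_ne_81 (h : Six r p M) {t : Subgroup M}
    (htm : ∀ v, v ∈ t ↔ (v : GL (Fin 3) F) * r.x = r.x * (v : GL (Fin 3) F)) {P : Sylow 3 M}
    (htP : t ≤ (P : Subgroup M)) (hPc : Nat.card P = 3 * Nat.card t) (hM : Nat.card M = 8 * (3 * Nat.card t)) :
    Nat.card t ≠ 81 := by
  classical
  intro h81
  haveI : Fact (Nat.Prime 3) := ⟨Nat.prime_three⟩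
  rw [h81] at hPc hM
  obtain ⟨f, hf⟩ : ∃ f : M, f = ⟨r.f, h.f_mem⟩ := ⟨_, rfl⟩
  let Q : Subgroup M := (P : Subgroup M).map (MulAut.conj f : M ≃* M).toMonoidHom
  have hQc : Nat.card Q = 243 := by
    rw [Nat.card_congr ((P : Subgroup M).equivMapOfInjective _ (MulAut.conj f).injective).toEquiv.symm, hPc]
  set A : Subgroup M := (P : Subgroup M) ⊓ Q
  have hA31 : 31 ≤ Nat.card A := by
    have hi : (P : Subgroup M).index = 8 := by
      have := Subgroup.card_mul_index (P : Subgroup M)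
      rw [hPc, hM] at this
      omega
    have hrel : (P : Subgroup M).relIndex Q ≤ 8 := by
      rw [← hi, ← Subgroup.relIndex_top_right]
      exact Subgroup.relIndex_le_of_le_right le_top (by rw [Subgroup.relIndex_top_right, hi]; norm_num)
    have hmul := Subgroup.card_mul_index ((P : Subgroup M).subgroupOf Q)
    rw [← Subgroup.inf_subgroupOf_right, Nat.card_congr (Subgroup.subgroupOfEquivOfLe inf_le_right).toEquiv,
      Subgroup.inf_subgroupOf_right, hQc] at hmul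
    change Nat.card A * (P : Subgroup M).relIndex Q = 243 at hmul
    have := Nat.mul_le_mul_left (Nat.card A) hrel
    omega
  have h1 := card_le_mul_index (A := A) htP inf_le_left
  rw [h81, hPc] at h1
  let B : Subgroup M := (A ⊓ t).map (MulAut.conj f⁻¹ : M ≃* M).toMonoidHom
  have hBc : Nat.card B = Nat.card (A ⊓ t : Subgroup M) :=
    Nat.card_congr ((A ⊓ t).equivMapOfInjective _ (MulAut.conj f⁻¹).injective).toEquiv.symm
  have hBP : B ≤ (P : Subgroup M) := by
    rintro _ ⟨a, ⟨⟨-, q, hq, rfl⟩, -⟩, rfl⟩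
    have : f⁻¹ * (f * q * f⁻¹) * f⁻¹⁻¹ = q := by group
    show f⁻¹ * (f * q * f⁻¹) * f⁻¹⁻¹ ∈ (P : Subgroup M)
    rw [this]
    exact hq
  have h2 := card_le_mul_index (A := B) htP hBP
  rw [h81, hPc] at h2
  have h3 : Nat.card (B ⊓ t : Subgroup M) ≤ 3 := by
    have hle : B ⊓ t ≤ Subgroup.zpowers h.om' := by
      rintro w ⟨⟨a, ⟨-, hat⟩, rfl⟩, hwt⟩
      have hw := (htm _).1 hwt
      obtain ⟨b, hb⟩ := r.scalar_of_fourier hw ((htm a).1 hat) (by
        rw [hf]
        show r.f * (r.f⁻¹ * (a : GL (Fin 3) F) * r.f⁻¹⁻¹) * r.f⁻¹ = a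
        group)
      obtain ⟨k, hk⟩ := h.eq_om_pow (((MulAut.conj f⁻¹ : M ≃* M).toMonoidHom a).2) hb
      exact ⟨k, Subtype.ext (by simpa [Six.om'] using hk.symm)⟩
    exact (Nat.le_of_dvd Nat.card_pos (Subgroup.card_dvd_of_le hle)).trans_eq (by rw [Nat.card_zpowers, h.orderOf_om'])
  omega

/-- A group with a ninth root normalises the extraspecial group. -/
theorem caseB : SsStmt F → ∀ (r : Root F) (p : ℕ) (M : Subgroup (GL (Fin 3) F)), Six r p M →
    (p % 9 = 1 ∨ p % 9 = 8) → (∃ e : Fˣ, (e : F) ^ 3 = r.w) → M ≤ Cfsg.Geo.subgroupNormalizer r.grp := by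
  classical
  rintro hs r p M h h9 ⟨e, he⟩
  haveI : Fact (Nat.Prime 3) := ⟨Nat.prime_three⟩
  obtain ⟨-, -, h12⟩ := h.zImage he
  obtain ⟨⟨t, htm, htc, P, htP, hyP, hPc⟩, -⟩ := h.threeB he
  have hM := (h.caseB_card hs he htc P hPc).1 (h.p_not_dvd hs h9 he)
  have h27 : Nat.card t = 27 := htc.resolve_right (h.t_ne_81 htm htP hPc hM)
  rw [h27] at hPc hM
  obtain ⟨K, hK⟩ : ∃ K : Subgroup M, K = (Cfsg.Geo.subgroupNormalizer r.grp).comap M.subtype := ⟨_, rfl⟩
  have hKm : ∀ v : M, v ∈ K ↔ (v : GL (Fin 3) F) ∈ Cfsg.Geo.subgroupNormalizer r.grp := by subst hK; exact fun _ => Iff.rfl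
  have hxN : r.x ∈ Cfsg.Geo.subgroupNormalizer r.grp :=
    Subgroup.le_normalizer (Subgroup.subset_closure (Or.inl rfl))
  have hyN : r.y ∈ Cfsg.Geo.subgroupNormalizer r.grp :=
    Subgroup.le_normalizer (Subgroup.subset_closure (Or.inr rfl))
  have hzN : ((h.zc he : M) : GL (Fin 3) F) ∈ Cfsg.Geo.subgroupNormalizer r.grp := h.cent_le_normalizer he _
  obtain ⟨z, hz⟩ : ∃ z : M, (h.zc he : M) = z := ⟨_, rfl⟩
  rw [hz] at hzN
  have hzv : (z : GL (Fin 3) F) = scl e * r.s := by rw [← hz]; rfl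
  have hzt : z ∈ t := (htm z).2 (by rw [hzv, mul_assoc, r.s_x, ← mul_assoc, scl_comm, mul_assoc])
  have hz9 : orderOf z = 9 := by
    refine orderOf_eq_prime_pow (p := 3) (n := 1) (fun e3 => ?_) ?_
    · rw [pow_one, ← hz, ← SubgroupClass.coe_pow, pow_three', h.zc_cube he, OneMemClass.coe_eq_one] at e3
      have := h.orderOf_oc
      rw [e3, orderOf_one] at this
      norm_num at this
    · rw [show 3 ^ (1 + 1) = 3 * 3 by norm_num, pow_mul, ← hz, ← SubgroupClass.coe_pow, pow_three' (h.zc he),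
        h.zc_cube he, ← SubgroupClass.coe_pow, h.oc_cube]
      rfl
  have hxz : (⟨r.x, h.x_mem⟩ : M) ∉ Subgroup.zpowers z := by
    intro hmem
    obtain ⟨n, hn⟩ := (isOfFinOrder_of_finite z).mem_powers_iff_mem_zpowers.2 hmem
    have hn' := congrArg (fun v : M => ((v : GL (Fin 3) F) : Matrix (Fin 3) (Fin 3) F)) hn
    simp only [SubmonoidClass.coe_pow, hzv, Units.val_pow_eq_pow_val] at hn'
    rw [show scl e * r.s = ThreeB.zel r e from rfl, ThreeB.zel_val, Matrix.diagonal_pow, ThreeB.x_val] at hn'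
    have e1 := congrFun (congrFun hn' 1) 1
    have e2 := congrFun (congrFun hn' 2) 2
    simp at e1 e2
    exact r.w_ne_one (mul_left_cancel₀ r.w_ne_zero (by rw [mul_one, ← e2, e1]))
  have htK : t ≤ K := by
    obtain ⟨n, hn⟩ := IsPGroup.iff_card.1 (P.isPGroup'.to_le ((inf_le_left : t ⊓ K ≤ t).trans htP))
    have hlt : Subgroup.zpowers z < t ⊓ K := lt_of_le_of_ne
      (Subgroup.zpowers_le.2 ⟨hzt, (hKm z).2 hzN⟩)
      (fun e' => hxz (e' ▸ ⟨(htm _).2 rfl, (hKm _).2 hxN⟩))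
    have h9lt : 9 < Nat.card (t ⊓ K : Subgroup M) := by
      rw [← hz9, ← Nat.card_zpowers]
      by_contra hle
      exact hlt.ne (Subgroup.eq_of_le_of_card_ge hlt.le (by omega))
    have : Nat.card (t ⊓ K : Subgroup M) = Nat.card t := by
      have hd := Subgroup.card_dvd_of_le (inf_le_left : t ⊓ K ≤ t)
      rw [h27, hn] at hd ⊢
      rw [hn] at h9lt
      obtain ⟨i, hi, hi'⟩ := (Nat.dvd_prime_pow Nat.prime_three).1 (show 3 ^ n ∣ 3 ^ 3 by simpa using hd)
      rw [hi'] at h9lt ⊢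
      interval_cases i <;> first | omega | norm_num
    exact le_trans (Subgroup.eq_of_le_of_card_ge inf_le_left this.ge).ge inf_le_right
  have hyt : (⟨r.y, h.y_mem⟩ : M) ∉ t := fun hy => by
    have h1 := r.conj_x 1
    rw [pow_one, pow_one, show r.y * r.x = r.x * r.y from (htm _).1 hy, mul_inv_cancel_right] at h1
    have := h.orderOf_oc
    rw [show h.oc = 1 from cj_ext (right_eq_mul.1 h1), orderOf_one] at this
    norm_num at this
  have hPK : (P : Subgroup M) ≤ K := by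
    obtain ⟨n, hn⟩ := IsPGroup.iff_card.1 (P.isPGroup'.to_le (inf_le_left : (P : Subgroup M) ⊓ K ≤ P))
    have hlt : t < (P : Subgroup M) ⊓ K := lt_of_le_of_ne (le_inf htP htK)
      (fun e' => hyt (e' ▸ ⟨hyP, (hKm _).2 hyN⟩))
    have h27lt : 27 < Nat.card ((P : Subgroup M) ⊓ K : Subgroup M) := by
      rw [← h27]
      by_contra hle
      exact hlt.ne (Subgroup.eq_of_le_of_card_ge hlt.le (by omega))
    have : Nat.card ((P : Subgroup M) ⊓ K : Subgroup M) = Nat.card P := by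
      have hd := Subgroup.card_dvd_of_le (inf_le_left : (P : Subgroup M) ⊓ K ≤ P)
      rw [hPc, hn] at hd ⊢
      rw [hn] at h27lt
      obtain ⟨i, hi, hi'⟩ := (Nat.dvd_prime_pow Nat.prime_three).1 (show 3 ^ n ∣ 3 ^ 4 by simpa using hd)
      rw [hi'] at h27lt ⊢
      interval_cases i <;> first | omega | norm_num
    exact le_trans (Subgroup.eq_of_le_of_card_ge inf_le_left this.ge).ge inf_le_right
  have hCK : CJ r M ≤ K := fun v hv => (hKm v).2 (h.cent_le_normalizer he ⟨v, hv⟩)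
  have hdvd : 8 * 81 ∣ Nat.card K := by
    refine Nat.Coprime.mul_dvd_of_dvd_of_dvd (by norm_num) ?_ ?_
    · exact (show 8 ∣ 72 by norm_num).trans (h.card_CJ72 h12 ▸ Subgroup.card_dvd_of_le hCK)
    · exact (show Nat.card P = 81 by rw [hPc]) ▸ Subgroup.card_dvd_of_le hPK
  have htop : K = ⊤ := Subgroup.eq_top_of_card_eq K (Nat.dvd_antisymm (Subgroup.card_subgroup_dvd_card K)
    (by rw [hM]; exact hdvd))
  intro v hv
  exact (hKm ⟨v, hv⟩).1 (htop ▸ Subgroup.mem_top _)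

end CfsgLib.Dim3Max.Six
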