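import Mathlib

/-!
Arithmetic and groups of order twelve for the case with a ninth root of unity.
-/

set_option autoImplicit false
set_option linter.unusedSectionVars false

namespace CfsgLib.Dim3Max.Six

/-- The divisor check. -/
theorem caseB_check : ∀ d ∈ Finset.range 130, ∀ p ∈ Finset.range 130, 17 ≤ p → (d - 1) % p = 0 → 1 < d → (p % 9 = 1 ∨ p % 9 = 8) →
    ((216 % d = 0 → 5 ≤ 216 / d → (p - 1) % (216 / d) ≠ 0) ∧
      (648 % d = 0 → 5 ≤ 648 / d → (p - 1) % (648 / d) ≠ 0)) := by
  decide +kernel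

/-- No numerical possibility is left. -/
theorem caseB_arith {p e d A B C m t : ℕ} (hp : p.Prime) (h9 : p % 9 = 1 ∨ p % 9 = 8) (h7 : 7 ≤ p) (he : e ∣ p - 1)
    (he0 : 0 < e) (hd : d % p = 1) (ht : t = 27 ∨ t = 81) (hm : m = 8 * (3 * t) * p) (hed : m = 3 * p * e * d)
    (hd1 : d ≠ 1) (hA : 45 * m ≤ 72 * A) (hB : 4 * m ≤ 27 * B) (hC : C * (3 * p * e) = m * (3 * p - 3))
    (hsum : A + B + C ≤ m) : False := by
  have hp17 : 17 ≤ p := by
    by_contra hlt
    interval_cases p <;> first | omega | exact absurd hp (by norm_num)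
  have hmpos : 0 < m := by rw [hm]; rcases ht with rfl | rfl <;> positivity
  have hed' : e * d = 8 * t := by
    refine Nat.eq_of_mul_eq_mul_left (show 0 < 3 * p by omega) ?_
    calc 3 * p * (e * d) = m := by rw [hed]; ring
      _ = 3 * p * (8 * t) := by rw [hm]; ring
  by_cases he4 : e ≤ 4
  · obtain ⟨q, hq⟩ : ∃ q, p = q + 1 := ⟨p - 1, by omega⟩
    have hC' : C * (p * e) = m * q := by
      have : 3 * p - 3 = 3 * q := by omega
      rw [this] at hC
      refine Nat.eq_of_mul_eq_mul_left (show 0 < 3 by norm_num) ?_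
      linear_combination hC
    have hbound : 216 * q ≤ 49 * (p * e) := by
      refine Nat.le_of_mul_le_mul_left ?_ hmpos
      nlinarith [Nat.mul_le_mul_right (p * e) hA, Nat.mul_le_mul_right (p * e) hB, Nat.mul_le_mul_right (p * e) hsum,
        hC']
    have : p * e ≤ p * 4 := Nat.mul_le_mul_left _ he4
    omega
  · have hd0 : d ≠ 0 := fun h0 => by rw [h0, Nat.zero_mod] at hd; exact absurd hd (by norm_num)
    have hdlt : d < 130 := by
      have h5 : 5 * d ≤ e * d := Nat.mul_le_mul_right _ (by omega)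
      rw [hed'] at h5
      rcases ht with rfl | rfl <;> omega
    have hmod : (d - 1) % p = 0 := by
      rw [← Nat.div_add_mod d p, hd, Nat.add_sub_cancel, Nat.mul_mod_right]
    have hpd : p < 130 := by
      have := Nat.le_of_dvd (by omega) (Nat.dvd_of_mod_eq_zero hmod)
      omega
    have hdd : e = 8 * t / d := by rw [← hed', Nat.mul_div_cancel _ (by omega)]
    have h' := caseB_check d (Finset.mem_range.2 hdlt) p (Finset.mem_range.2 hpd) hp17 hmod (by omega) h9
    have hem : (p - 1) % e = 0 := Nat.mod_eq_zero_of_dvd he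
    have hdiv : 8 * t / d = e := hdd.symm
    have hmod8 : 8 * t % d = 0 := by rw [← hed', Nat.mul_mod_left]
    rcases ht with rfl | rfl
    · exact h'.1 hmod8 (by show 5 ≤ 8 * 27 / d; omega) (by show (p - 1) % (8 * 27 / d) = 0; rw [hdiv]; exact hem)
    · exact h'.2 hmod8 (by show 5 ≤ 8 * 81 / d; omega) (by show (p - 1) % (8 * 81 / d) = 0; rw [hdiv]; exact hem)

section twelve

variable {I : Type*} [Group I] [Finite I] {a b : I}

/-- The four group. -/
def fourGroup (ha : a * a = 1) (hb : b * b = 1) (hc : a * b = b * a) : Subgroup I :=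
    { carrier := {1, a, b, a * b}
      one_mem' := by simp
      mul_mem' := by
        have e1 : a * (a * b) = b := by rw [← mul_assoc, ha, one_mul]
        have e2 : b * (a * b) = a := by rw [hc, ← mul_assoc, hb, one_mul]
        have e3 : a * b * a = b := by rw [hc, mul_assoc, ha, mul_one]
        have e4 : a * b * b = a := by rw [mul_assoc, hb, mul_one]
        have e5 : a * b * (a * b) = 1 := by rw [← mul_assoc, e3, hb]
        have hab' : b * a = a * b := hc.symm
        intro u v hu hv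
        simp only [Set.mem_insert_iff, Set.mem_singleton_iff] at hu hv ⊢
        rcases hu with rfl | rfl | rfl | rfl <;> rcases hv with rfl | rfl | rfl | rfl <;>
          simp [ha, hb, hab', e1, e2, e3, e4, e5]
      inv_mem' := by
        have hab' : b * a = a * b := hc.symm
        intro u hu
        simp only [Set.mem_insert_iff, Set.mem_singleton_iff] at hu ⊢
        rcases hu with rfl | rfl | rfl | rfl
        · simp
        · exact .inr (.inl (inv_eq_of_mul_eq_one_left ha))
        · exact .inr (.inr (.inl (inv_eq_of_mul_eq_one_left hb)))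
        · exact .inr (.inr (.inr (inv_eq_of_mul_eq_one_left (by
            rw [mul_assoc, ← mul_assoc b, hab', mul_assoc, hb, mul_one, ha])))) }

theorem mem_fourGroup (ha : a * a = 1) (hb : b * b = 1) (hc : a * b = b * a) {v : I} :
    v ∈ fourGroup ha hb hc ↔ v = 1 ∨ v = a ∨ v = b ∨ v = a * b := Iff.rfl

theorem card_fourGroup (ha : a * a = 1) (ha1 : a ≠ 1) (hb : b * b = 1) (hb1 : b ≠ 1) (hab : a ≠ b)
    (hc : a * b = b * a) : Nat.card (fourGroup ha hb hc) = 2 ^ 2 := by
  classical
  have h1 : a * b ≠ 1 := fun e => hab ((mul_eq_one_iff_eq_inv.1 e).trans (inv_eq_of_mul_eq_one_left hb))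
  have h2 : a ≠ a * b := fun e => hb1 (left_eq_mul.1 e)
  have h3 : b ≠ a * b := fun e => ha1 (right_eq_mul.1 e)
  show Nat.card ({1, a, b, a * b} : Set I) = 4
  rw [Nat.card_coe_set_eq, Set.ncard_eq_toFinset_card']
  simp [Ne.symm ha1, Ne.symm hb1, Ne.symm h1, hab, h2, h3]

/-- Elements of order dividing four in a group of order twelve with a four group. -/
theorem twelve_conj (hI : Nat.card I = 12) (ha : a * a = 1) (ha1 : a ≠ 1) (hb : b * b = 1) (hb1 : b ≠ 1)
    (hab : a ≠ b) (hc : a * b = b * a) {y : I} (hy : y ^ 4 = 1) :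
    y = 1 ∨ ∃ g : I, g * y * g⁻¹ = a ∨ g * y * g⁻¹ = b ∨ g * y * g⁻¹ = a * b := by
  classical
  haveI : Fact (Nat.Prime 2) := ⟨Nat.prime_two⟩
  set V := fourGroup ha hb hc
  have hVc := card_fourGroup ha ha1 hb hb1 hab hc
  obtain ⟨Q, hQ⟩ := (IsPGroup.of_card hVc).exists_le_sylow
  have hQV : (Q : Subgroup I) = V := by
    refine (Subgroup.eq_of_le_of_card_ge hQ ?_).symm
    obtain ⟨k, hk⟩ := IsPGroup.iff_card.1 Q.2
    have hdvd := Subgroup.card_subgroup_dvd_card (Q : Subgroup I)
    rw [hI, hk] at hdvd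
    have hk2 : k ≤ 2 := by
      by_contra hlt
      have := (pow_dvd_pow 2 (show 3 ≤ k by omega)).trans hdvd
      norm_num at this
    rw [hk, hVc]
    exact Nat.pow_le_pow_right (by norm_num) hk2
  have hY : IsPGroup 2 (Subgroup.zpowers y) := by
    rintro ⟨z, hz⟩
    refine ⟨2, Subtype.ext ?_⟩
    obtain ⟨i, rfl⟩ := hz
    simp only [Subgroup.coe_pow, Subgroup.coe_one]
    rw [← zpow_natCast, ← zpow_mul, mul_comm, zpow_mul, zpow_natCast, show y ^ 2 ^ 2 = 1 from hy, one_zpow]
  obtain ⟨P, hP⟩ := hY.exists_le_sylow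
  obtain ⟨g, hg⟩ := MulAction.exists_smul_eq I P Q
  have hmem : g * y * g⁻¹ ∈ V := by
    rw [← hQV, ← hg, Sylow.coe_subgroup_smul]
    exact ⟨y, hP (Subgroup.mem_zpowers y), rfl⟩
  rcases (hmem : g * y * g⁻¹ = 1 ∨ g * y * g⁻¹ = a ∨ g * y * g⁻¹ = b ∨ g * y * g⁻¹ = a * b) with h | h
  · exact .inl (conj_eq_one_iff.1 h)
  · exact .inr ⟨g, h⟩

theorem twelve_pow_six (hI : Nat.card I = 12) (ha : a * a = 1) (ha1 : a ≠ 1) (hb : b * b = 1) (hb1 : b ≠ 1)
    (hab : a ≠ b) (hc : a * b = b * a) (y : I) : y ^ 6 = 1 := by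
  have h12 : (y ^ 3) ^ 4 = 1 := by rw [← pow_mul]; rw [show 3 * 4 = Nat.card I from hI.symm]; exact pow_card_eq_one'
  rcases twelve_conj hI ha ha1 hb hb1 hab hc h12 with h | ⟨g, h⟩
  · rw [show 6 = 3 * 2 from rfl, pow_mul, h, one_pow]
  · have e : g * y ^ 6 * g⁻¹ = 1 := by
      rw [show 6 = 3 * 2 from rfl, pow_mul, pow_two,
        show g * (y ^ 3 * y ^ 3) * g⁻¹ = g * y ^ 3 * g⁻¹ * (g * y ^ 3 * g⁻¹) by group]
      rcases h with h | h | h <;> rw [h]
      · exact ha
      · exact hb
      · rw [mul_assoc, ← mul_assoc b, ← hc, mul_assoc, hb, mul_one, ha]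
    exact conj_eq_one_iff.1 e

/-- At most nine elements have cube one. -/
theorem twelve_cube (hI : Nat.card I = 12) (ha : a * a = 1) (ha1 : a ≠ 1) (hb : b * b = 1) (hb1 : b ≠ 1)
    (hab : a ≠ b) (hc : a * b = b * a) : Nat.card {y : I | y ^ 3 = 1} ≤ 9 := by
  classical
  have := Fintype.ofFinite I
  have hsub : ({a, b, a * b} : Finset I) ⊆ (Finset.univ.filter fun y : I => y ^ 3 = 1)ᶜ := by
    have key : ∀ v : I, v * v = 1 → v ≠ 1 → v ^ 3 ≠ 1 := fun v h2 h1 h3 => h1 (by
      rwa [pow_succ, pow_two, h2, one_mul] at h3)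
    have hab1 : a * b ≠ 1 := fun e => hab ((mul_eq_one_iff_eq_inv.1 e).trans (inv_eq_of_mul_eq_one_left hb))
    intro v hv
    simp only [Finset.mem_insert, Finset.mem_singleton] at hv
    simp only [Finset.mem_compl, Finset.mem_filter, Finset.mem_univ, true_and]
    rcases hv with rfl | rfl | rfl
    · exact key _ ha ha1
    · exact key _ hb hb1
    · exact key _ (by rw [mul_assoc, ← mul_assoc b, ← hc, mul_assoc, hb, mul_one, ha]) hab1
  have h3 : ({a, b, a * b} : Finset I).card = 3 := Finset.card_eq_three.2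
    ⟨a, b, a * b, hab, fun e => hb1 (left_eq_mul.1 e), fun e => ha1 (right_eq_mul.1 e), rfl⟩
  have := Finset.card_le_card hsub
  rw [Finset.card_compl, h3, ← Nat.card_eq_fintype_card, hI] at this
  rw [Nat.card_eq_fintype_card, Fintype.card_ofFinset] <;> simp_all [Set.toFinset]
  omega

/-- A subgroup containing the four group and an element of order three is everything. -/
theorem twelve_top (hI : Nat.card I = 12) (ha : a * a = 1) (ha1 : a ≠ 1) (hb : b * b = 1) (hb1 : b ≠ 1)
    (hab : a ≠ b) (hc : a * b = b * a) {K : Subgroup I} (haK : a ∈ K) (hbK : b ∈ K) {x : I} (hx : x * x * x = 1)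
    (hx1 : x ≠ 1) (hxK : x ∈ K) : K = ⊤ := by
  classical
  refine Subgroup.eq_top_of_card_eq K ?_
  rw [hI]
  haveI : Fact (Nat.Prime 3) := ⟨Nat.prime_three⟩
  have h3 : 3 ∣ Nat.card K := by
    have : orderOf x = 3 := orderOf_eq_prime (by rw [pow_three']; exact hx) hx1
    rw [← this]; exact Subgroup.orderOf_dvd_natCard K hxK
  have hdvd := Subgroup.card_subgroup_dvd_card K
  rw [hI] at hdvd
  have h4 : 4 ∣ Nat.card K := by
    have hle : fourGroup ha hb hc ≤ K := by
      intro v hv
      rcases (mem_fourGroup ha hb hc).1 hv with rfl | rfl | rfl | rfl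
      exacts [one_mem K, haK, hbK, mul_mem haK hbK]
    have := Subgroup.card_dvd_of_le hle
    rwa [card_fourGroup ha ha1 hb hb1 hab hc] at this
  have := Nat.le_of_dvd (by norm_num) hdvd
  interval_cases hn : Nat.card K <;> omega

end twelve

/-- A subgroup of a group with a subgroup of small index. -/
theorem card_le_mul_index {G : Type*} [Group G] [Finite G] {A P T : Subgroup G} (hTP : T ≤ P) (hAP : A ≤ P) :
    Nat.card A * Nat.card T ≤ Nat.card P * Nat.card (A ⊓ T : Subgroup G) := by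
  classical
  have hrel : T.relIndex A ≤ T.relIndex P := Subgroup.relIndex_le_of_le_right hAP (by intro h0; exact (Subgroup.FiniteIndex.index_ne_zero (H := T.subgroupOf P)) h0)
  have hcard : ∀ {H K : Subgroup G}, H ≤ K → H.relIndex K * Nat.card H = Nat.card K := fun {H K} hle => by
    rw [← Subgroup.card_mul_index (H.subgroupOf K), Nat.card_congr (Subgroup.subgroupOfEquivOfLe hle).toEquiv,
      mul_comm]
    rfl
  have h1 := hcard (inf_le_left : A ⊓ T ≤ A)
  rw [inf_comm, Subgroup.inf_relIndex_right, inf_comm] at h1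
  have h2 := hcard hTP
  calc Nat.card A * Nat.card T = T.relIndex A * Nat.card (A ⊓ T : Subgroup G) * Nat.card T := by rw [h1]
    _ ≤ T.relIndex P * Nat.card (A ⊓ T : Subgroup G) * Nat.card T :=
      Nat.mul_le_mul_right _ (Nat.mul_le_mul_right _ hrel)
    _ = Nat.card P * Nat.card (A ⊓ T : Subgroup G) := by rw [← h2]; ring

end CfsgLib.Dim3Max.Six
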