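import Cfsg.Agent.Lib.Dim3Max.Six.Common
import Cfsg.Agent.Lib.Dim3Max.Six.CaseBAux

/-!
A ninth root of unity: the centraliser of the involution has order seventy-two, and what it gives about the involutions.
-/

set_option autoImplicit false
set_option linter.unusedSectionVars false
set_option linter.dupNamespace false
set_option linter.style.haveILetI false

namespace CfsgLib.Dim3Max.Six

open scoped Matrix MatrixGroups
open Root (low)

universe u

variable {F : Type u} [Field F] [Fintype F] {r : Root F} {p : ℕ} {M : Subgroup (GL (Fin 3) F)}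

instance : Finite (Matrix.ProjGenLinGroup (Fin 2) F) := Quotient.finite _

theorem Root.z_cube (r : Root F) {e : Fˣ} (he : (e : F) ^ 3 = r.w) :
    scl e * r.s * (scl e * r.s) * (scl e * r.s) = r.om := by
  refine Units.ext ?_
  rw [r.om_val]
  simp only [Units.val_mul, scl_val, Matrix.smul_mul, Matrix.mul_smul, one_mul, smul_smul]
  ext i j
  fin_cases i <;> fin_cases j <;> simp [Root.s, Matrix.mul_apply, Fin.sum_univ_three] <;>
    first
    | linear_combination he
    | linear_combination (r.w * r.w * r.w) * he + r.w * r.w_cube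

theorem Root.z_comm_j (r : Root F) (e : Fˣ) : scl e * r.s * r.j = r.j * (scl e * r.s) := by
  rw [mul_assoc, r.s_j, ← mul_assoc, scl_comm, mul_assoc]

/-- The ninth root as an element of the centraliser. -/
noncomputable def Six.zc (h : Six r p M) {e : Fˣ} (he : (e : F) ^ 3 = r.w) : CJ r M :=
  ⟨⟨scl e * r.s, h.z_mem e he⟩, mem_CJ.2 (r.z_comm_j e)⟩

theorem Six.zc_cube (h : Six r p M) {e : Fˣ} (he : (e : F) ^ 3 = r.w) : h.zc he * h.zc he * h.zc he = h.oc :=
  cj_ext (r.z_cube he)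

theorem Six.oc_cube (h : Six r p M) : h.oc ^ 3 = 1 := by
  simpa [h.orderOf_oc] using pow_orderOf_eq_one h.oc

/-- With a ninth root the action on the axis has order twelve. -/
theorem Six.zImage (h : Six r p M) {e : Fˣ} (he : (e : F) ^ 3 = r.w) :
    pj r M (h.zc he) * pj r M (h.zc he) * pj r M (h.zc he) = 1 ∧ pj r M (h.zc he) ≠ 1 ∧
      Nat.card (Img r M) = 12 := by
  obtain ⟨z, hz⟩ : ∃ z, h.zc he = z := ⟨_, rfl⟩
  rw [hz]
  have hz3 : z ^ 3 = h.oc := by rw [pow_three', ← hz, h.zc_cube he]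
  have h3 : pj r M z * pj r M z * pj r M z = 1 := by
    rw [← map_mul, ← map_mul, ← pow_three', hz3]
    simpa using h.pj_oc_pow 1
  have hne : pj r M z ≠ 1 := by
    rw [Ne, pj_eq_one, lh_val, ← hz]
    rintro ⟨b, hb⟩
    have hscl : Root.inFrame r.ej (scl e) = (e : F) • (1 : Matrix (Fin 3) (Fin 3) F) := by
      rw [Root.inFrame, mul_assoc, scl_comm, inv_mul_cancel_left, scl_val]
    change low (Root.inFrame r.ej (scl e * r.s)) = _ at hb
    rw [Root.inFrame_mul, hscl, r.frame_s, Matrix.smul_mul, one_mul] at hb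
    have b1 := congrFun (congrFun hb 0) 0
    have b2 := congrFun (congrFun hb 1) 1
    simp [low] at b1 b2
    exact r.w_ne_one (mul_left_cancel₀ e.ne_zero (by rw [mul_one, b2, b1]))
  refine ⟨h3, hne, ?_⟩
  obtain ⟨a1, a2, b1, b2, ab, cab⟩ := h.pj_klein
  refine h.facts.four _ _ _ a1 a2 b1 b2 ab cab h3 hne fun g hg => ?_
  obtain ⟨c, rfl⟩ := pj_surj g
  obtain ⟨k, hk⟩ : ∃ k, c * z * c⁻¹ * (z * z)⁻¹ = k := ⟨_, rfl⟩
  have hk1 : pj r M k = 1 := by
    rw [← hk, map_mul, map_mul, map_mul, map_inv, map_inv, hg, map_mul, mul_inv_cancel]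
  have hkc : ∀ d, Commute k d := by
    intro d
    obtain ⟨i, rfl | rfl⟩ := h.pj_ker hk1
    · exact Commute.pow_left (h.oc_comm d) i
    · exact (Commute.pow_left (h.oc_comm d) i).mul_left (h.jc_comm d)
  have hk6 : k ^ 6 = 1 := by
    obtain ⟨i, rfl | rfl⟩ := h.pj_ker hk1
    · rw [← pow_mul, mul_comm, show 6 * i = 3 * (2 * i) by ring, pow_mul, h.oc_cube, one_pow]
    · rw [(show Commute (h.oc ^ i) h.jc from Commute.pow_left (h.oc_comm _) i).mul_pow, ← pow_mul, mul_comm i,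
        show 6 * i = 3 * (2 * i) by ring, pow_mul, h.oc_cube, one_pow, one_mul,
        show 6 = 2 * 3 from rfl, pow_mul, pow_two h.jc, h.jc_sq, one_pow]
  rw [mul_inv_eq_iff_eq_mul] at hk
  have e3 : h.oc = k ^ 3 * h.oc ^ 2 := by
    have := congrArg (· ^ 3) hk
    simp only [conj_pow, hz3, (hkc _).mul_pow] at this
    rw [← h.oc_comm c, mul_inv_cancel_right] at this
    exact this.trans (by rw [← pow_two z, ← pow_mul z, show 2 * 3 = 3 * 2 from rfl, pow_mul z, hz3])
  have e6 : h.oc ^ 2 = h.oc ^ 4 := by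
    conv_lhs => rw [e3]
    rw [((hkc _).pow_left 3).mul_pow, ← pow_mul, hk6, one_mul, ← pow_mul]
  have h1 : h.oc ^ 2 = 1 := by
    rw [show 4 = 2 + 2 from rfl, pow_add, left_eq_mul] at e6
    exact e6
  have := orderOf_dvd_of_pow_eq_one h1
  rw [h.orderOf_oc] at this
  norm_num at this

theorem Six.card_CJ72 (h : Six r p M) (h12 : Nat.card (Img r M) = 12) : Nat.card (CJ r M) = 72 := by
  rw [h.card_CJ, h12]

theorem Six.card_pj_ker (h : Six r p M) : Nat.card (pj r M).ker = 6 := by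
  have hpos : 0 < Nat.card (Img r M) := Nat.card_pos
  have := h.card_CJ
  rw [← Subgroup.index_mul_card (pj r M).ker, Subgroup.index_ker, MonoidHom.range_eq_top.2 pj_surj,
    Subgroup.card_top, mul_comm 6] at this
  exact Nat.eq_of_mul_eq_mul_left hpos this

/-- The centraliser lies in the normaliser. -/
theorem Six.cent_le_normalizer (h : Six r p M) {e : Fˣ} (he : (e : F) ^ 3 = r.w) (c : CJ r M) :
    ((c : M) : GL (Fin 3) F) ∈ Cfsg.Geo.subgroupNormalizer r.grp := by
  obtain ⟨hz3, hz1, h12⟩ := h.zImage he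
  set N := Cfsg.Geo.subgroupNormalizer r.grp
  let C0 : Subgroup (CJ r M) := N.comap (M.subtype.comp (CJ r M).subtype)
  have hC0 : ∀ d : CJ r M, d ∈ C0 ↔ ((d : M) : GL (Fin 3) F) ∈ N := fun d => Iff.rfl
  have homN : r.om ∈ N := Subgroup.le_normalizer r.om_mem
  have hzN : scl e * r.s ∈ N := mul_mem (Subgroup.mem_normalizer_iff.2 fun v => by
    rw [scl_comm, mul_assoc, mul_inv_cancel, mul_one]) r.s_mem_normalizer
  obtain ⟨a1, a2, b1, b2, ab, cab⟩ := h.pj_klein
  have htop : C0.map (pj r M) = ⊤ := twelve_top h12 a1 a2 b1 b2 ab cab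
    ⟨_, (hC0 h.fc).2 r.f_mem_normalizer, rfl⟩ ⟨_, (hC0 h.gc).2 r.g_mem_normalizer, rfl⟩ hz3 hz1
    ⟨_, (hC0 (h.zc he)).2 hzN, rfl⟩
  obtain ⟨d, hd, hdc⟩ := (htop ▸ Subgroup.mem_top (pj r M c) : pj r M c ∈ C0.map (pj r M))
  have hker : ∀ k, pj r M k = 1 → k ∈ C0 := by
    intro k hk
    obtain ⟨i, rfl | rfl⟩ := h.pj_ker hk
    · exact pow_mem ((hC0 h.oc).2 homN) i
    · exact mul_mem (pow_mem ((hC0 h.oc).2 homN) i) ((hC0 h.jc).2 r.j_mem_normalizer)
  have := mul_mem hd (hker (d⁻¹ * c) (by rw [map_mul, map_inv, hdc, inv_mul_cancel]))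
  rw [mul_inv_cancel_left] at this
  exact (hC0 c).1 this

/-- The involution is the only one in its centraliser. -/
theorem Six.invol_unique (h : Six r p M) (h12 : Nat.card (Img r M) = 12) {v : CJ r M} (h2 : v * v = 1) :
    v = 1 ∨ v = h.jc := by
  obtain ⟨a1, a2, b1, b2, ab, cab⟩ := h.pj_klein
  have hU : pj r M v ^ 4 = 1 := by
    rw [show 4 = 2 * 2 from rfl, pow_mul, pow_two (pj r M v), ← map_mul, h2, map_one, one_pow]
  rcases twelve_conj h12 a1 a2 b1 b2 ab cab hU with h1 | ⟨g, hg⟩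
  · have hoc : ∀ k, h.oc ^ k * h.oc ^ k = 1 → h.oc ^ k = 1 := fun k hk => by
      have h3 : (h.oc ^ k) ^ 3 = 1 := by rw [← pow_mul, mul_comm, pow_mul, h.oc_cube, one_pow]
      rwa [pow_three', hk, one_mul] at h3
    obtain ⟨k, rfl | rfl⟩ := h.pj_ker h1
    · exact .inl (hoc k h2)
    · refine .inr ?_
      have : h.oc ^ k * h.oc ^ k = 1 := by
        rwa [show h.oc ^ k * h.jc * (h.oc ^ k * h.jc) = h.oc ^ k * (h.jc * h.oc ^ k) * h.jc by group,
          h.jc_comm, ← mul_assoc, mul_assoc, h.jc_sq, mul_one] at h2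
      rw [hoc k this, one_mul]
  · exfalso
    obtain ⟨t, rfl⟩ := pj_surj g
    rw [← map_inv, ← map_mul, ← map_mul, ← map_mul] at hg
    have hvv : t * v * t⁻¹ * (t * v * t⁻¹) = 1 := by
      rw [show t * v * t⁻¹ * (t * v * t⁻¹) = t * (v * v) * t⁻¹ by group, h2, mul_one, mul_inv_cancel]
    rcases hg with e | e | e
    · exact h.pj_ne hvv h.fc_sq e
    · exact h.pj_ne hvv h.gc_sq e
    · exact h.pj_ne hvv h.fgc_sq e

/-- The eigenvalue on the centre of the involution. -/
theorem Six.dl_pow (h : Six r p M) (h12 : Nat.card (Img r M) = 12) (c : CJ r M) : dl r M c ^ 18 = 1 := by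
  obtain ⟨a1, a2, b1, b2, ab, cab⟩ := h.pj_klein
  obtain ⟨hj, -, -, -⟩ := dl_pow_val h
  have hj1 : dl r M h.jc = 1 := Units.ext hj
  have ho3 : dl r M h.oc ^ 3 = 1 := by rw [← map_pow, h.oc_cube, map_one]
  have h6 : pj r M (c ^ 6) = 1 := by rw [map_pow]; exact twelve_pow_six h12 a1 a2 b1 b2 ab cab _
  rw [show 18 = 6 * 3 from rfl, pow_mul, ← map_pow]
  obtain ⟨k, hk | hk⟩ := h.pj_ker h6 <;> rw [hk]
  · rw [map_pow, ← pow_mul, mul_comm, pow_mul, ho3, one_pow]
  · rw [map_mul, hj1, mul_one, map_pow, ← pow_mul, mul_comm, pow_mul, ho3, one_pow]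

/-- The elements of even order centralising the involution have many conjugates. -/
theorem Six.even_count (h : Six r p M) (h12 : Nat.card (Img r M) = 12) :
    ∃ E : Set M, (∀ v ∈ conjUnion E, 2 ∣ orderOf v) ∧ 45 * Nat.card M ≤ 72 * Nat.card (conjUnion E) := by
  classical
  obtain ⟨a1, a2, b1, b2, ab, cab⟩ := h.pj_klein
  let Oc : Set (CJ r M) := {c | ¬ 2 ∣ orderOf c}
  let E : Set M := (fun c : CJ r M => (c : M)) '' Ocᶜ
  have hEmem : ∀ v ∈ E, v ∈ CJ r M ∧ 2 ∣ orderOf v := by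
    rintro _ ⟨c, hc, rfl⟩
    exact ⟨c.2, by rw [Subgroup.orderOf_coe]; exact not_not.1 hc⟩
  have hO : 2 * Nat.card Oc ≤ 54 := by
    let T : Set (CJ r M) := {c | pj r M c ^ 3 = 1}
    have hT : Nat.card T ≤ 54 := by
      have : Nat.card T ≤ Nat.card ({y : Img r M | y ^ 3 = 1} × (pj r M).ker) := by
        choose s hs using (pj_surj (r := r) (M := M))
        refine Nat.card_le_card_of_injective (fun c => (⟨pj r M c.1, c.2⟩,
          ⟨(s (pj r M c.1))⁻¹ * c.1, by rw [MonoidHom.mem_ker, map_mul, map_inv, hs, inv_mul_cancel]⟩)) ?_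
        intro c d hcd
        simp only [Prod.mk.injEq, Subtype.mk.injEq] at hcd
        rw [hcd.1] at hcd
        exact Subtype.ext (mul_left_cancel hcd.2)
      rw [Nat.card_prod, h.card_pj_ker] at this
      have := Nat.mul_le_mul_right 6 (twelve_cube h12 a1 a2 b1 b2 ab cab)
      omega
    refine le_trans ?_ hT
    rw [two_mul, ← Nat.card_sum]
    have hcube : ∀ c ∈ Oc, pj r M c ^ 3 = 1 := by
      intro c hc
      have hg := pow_gcd_eq_one.2 (show pj r M c ^ 6 = 1 ∧ pj r M c ^ orderOf c = 1 from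
        ⟨twelve_pow_six h12 a1 a2 b1 b2 ab cab _, by rw [← map_pow, pow_orderOf_eq_one, map_one]⟩)
      obtain ⟨t, ht⟩ : Nat.gcd 6 (orderOf c) ∣ 3 := by
        have hcop : Nat.Coprime (Nat.gcd 6 (orderOf c)) 2 := Nat.Coprime.coprime_dvd_left (Nat.gcd_dvd_right _ _)
          (Nat.Coprime.symm ((Nat.Prime.coprime_iff_not_dvd Nat.prime_two).2 hc))
        exact hcop.dvd_of_dvd_mul_left (by simpa using Nat.gcd_dvd_left 6 (orderOf c))
      calc pj r M c ^ 3 = pj r M c ^ (Nat.gcd 6 (orderOf c) * t) := congrArg (pj r M c ^ ·) ht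
        _ = 1 := by rw [pow_mul, hg, one_pow]
    let f : Oc ⊕ Oc → T := Sum.elim (fun c => ⟨c.1, hcube _ c.2⟩)
      (fun c => ⟨c.1 * h.jc, by
        show pj r M (c.1 * h.jc) ^ 3 = 1
        rw [map_mul, h.pj_jc, mul_one]; exact hcube _ c.2⟩)
    refine Nat.card_le_card_of_injective f ?_
    have key : ∀ v w : Oc, v.1 ≠ w.1 * h.jc := by
      intro v w e
      refine v.2 ?_
      rw [e, (show Commute w.1 h.jc from (h.jc_comm _).symm).orderOf_mul_eq_mul_orderOf_of_coprime (by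
        rw [h.orderOf_jc]; exact ((Nat.Prime.coprime_iff_not_dvd Nat.prime_two).2 w.2).symm), h.orderOf_jc]
      exact dvd_mul_left 2 _
    rintro (v | v) (w | w) e <;> simp only [f, Sum.elim_inl, Sum.elim_inr, Subtype.mk.injEq] at e
    · exact congrArg Sum.inl (Subtype.ext e)
    · exact absurd e (key v w)
    · exact absurd e.symm (key w v)
    · exact congrArg Sum.inr (Subtype.ext (mul_right_cancel e))
  have hsplit : Nat.card Oc + Nat.card E = 72 := by
    rw [Nat.card_image_of_injective Subtype.val_injective, ← h.card_CJ72 h12, Nat.card_coe_set_eq,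
      Nat.card_coe_set_eq, Set.ncard_add_ncard_compl]
  have hid : ∀ v : M, v ∈ CJ r M → v * v = 1 → v ≠ 1 → v = (h.jc : M) := fun v hv h2 h1 => by
    rcases h.invol_unique h12 (v := ⟨v, hv⟩) (Subtype.ext h2) with e | e
    · exact absurd (congrArg Subtype.val e) h1
    · exact congrArg Subtype.val e
  have hTI : ∀ g : M, ∀ s ∈ E, g * s * g⁻¹ ∈ E → g ∈ CJ r M := by
    intro g s hs' hgs'
    obtain ⟨hs, n, hn⟩ := hEmem s hs'
    obtain ⟨hgs, -⟩ := hEmem _ hgs'
    have hn0 : n ≠ 0 := fun h0 => by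
      rw [h0, mul_zero] at hn; exact (orderOf_pos s).ne' hn
    have hsn : s ^ n ≠ 1 := fun e => by
      have := Nat.le_of_dvd (by omega) (orderOf_dvd_of_pow_eq_one e); omega
    have hsq : s ^ n * s ^ n = 1 := by rw [← pow_add, ← two_mul, ← hn, pow_orderOf_eq_one]
    have hJs : s ^ n = (h.jc : M) := hid _ (pow_mem hs n) hsq hsn
    have hJg : (g * s * g⁻¹) ^ n = (h.jc : M) := hid _ (pow_mem hgs n) (by
        rw [conj_pow, show g * s ^ n * g⁻¹ * (g * s ^ n * g⁻¹) = g * (s ^ n * s ^ n) * g⁻¹ by group, hsq, mul_one,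
          mul_inv_cancel]) (by rw [conj_pow]; exact fun e => hsn (conj_eq_one_iff.1 e))
    rw [conj_pow, hJs, mul_inv_eq_iff_eq_mul] at hJg
    exact mem_CJ.2 (congrArg Subtype.val hJg)
  refine ⟨E, ?_, ?_⟩
  · rintro _ ⟨g, s, hs, rfl⟩
    rw [← MulAut.conj_apply, MulEquiv.orderOf_eq]
    exact (hEmem s hs).2
  have hle := le_card_conjUnion E (CJ r M) hTI
  rw [h.card_CJ72 h12] at hle
  have h45 : 45 ≤ Nat.card E := by omega
  calc 45 * Nat.card M ≤ Nat.card M * Nat.card E := by rw [mul_comm]; exact Nat.mul_le_mul_left _ h45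
    _ ≤ Nat.card (conjUnion E) * 72 := hle
    _ = _ := mul_comm _ _

/-- The Sylow two-subgroups and the centralisers of involutions. -/
theorem Six.two_part (h : Six r p M) (h12 : Nat.card (Img r M) = 12) :
    (∀ k : ℕ, 2 ^ k ∣ Nat.card M → k ≤ 3) ∧
      ∀ y v : M, orderOf v = 2 → v * y = y * v → orderOf y ∣ 72 := by
  classical
  haveI : Fact (Nat.Prime 2) := ⟨Nat.prime_two⟩
  obtain ⟨T, hTC, -⟩ := h.sylow_two
  have hT72 : Nat.card (T : Subgroup M) ∣ 72 := h.card_CJ72 h12 ▸ Subgroup.card_dvd_of_le hTC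
  refine ⟨fun n hn => ?_, fun y v hv hcomm => ?_⟩
  · by_contra hlt
    have h16 := ((pow_dvd_pow 2 (show 4 ≤ n by omega)).trans (T.pow_dvd_card_of_pow_dvd_card hn)).trans hT72
    norm_num at h16
  · obtain ⟨P', hP'⟩ := (IsPGroup.of_card (p := 2) (n := 1) (G := Subgroup.zpowers v)
      (by rw [Nat.card_zpowers, pow_one, hv])).exists_le_sylow
    obtain ⟨g, hg⟩ := MulAction.exists_smul_eq M P' T
    have hvT : g * v * g⁻¹ ∈ (T : Subgroup M) := by
      rw [← hg, Sylow.coe_subgroup_smul]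
      exact ⟨v, hP' (Subgroup.mem_zpowers v), rfl⟩
    have hv1 : v ≠ 1 := fun e => by simp [e] at hv
    have hvv : v * v = 1 := by rw [← pow_two, ← hv, pow_orderOf_eq_one]
    have hgv : g * v * g⁻¹ = (h.jc : M) := by
      rcases h.invol_unique h12 (v := ⟨g * v * g⁻¹, hTC hvT⟩) (Subtype.ext (by
        show g * v * g⁻¹ * (g * v * g⁻¹) = 1
        rw [show g * v * g⁻¹ * (g * v * g⁻¹) = g * (v * v) * g⁻¹ by group, hvv, mul_one, mul_inv_cancel])) with e | e
      · exact absurd (conj_eq_one_iff.1 (congrArg Subtype.val e)) hv1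
      · exact congrArg Subtype.val e
    have hyJ : g * y * g⁻¹ * (h.jc : M) = (h.jc : M) * (g * y * g⁻¹) := by
      rw [← hgv, show g * y * g⁻¹ * (g * v * g⁻¹) = g * (y * v) * g⁻¹ by group, ← hcomm]; group
    have := (Subgroup.orderOf_dvd_natCard (CJ r M) (x := g * y * g⁻¹) (mem_CJ.2 (congrArg Subtype.val hyJ))).trans
      (dvd_of_eq (h.card_CJ72 h12))
    rwa [← MulAut.conj_apply, MulEquiv.orderOf_eq] at this

end CfsgLib.Dim3Max.Six
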