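import Cfsg.Agent.Lib.Dim3Max.Six.Setting

/-!
Three-subgroups containing the extraspecial group.
-/

set_option autoImplicit false
set_option linter.unusedSectionVars false

namespace CfsgLib.Dim3Max.Six

open scoped Matrix MatrixGroups

universe u

variable {F : Type u} [Field F]

namespace Root

variable (r : Root F)

theorem x_ne_om (k : ℕ) : r.x ≠ r.om ^ k := fun hx => by
  have e1 := congrArg (fun g : GL (Fin 3) F => (g : Matrix (Fin 3) (Fin 3) F) 0 0) hx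
  have e2 := congrArg (fun g : GL (Fin 3) F => (g : Matrix (Fin 3) (Fin 3) F) 1 1) hx
  simp [r.om_pow_val, Root.x] at e1 e2
  exact r.w_ne_one (e2.trans e1.symm)

theorem x_pow_mod (a : ℕ) : r.x ^ a = r.x ^ (a % 3) :=
  pow_eq_pow_mod a (by rw [pow_three']; exact r.x_cube)

theorem y_pow_mod (a : ℕ) : r.y ^ a = r.y ^ (a % 3) :=
  pow_eq_pow_mod a (by rw [pow_three']; exact r.y_cube)

/-- An element conjugating the diagonal generator to a multiple of itself. -/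
theorem mod_cent {v : GL (Fin 3) F} {k : ℕ} (h : v * r.x * v⁻¹ = r.om ^ k * r.x) :
    (r.y ^ k)⁻¹ * v * r.x = r.x * ((r.y ^ k)⁻¹ * v) := by
  rw [← mul_inv_eq_iff_eq_mul]
  calc (r.y ^ k)⁻¹ * v * r.x * ((r.y ^ k)⁻¹ * v)⁻¹ = (r.y ^ k)⁻¹ * (v * r.x * v⁻¹) * r.y ^ k := by group
    _ = (r.y ^ k)⁻¹ * (r.y ^ k * r.x * (r.y ^ k)⁻¹) * r.y ^ k := by rw [h, r.conj_x]
    _ = r.x := by group

end Root

variable [Fintype F] {r : Root F} {p : ℕ} {M : Subgroup (GL (Fin 3) F)}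

namespace Root

/-- Diagonal elements commuting with the cyclic generator up to a scalar lie in the group. -/
theorem diag_mod_cent (r : Root F) {d : GL (Fin 3) F} (hd : d ∈ sl3 F) (hx : d * r.x = r.x * d) {k : ℕ}
    (hy : d * r.y * d⁻¹ = r.om ^ k * r.y) : d ∈ r.grp := by
  have hdd := r.diag_of_comm hx
  obtain ⟨t, ht⟩ : ∃ t, (fun i => (d : Matrix (Fin 3) (Fin 3) F) i i) = t := ⟨_, rfl⟩
  rw [ht] at hdd
  have hdet : t 0 * t 1 * t 2 = 1 := by
    have : (d : Matrix (Fin 3) (Fin 3) F).det = 1 := congrArg Units.val hd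
    rwa [hdd, Matrix.det_diagonal, Fin.prod_univ_three] at this
  have h' : d * r.y = r.om ^ k * (r.y * d) := by rw [mul_inv_eq_iff_eq_mul] at hy; rw [hy]; group
  have he := fun i j => congrArg (fun g : GL (Fin 3) F => (g : Matrix (Fin 3) (Fin 3) F) i j) h'
  have e01 := he 0 1
  have e12 := he 1 2
  simp [hdd, r.om_pow_val, Root.y, Matrix.mul_apply, Matrix.vecMul_diagonal, Fin.sum_univ_three] at e01 e12
  have hc3 : (r.w ^ k) ^ 3 = 1 := by rw [← pow_mul, mul_comm, pow_mul, pow_three', r.w_cube, one_pow]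
  have h1 : t 1 ^ 3 = 1 := by
    rw [e01] at hdet
    rw [e12] at hdet e01
    have : t 2 ^ 3 = 1 := by linear_combination hdet - (t 2 ^ 3) * hc3
    rw [e12, mul_pow, hc3, this, one_mul]
  obtain ⟨a, c, hac⟩ := diag_cube_eq r (t := t) (fun i => by
    fin_cases i
    · show t 0 ^ 3 = 1
      rw [e01, mul_pow, hc3, h1, one_mul]
    · exact h1
    · show t 2 ^ 3 = 1
      rw [e12, mul_pow, hc3, one_mul] at h1
      exact h1) hdet
  rw [Units.ext (hdd.trans hac)]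
  exact mul_mem (pow_mem r.om_mem _) (pow_mem r.x_mem _)

end Root

open Root (low)

/-- Every element of the group is a scalar or a conjugate of the diagonal generator. -/
theorem Six.conj_to_x (h : Six r p M) {v : GL (Fin 3) F} (hv : v ∈ r.grp) :
    (∃ k : ℕ, v = r.om ^ k) ∨
      ∃ m ∈ M, m ∈ Cfsg.Geo.subgroupNormalizer r.grp ∧ m * r.x * m⁻¹ = v := by
  let P : GL (Fin 3) F → Prop := fun v => ∀ c : ℕ,
    ∃ m ∈ M, m ∈ Cfsg.Geo.subgroupNormalizer r.grp ∧ m * r.x * m⁻¹ = r.om ^ c * v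
  have hN : ∀ {m : GL (Fin 3) F}, m ∈ r.grp → m ∈ Cfsg.Geo.subgroupNormalizer r.grp := fun hm =>
    Subgroup.le_normalizer hm
  have base : ∀ {v m : GL (Fin 3) F} {i : ℕ}, m ∈ M → m ∈ Cfsg.Geo.subgroupNormalizer r.grp →
      m * r.x * m⁻¹ = r.om ^ i * v → P v := by
    intro v m i hm hmN he c
    refine ⟨m * r.y ^ (c + 2 * i), mul_mem hm (pow_mem h.y_mem _), mul_mem hmN (hN (pow_mem r.y_mem _)), ?_⟩
    calc m * r.y ^ (c + 2 * i) * r.x * (m * r.y ^ (c + 2 * i))⁻¹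
        = m * (r.y ^ (c + 2 * i) * r.x * (r.y ^ (c + 2 * i))⁻¹) * m⁻¹ := by group
      _ = r.om ^ (c + 2 * i) * (m * r.x * m⁻¹) := by rw [r.conj_x, ← mul_assoc m, ← r.om_pow_comm]; group
      _ = r.om ^ c * ((r.om ^ i) ^ 3 * v) := by rw [he]; group
      _ = r.om ^ c * v := by rw [r.om_pow_three, one_mul]
  have hjj : ∀ {v : GL (Fin 3) F}, P v → P (r.j * v * r.j⁻¹) := by
    intro v hv
    obtain ⟨m, hm, hmN, he⟩ := hv 0
    refine base (i := 0) (mul_mem h.j_mem hm) (mul_mem r.j_mem_normalizer hmN) ?_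
    rw [pow_zero, one_mul] at he ⊢
    rw [← he]; group
  have hx1 : P r.x := base (i := 0) (one_mem M) (one_mem _) (by simp)
  have hy1 : P r.y := base (i := 0) h.f_mem r.f_mem_normalizer (by rw [r.f_x, mul_inv_cancel_right]; simp)
  have hgx : r.g * r.x * r.g⁻¹ = r.om ^ 2 * (r.x * r.y) := by
    have hs : r.s⁻¹ * r.x = r.x * r.s⁻¹ := by
      rw [inv_mul_eq_iff_eq_mul, ← mul_assoc, r.s_x, mul_inv_cancel_right]
    calc r.g * r.x * r.g⁻¹ = r.s * r.f * (r.s⁻¹ * r.x) * r.s * r.f⁻¹ * r.s⁻¹ := by rw [Root.g]; group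
      _ = r.s * (r.f * r.x) * r.f⁻¹ * r.s⁻¹ := by rw [hs]; group
      _ = r.s * r.y * r.s⁻¹ := by rw [r.f_x]; group
      _ = r.om ^ 2 * (r.x * r.y) := by rw [r.s_y, mul_inv_cancel_right, sq]
  have hxy : P (r.x * r.y) := base h.g_mem r.g_mem_normalizer hgx
  have hx2 : r.x⁻¹ = r.x ^ 2 := inv_eq_of_mul_eq_one_left (by rw [sq]; exact r.x_cube)
  have hy2 : r.y⁻¹ = r.y ^ 2 := inv_eq_of_mul_eq_one_left (by rw [sq]; exact r.y_cube)
  have hx2y : P (r.x ^ 2 * r.y) := by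
    refine base (m := r.f * r.g) (i := 4) (mul_mem h.f_mem h.g_mem) (mul_mem r.f_mem_normalizer r.g_mem_normalizer) ?_
    calc r.f * r.g * r.x * (r.f * r.g)⁻¹ = r.f * (r.g * r.x * r.g⁻¹) * r.f⁻¹ := by group
      _ = r.om ^ 2 * ((r.f * r.x) * r.f⁻¹ * ((r.f * r.y) * r.f⁻¹)) := by
        rw [hgx, ← mul_assoc r.f, ← r.om_pow_comm]; group
      _ = r.om ^ 2 * (r.y * r.x ^ 2) := by rw [r.f_x, r.f_y, ← hx2]; group
      _ = r.om ^ 4 * (r.x ^ 2 * r.y) := by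
        have := r.y_x_pow 2 1
        simp only [pow_one, mul_one] at this
        rw [this]; group
  have hj1 : r.j * r.x * r.j⁻¹ = r.x ^ 2 := by rw [r.j_x, mul_inv_cancel_right, hx2]
  have hj2 : r.j * r.y * r.j⁻¹ = r.y ^ 2 := by rw [r.j_y, mul_inv_cancel_right, hy2]
  have hall : ∀ a b : ℕ, a < 3 → b < 3 → (a = 0 ∧ b = 0) ∨ P (r.x ^ a * r.y ^ b) := by
    intro a b ha hb
    interval_cases a <;> interval_cases b
    · exact .inl ⟨rfl, rfl⟩
    · exact .inr (by simpa using hy1)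
    · exact .inr (by simpa [hj2] using hjj hy1)
    · exact .inr (by simpa using hx1)
    · exact .inr (by simpa using hxy)
    · refine .inr ?_
      have := hjj hx2y
      rwa [show r.j * (r.x ^ 2 * r.y) * r.j⁻¹ = (r.j * r.x * r.j⁻¹) ^ 2 * (r.j * r.y * r.j⁻¹) by
        rw [conj_pow]; group, hj1, hj2, ← pow_mul, show r.x ^ (2 * 2) = r.x ^ 1 from r.x_pow_mod 4] at this
    · exact .inr (by simpa [hj1] using hjj hx1)
    · exact .inr (by simpa using hx2y)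
    · refine .inr ?_
      have := hjj hxy
      rwa [show r.j * (r.x * r.y) * r.j⁻¹ = (r.j * r.x * r.j⁻¹) * (r.j * r.y * r.j⁻¹) by group, hj1, hj2] at this
  obtain ⟨a, b, c, rfl⟩ := r.mem_grp hv
  rw [r.x_pow_mod, r.y_pow_mod]
  rcases hall (a % 3) (b % 3) (Nat.mod_lt _ (by norm_num)) (Nat.mod_lt _ (by norm_num)) with ⟨h1, h2⟩ | hP
  · exact .inl ⟨c, by simp [h1, h2]⟩
  · exact .inr (hP c)

/-- A three-subgroup containing the extraspecial group moves a conjugate of the diagonal generator by scalars. -/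
theorem Six.three_centre (h : Six r p M) {P : Subgroup (GL (Fin 3) F)} (hle : P ≤ M) (hP : IsPGroup 3 P)
    (hgrp : r.grp ≤ P) :
    ∃ m ∈ M, m ∈ Cfsg.Geo.subgroupNormalizer r.grp ∧
      ∀ v ∈ P, ∃ k : ℕ, m⁻¹ * v * m * r.x * (m⁻¹ * v * m)⁻¹ = r.om ^ k * r.x := by
  haveI : Fact (Nat.Prime 3) := ⟨Nat.prime_three⟩
  let Z : Subgroup P := (Subgroup.zpowers r.om).subgroupOf P
  have hZc : ∀ z ∈ Z, ∀ g : P, g * z = z * g := by
    intro z hz g
    obtain ⟨n, hn⟩ := hz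
    refine Subtype.ext ?_
    show (g : GL (Fin 3) F) * z = z * g
    rw [show (z : GL (Fin 3) F) = r.om ^ n from hn.symm]
    exact ((show Commute r.om (g : GL (Fin 3) F) from r.om_comm _).zpow_left n).eq.symm
  haveI : Z.Normal := ⟨fun z hz g => by rwa [hZc z hz g, mul_inv_cancel_right]⟩
  have hzn : ∀ {v : P}, v ∈ Z → ∃ k : ℕ, (v : GL (Fin 3) F) = r.om ^ k := fun {v} hv => by
    have hv' : (v : GL (Fin 3) F) ∈ Subgroup.zpowers r.om := hv
    rw [← mem_powers_iff_mem_zpowers] at hv'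
    obtain ⟨k, hk⟩ := hv'
    exact ⟨k, hk.symm⟩
  have hne : Z ≠ ⊤ := fun h' => by
    obtain ⟨k, hk⟩ := hzn (v := ⟨r.x, hgrp r.x_mem⟩) (h' ▸ Subgroup.mem_top _)
    exact r.x_ne_om k hk
  haveI : Nontrivial (P ⧸ Z) := QuotientGroup.nontrivial_iff.mpr hne
  haveI : Nontrivial (Subgroup.center (P ⧸ Z)) := (hP.to_quotient _).center_nontrivial
  obtain ⟨⟨vb, hvb⟩, hvb1⟩ := exists_ne (1 : Subgroup.center (P ⧸ Z))
  obtain ⟨v, rfl⟩ := QuotientGroup.mk_surjective vb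
  have hcomm : ∀ w : P, ∃ k : ℕ, (w : GL (Fin 3) F) * v * (w : GL (Fin 3) F)⁻¹ = r.om ^ k * v := by
    intro w
    have hmem : w * v * (v * w)⁻¹ ∈ Z := by
      rw [← QuotientGroup.eq_one_iff, QuotientGroup.mk_mul, QuotientGroup.mk_inv, QuotientGroup.mk_mul,
        QuotientGroup.mk_mul, Subgroup.mem_center_iff.1 hvb (w : P ⧸ Z), mul_inv_cancel]
    obtain ⟨k, hk⟩ := hzn hmem
    refine ⟨k, ?_⟩
    rw [← hk]
    simp [mul_assoc]
  have hswap : ∀ {a b : GL (Fin 3) F} {k : ℕ}, a * b * a⁻¹ = r.om ^ k * b → b * a * b⁻¹ = r.om ^ (2 * k) * a := by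
    intro a b k he
    have h2 : r.om ^ (2 * k) * r.om ^ k = 1 := by rw [← pow_add, show 2 * k + k = k * 3 by ring, pow_mul, r.om_pow_three]
    calc b * a * b⁻¹ = r.om ^ (2 * k) * r.om ^ k * (b * a * b⁻¹) := by rw [h2, one_mul]
      _ = r.om ^ (2 * k) * (r.om ^ k * b) * a * b⁻¹ := by group
      _ = r.om ^ (2 * k) * (a * b * a⁻¹) * a * b⁻¹ := by rw [he]
      _ = r.om ^ (2 * k) * a := by group
  have hvg : (v : GL (Fin 3) F) ∈ r.grp := by
    obtain ⟨k, hk⟩ := hcomm ⟨r.x, hgrp r.x_mem⟩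
    obtain ⟨l, hl⟩ := hcomm ⟨r.y, hgrp r.y_mem⟩
    have hc := r.mod_cent (hswap hk)
    set d := (r.y ^ (2 * k))⁻¹ * (v : GL (Fin 3) F) with hd
    have hdy : d * r.y * d⁻¹ = r.om ^ (2 * l) * r.y := by
      calc d * r.y * d⁻¹ = (r.y ^ (2 * k))⁻¹ * ((v : GL (Fin 3) F) * r.y * (v : GL (Fin 3) F)⁻¹) * r.y ^ (2 * k) := by
            rw [hd]; group
        _ = (r.y ^ (2 * k))⁻¹ * r.om ^ (2 * l) * (r.y * r.y ^ (2 * k)) := by rw [hswap hl]; group
        _ = r.om ^ (2 * l) * r.y := by rw [← r.om_pow_comm]; group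
    have hdg := r.diag_mod_cent (mul_mem (inv_mem (pow_mem r.y_sl _)) (h.le (hle v.2))) hc hdy
    have := mul_mem (pow_mem r.y_mem (2 * k)) hdg
    simpa [d] using this
  rcases h.conj_to_x hvg with ⟨k, hk⟩ | ⟨m, hm, hmN, he⟩
  · refine absurd (Subtype.ext ((QuotientGroup.eq_one_iff v).2 ?_)) hvb1
    exact ⟨(k : ℤ), by simp [hk]⟩
  refine ⟨m, hm, hmN, fun w hw => ?_⟩
  obtain ⟨k, hk⟩ := hcomm ⟨w, hw⟩
  refine ⟨k, ?_⟩
  calc m⁻¹ * w * m * r.x * (m⁻¹ * w * m)⁻¹ = m⁻¹ * (w * (m * r.x * m⁻¹) * w⁻¹) * m := by group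
    _ = m⁻¹ * (r.om ^ k * (m * r.x * m⁻¹)) * m := by rw [he]; exact congrArg (m⁻¹ * · * m) hk
    _ = r.om ^ k * r.x := by rw [← mul_assoc m⁻¹, ← r.om_pow_comm]; group

end CfsgLib.Dim3Max.Six
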