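import Cfsg.Agent.Lib.Dim3Max.Six.Unip
import Cfsg.Agent.Lib.Dim3Max.Six.Sylow

/-!
The centraliser of the involution as a subgroup of the group.
-/

set_option autoImplicit false
set_option linter.unusedSectionVars false
set_option linter.dupNamespace false
set_option linter.style.haveILetI false

namespace CfsgLib.Dim3Max.Six

open scoped Matrix MatrixGroups
open Root (low)

universe u

variable {F : Type u} [Field F] [Fintype F] {r : Root F} {p : ℕ} {M : Subgroup (GL (Fin 3) F)}

variable (r M) in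
/-- The centraliser in the group of the involution. -/
def CJ : Subgroup M := (r.comm r.ej).comap M.subtype

theorem mem_CJ {v : M} : v ∈ CJ r M ↔ (v : GL (Fin 3) F) * r.j = r.j * (v : GL (Fin 3) F) := r.mem_comm_j

variable (r M) in
/-- The same centraliser, seen in the ambient centraliser. -/
def toCent : CJ r M →* Cent r M where
  toFun c := ⟨⟨((c : M) : GL (Fin 3) F), c.2⟩, (c : M).2⟩
  map_one' := rfl
  map_mul' _ _ := rfl

theorem toCent_surj : Function.Surjective (toCent r M) := fun c =>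
  ⟨⟨⟨(c.1 : GL (Fin 3) F), c.2⟩, c.1.2⟩, rfl⟩

variable (r M) in
/-- The action on the axis. -/
noncomputable def pj : CJ r M →* Img r M := (im r M).comp (toCent r M)

variable (r M) in
/-- The eigenvalue at the centre. -/
noncomputable def dl : CJ r M →* Fˣ := ((r.top r.ej).comp (Cent r M).subtype).comp (toCent r M)

variable (r M) in
/-- The action on the plane. -/
noncomputable def lh : CJ r M →* GL (Fin 2) F := ((r.lowHom r.ej).comp (Cent r M).subtype).comp (toCent r M)

theorem lh_val (c : CJ r M) :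
    (lh r M c : Matrix (Fin 2) (Fin 2) F) = low (Root.inFrame r.ej ((c : M) : GL (Fin 3) F)) := Root.lowHom_val _

theorem pj_eq_one {c : CJ r M} :
    pj r M c = 1 ↔ ∃ b : F, (lh r M c : Matrix (Fin 2) (Fin 2) F) = b • (1 : Matrix (Fin 2) (Fin 2) F) := by
  simp only [lh_val]
  exact im_eq_one (c := toCent r M c)

theorem pj_surj : Function.Surjective (pj r M) := im_surj.comp toCent_surj

theorem dl_val (c : CJ r M) : (dl r M c : F) = Root.inFrame r.ej ((c : M) : GL (Fin 3) F) 0 0 := rfl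

theorem cj_ext {c d : CJ r M} (h : ((c : M) : GL (Fin 3) F) = ((d : M) : GL (Fin 3) F)) : c = d :=
  Subtype.ext (Subtype.ext h)

/-- The involution as an element of its centraliser. -/
def Six.jc (h : Six r p M) : CJ r M := ⟨⟨r.j, h.j_mem⟩, mem_CJ.2 rfl⟩

/-- The scalar as an element of the centraliser. -/
noncomputable def Six.oc (h : Six r p M) : CJ r M := ⟨⟨r.om, h.om_mem⟩, mem_CJ.2 (r.om_comm r.j)⟩

/-- The Fourier element as an element of the centraliser. -/
noncomputable def Six.fc (h : Six r p M) : CJ r M := ⟨⟨r.f, h.f_mem⟩, mem_CJ.2 r.f_j⟩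

/-- The second quarter turn as an element of the centraliser. -/
noncomputable def Six.gc (h : Six r p M) : CJ r M := ⟨⟨r.g, h.g_mem⟩, mem_CJ.2 r.g_j⟩

theorem dl_pow_val (h : Six r p M) :
    (dl r M h.jc : F) = 1 ∧ (dl r M h.oc : F) = r.w ∧ (dl r M h.fc : F) = 1 ∧ (dl r M h.gc : F) = 1 := by
  simp only [dl_val]
  refine ⟨?_, ?_, ?_, ?_⟩
  · show Root.inFrame r.ej r.j 0 0 = 1
    rw [r.frame_j]; simp
  · show Root.inFrame r.ej r.om 0 0 = r.w
    rw [Root.inFrame, mul_assoc, r.om_comm r.ej, inv_mul_cancel_left, r.om_val]; simp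
  · show Root.inFrame r.ej r.f 0 0 = 1
    rw [r.frame_f]; simp
  · show Root.inFrame r.ej r.g 0 0 = 1
    rw [r.frame_g]; simp

theorem Six.pj_jc (h : Six r p M) : pj r M h.jc = 1 := im_j h

theorem Six.pj_oc_pow (h : Six r p M) (k : ℕ) : pj r M (h.oc ^ k) = 1 := by
  rw [← im_om_pow h k]
  exact congrArg (im r M) (Subtype.ext (Subtype.ext (by simp [Six.oc, toCent, cm])))

theorem Six.jc_sq (h : Six r p M) : h.jc * h.jc = 1 := cj_ext r.j_sq

theorem Six.oc_comm (h : Six r p M) (c : CJ r M) : h.oc * c = c * h.oc := cj_ext (r.om_comm _)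

theorem Six.jc_comm (h : Six r p M) (c : CJ r M) : h.jc * c = c * h.jc := cj_ext (mem_CJ.1 c.2).symm

/-- The kernel of the action on the axis. -/
theorem Six.pj_ker (h : Six r p M) {c : CJ r M} (hc : pj r M c = 1) :
    ∃ k : ℕ, c = h.oc ^ k ∨ c = h.oc ^ k * h.jc := by
  obtain ⟨k, hk | hk⟩ := h.kernel hc
  · exact ⟨k, .inl (cj_ext (by simpa [Six.oc, toCent] using hk))⟩
  · exact ⟨k, .inr (cj_ext (by simpa [Six.oc, Six.jc, toCent] using hk))⟩

theorem Six.orderOf_oc (h : Six r p M) : orderOf h.oc = 3 := by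
  haveI : Fact (Nat.Prime 3) := ⟨Nat.prime_three⟩
  refine orderOf_eq_prime (cj_ext (by simp [Six.oc, pow_three', r.om_cube])) fun he => ?_
  have := congrArg (fun g : CJ r M => (((g : M) : GL (Fin 3) F) : Matrix (Fin 3) (Fin 3) F) 0 0) he
  simp [Six.oc, r.om_val] at this
  exact r.w_ne_one this

theorem Six.orderOf_jc (h : Six r p M) : orderOf h.jc = 2 := by
  haveI : Fact (Nat.Prime 2) := ⟨Nat.prime_two⟩
  refine orderOf_eq_prime (by rw [sq, h.jc_sq]) fun he => ?_
  exact r.j_ne_scalar 1 (by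
    have := congrArg (fun g : CJ r M => (((g : M) : GL (Fin 3) F) : Matrix (Fin 3) (Fin 3) F)) he
    simpa [Six.jc] using this)

/-- The order of the centraliser. -/
theorem Six.card_CJ (h : Six r p M) : Nat.card (CJ r M) = 6 * Nat.card (Img r M) := by
  have hker : (pj r M).ker = Subgroup.zpowers (h.oc * h.jc) := by
    refine le_antisymm (fun c hc => ?_) (Subgroup.zpowers_le.2 ?_)
    · have hcomm : Commute h.oc h.jc := h.oc_comm _
      have hj : h.jc ∈ Subgroup.zpowers (h.oc * h.jc) := ⟨3, by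
        show (h.oc * h.jc) ^ (3 : ℤ) = h.jc
        have e3 : h.oc ^ 3 = 1 := by
          have := pow_orderOf_eq_one h.oc
          rwa [h.orderOf_oc] at this
        rw [zpow_ofNat, hcomm.mul_pow, e3, one_mul, pow_three', h.jc_sq, one_mul]⟩
      have ho : h.oc ∈ Subgroup.zpowers (h.oc * h.jc) := by
        have := mul_mem (Subgroup.mem_zpowers (h.oc * h.jc)) hj
        rwa [mul_assoc, h.jc_sq, mul_one] at this
      obtain ⟨k, rfl | rfl⟩ := h.pj_ker hc
      · exact pow_mem ho k
      · exact mul_mem (pow_mem ho k) hj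
    · rw [MonoidHom.mem_ker, map_mul, h.pj_jc, mul_one]
      simpa using h.pj_oc_pow 1
  have hord : orderOf (h.oc * h.jc) = 6 := by
    rw [(show Commute h.oc h.jc from h.oc_comm _).orderOf_mul_eq_mul_orderOf_of_coprime
      (by rw [h.orderOf_oc, h.orderOf_jc]; norm_num), h.orderOf_oc, h.orderOf_jc]
  rw [← Subgroup.index_mul_card (pj r M).ker, Subgroup.index_ker, hker, Nat.card_zpowers, hord,
    MonoidHom.range_eq_top.2 pj_surj, Subgroup.card_top, mul_comm]

/-- The image has order prime to the characteristic. -/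
theorem Six.not_dvd_img (h : Six r p M) : ¬ p ∣ Nat.card (Img r M) := by
  haveI := Fact.mk h.prime
  haveI := h.charP
  exact fun hd => h.noEl.not_dvd_card p r r.ej (hd.trans (Subgroup.card_map_dvd _ _))

theorem Six.not_dvd_CJ (h : Six r p M) : ¬ p ∣ Nat.card (CJ r M) := by
  rw [h.card_CJ]
  intro hd
  rcases (Nat.Prime.dvd_mul h.prime).1 hd with h' | h'
  · have := Nat.le_of_dvd (by norm_num) h'
    have := h.seven_le
    omega
  · exact h.not_dvd_img h'

/-- A square root of the involution and a second involution have different images. -/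
theorem Six.pj_ne (h : Six r p M) {v q : CJ r M} (hv : v * v = 1) (hq : q * q = h.jc) : pj r M v ≠ pj r M q :=
  h.ne_of_sq (congrArg (fun c : CJ r M => ((c : M) : GL (Fin 3) F)) hv)
    (congrArg (fun c : CJ r M => ((c : M) : GL (Fin 3) F)) hq)

theorem Six.fc_sq (h : Six r p M) : h.fc * h.fc = h.jc := cj_ext r.f_sq
theorem Six.gc_sq (h : Six r p M) : h.gc * h.gc = h.jc := cj_ext r.g_sq
theorem Six.fgc_sq (h : Six r p M) : h.fc * h.gc * (h.fc * h.gc) = h.jc := cj_ext r.fg_sq

/-- The four group. -/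
theorem Six.pj_klein (h : Six r p M) :
    pj r M h.fc * pj r M h.fc = 1 ∧ pj r M h.fc ≠ 1 ∧ pj r M h.gc * pj r M h.gc = 1 ∧ pj r M h.gc ≠ 1 ∧
      pj r M h.fc ≠ pj r M h.gc ∧ pj r M h.fc * pj r M h.gc = pj r M h.gc * pj r M h.fc := by
  obtain ⟨a, b, -, -, -, a1, a2, b1, b2, ab, cab, ha, hb⟩ := h.klein
  have ea : toCent r M h.fc = a := Subtype.ext (Subtype.ext ha.symm)
  have eb : toCent r M h.gc = b := Subtype.ext (Subtype.ext hb.symm)
  have e1 : pj r M h.fc = im r M a := by rw [pj, MonoidHom.comp_apply, ea]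
  have e2 : pj r M h.gc = im r M b := by rw [pj, MonoidHom.comp_apply, eb]
  rw [e1, e2]
  exact ⟨a1, a2, b1, b2, ab, cab⟩

/-- The centraliser of a further involution. -/
theorem Six.cj_invol (h : Six r p M) {u : CJ r M} (hu : u * u = 1) (hu1 : u ≠ 1) (huj : u ≠ h.jc) :
    (∀ c : CJ r M, c * u = u * c → pj r M c = 1 ∨ pj r M c = pj r M u) ∧ ∃ y : CJ r M, y * u * y⁻¹ = h.jc * u := by
  obtain ⟨h1, y, hy⟩ := h.cent_invol (u := toCent r M u) (congrArg (fun c : CJ r M => ((c : M) : GL (Fin 3) F)) hu)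
    (fun e => hu1 (cj_ext e)) (fun e => huj (cj_ext e))
  obtain ⟨y', rfl⟩ := toCent_surj y
  exact ⟨fun c hc => h1 (toCent r M c) (by rw [← map_mul, hc, map_mul]), y',
    cj_ext (congrArg (fun c : Cent r M => (c.1 : GL (Fin 3) F)) hy)⟩

/-- The characteristic polynomial on the axis. -/
theorem low_ch (A : Matrix (Fin 2) (Fin 2) F) : A * A = A.trace • A - A.det • (1 : Matrix (Fin 2) (Fin 2) F) := by
  ext i j
  fin_cases i <;> fin_cases j <;>
    simp [Matrix.mul_apply, Fin.sum_univ_two, Matrix.trace_fin_two, Matrix.det_fin_two] <;> ring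

theorem dl_mul_det (h : Six r p M) (c : CJ r M) :
    (dl r M c : F) * (low (Root.inFrame r.ej ((c : M) : GL (Fin 3) F))).det = 1 :=
  Root.top_mul_det (c := (toCent r M c).1) (h.le (c : M).2)

/-- An element with image of order above two has its centraliser in that of the involution. -/
theorem Six.centralizer_le (h : Six r p M) {c : CJ r M} (hd : (dl r M c : F) ^ 6 = 1)
    (hc : pj r M c * pj r M c ≠ 1) {v : M} (hv : v * (c : M) = (c : M) * v) : v ∈ CJ r M := by
  haveI := Fact.mk h.prime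
  haveI := h.charP
  obtain ⟨B, hB⟩ : ∃ B, Root.inFrame r.ej ((c : M) : GL (Fin 3) F) = B := ⟨_, rfl⟩
  obtain ⟨δ, hδ⟩ : ∃ δ, (dl r M c : F) = δ := ⟨_, rfl⟩
  obtain ⟨L, hL⟩ : ∃ L, low B = L := ⟨_, rfl⟩
  have hdet : δ * L.det = 1 := by rw [← hδ, ← hL, ← hB]; exact dl_mul_det h c
  rw [hδ] at hd
  have hδ0 : δ ≠ 0 := left_ne_zero_of_mul_eq_one hdet
  have hne : (L - δ • (1 : Matrix (Fin 2) (Fin 2) F)).det ≠ 0 := by
    intro h0
    have hroot : δ * δ - L.trace * δ + L.det = 0 := by
      rw [← h0]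
      simp [Matrix.det_fin_two, Matrix.trace_fin_two]
      ring
    have h36 : (δ ^ 3 - 1) * (δ ^ 3 + 1) = 0 := by linear_combination hd
    rcases mul_eq_zero.1 h36 with h3 | h3
    · -- a single eigenvalue
      have hD : L.det = δ * δ := mul_left_cancel₀ hδ0 (by linear_combination hdet - h3)
      have hT : L.trace = 2 * δ := mul_right_cancel₀ hδ0 (by linear_combination -hroot + hD)
      have hsq : (L - δ • (1 : Matrix (Fin 2) (Fin 2) F)) ^ 2 = 0 := by
        rw [sq, sub_mul, mul_sub, mul_sub, low_ch L, hD, hT]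
        simp only [smul_mul_assoc, mul_smul_comm, one_mul, mul_one, smul_smul]
        module
      have hp : L ^ p = δ ^ p • (1 : Matrix (Fin 2) (Fin 2) F) := by
        have h7 := h.seven_le
        have e := sub_pow_char_of_commute p ((Commute.one_right L).smul_right δ)
        rw [pow_eq_zero_of_le (by omega : 2 ≤ p) hsq, smul_pow, one_pow, eq_comm, sub_eq_zero] at e
        exact e
      have hone : pj r M (c ^ p) = 1 :=
        pj_eq_one.2 ⟨δ ^ p, by rw [map_pow, Units.val_pow_eq_pow_val, lh_val, hB, hL, hp]⟩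
      rw [map_pow] at hone
      have h1 : pj r M c = 1 := by
        rcases (Nat.dvd_prime h.prime).1 (orderOf_dvd_of_pow_eq_one hone) with e | e
        · exact orderOf_eq_one_iff.1 e
        · exact absurd (e ▸ orderOf_dvd_natCard _) h.not_dvd_img
      exact hc (by rw [h1, mul_one])
    · -- opposite eigenvalues
      have hT : L.trace = 0 := by
        refine mul_left_cancel₀ (mul_ne_zero hδ0 hδ0) ?_
        linear_combination -δ * hroot + hdet + h3
      refine hc ?_
      rw [← map_mul]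
      refine pj_eq_one.2 ⟨-L.det, ?_⟩
      rw [map_mul, Units.val_mul, lh_val, hB, hL, low_ch L, hT, zero_smul, zero_sub, neg_smul]
  obtain ⟨V, hV⟩ : ∃ V, Root.inFrame r.ej (v : GL (Fin 3) F) = V := ⟨_, rfl⟩
  have he : V * B = B * V := by
    rw [← hV, ← hB, ← Root.inFrame_mul, ← Root.inFrame_mul]
    have hv' : (v : GL (Fin 3) F) * ((c : M) : GL (Fin 3) F) = ((c : M) : GL (Fin 3) F) * (v : GL (Fin 3) F) := congrArg Subtype.val hv
    rw [hv']
  obtain ⟨a1, a2, a3, a4⟩ := Root.inFrame_zero (r := r) (e := r.ej) (c := ((c : M) : GL (Fin 3) F)) c.2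
  rw [hB] at a1 a2 a3 a4
  have hB00 : B 0 0 = δ := by rw [← hδ, dl_val, hB]
  have e01 := congrFun (congrFun he 0) 1
  have e02 := congrFun (congrFun he 0) 2
  have e10 := congrFun (congrFun he 1) 0
  have e20 := congrFun (congrFun he 2) 0
  simp [Matrix.mul_apply, Fin.sum_univ_three, a1, a2, a3, a4, hB00] at e01 e02 e10 e20
  rw [← hL] at hne
  simp [low, Matrix.det_fin_two] at hne
  have v01 : V 0 1 = 0 := mul_left_cancel₀ hne (by linear_combination (B 2 2 - δ) * e01 - B 2 1 * e02)
  have v02 : V 0 2 = 0 := mul_left_cancel₀ hne (by linear_combination (B 1 1 - δ) * e02 - B 1 2 * e01)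
  have v10 : V 1 0 = 0 := mul_left_cancel₀ hne (by linear_combination -(B 2 2 - δ) * e10 + B 1 2 * e20)
  have v20 : V 2 0 = 0 := mul_left_cancel₀ hne (by linear_combination -(B 1 1 - δ) * e20 + B 2 1 * e10)
  refine mem_CJ.2 (Root.eq_of_inFrame (e := r.ej) ?_)
  rw [Root.inFrame_mul, Root.inFrame_mul, r.frame_j, hV]
  ext i j
  fin_cases i <;> fin_cases j <;> simp [Matrix.mul_apply, Fin.sum_univ_three, v01, v02, v10, v20]

/-- Every involution is conjugate into the centraliser of `j`, which holds a Sylow two-subgroup. -/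
theorem Six.sylow_two (h : Six r p M) :
    ∃ T : Sylow 2 M, (T : Subgroup M) ≤ CJ r M ∧ (h.fc : M) ∈ (T : Subgroup M) := by
  haveI : Fact (Nat.Prime 2) := ⟨Nat.prime_two⟩
  have hf4 : orderOf h.fc = 2 ^ (1 + 1) := by
    refine orderOf_eq_prime_pow (fun e => ?_) ?_
    · rw [pow_one, sq, h.fc_sq] at e
      have h2 := h.orderOf_jc
      rw [e, orderOf_one] at h2
      norm_num at h2
    · rw [show (2 : ℕ) ^ (1 + 1) = 2 * 2 by norm_num, pow_mul, sq, sq, h.fc_sq, h.jc_sq]
  obtain ⟨T0, hT0⟩ := (IsPGroup.of_card (p := 2) (n := 1 + 1) (G := Subgroup.zpowers h.fc)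
    (by rw [Nat.card_zpowers, hf4])).exists_le_sylow
  have hfT : h.fc ∈ (T0 : Subgroup (CJ r M)) := hT0 (Subgroup.mem_zpowers _)
  set P : Subgroup M := (T0 : Subgroup (CJ r M)).map (CJ r M).subtype with hP
  have hPle : P ≤ CJ r M := Subgroup.map_subtype_le _
  have hP2 : IsPGroup 2 P := T0.isPGroup'.map _
  obtain ⟨T, hT⟩ := hP2.exists_le_sylow
  suffices hTP : (T : Subgroup M) = P by
    exact ⟨T, hTP ▸ hPle, hTP ▸ ⟨h.fc, hfT, rfl⟩⟩
  by_contra hne
  have hlt : P < (T : Subgroup M) := lt_of_le_of_ne hT (Ne.symm hne)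
  haveI : Group.IsNilpotent (T : Subgroup M) := T.isPGroup'.isNilpotent
  have hlt' : P.subgroupOf (T : Subgroup M) < ⊤ := by
    rw [lt_top_iff_ne_top, Ne, Subgroup.subgroupOf_eq_top]
    exact fun hh => hne (le_antisymm hh hT)
  have hN := Group.normalizerCondition_of_isNilpotent (G := (T : Subgroup M)) _ hlt'
  obtain ⟨y, hyN, hyP⟩ := SetLike.exists_of_lt hN
  -- the involution is the only central one
  have hjT : h.jc ∈ (T0 : Subgroup (CJ r M)) := h.fc_sq ▸ mul_mem hfT hfT
  have hjP : (h.jc : M) ∈ P := ⟨h.jc, hjT, rfl⟩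
  have hy : (y : M) * (h.jc : M) * (y : M)⁻¹ = (h.jc : M) := by
    have hmem : (y : M) * (h.jc : M) * (y : M)⁻¹ ∈ P := by
      have := (Subgroup.mem_normalizer_iff.1 hyN ⟨(h.jc : M), hT hjP⟩).1 hjP
      exact this
    obtain ⟨v, hvT, hv⟩ := hmem
    have hv2 : v * v = 1 := Subtype.ext (by
      show (v : M) * (v : M) = 1
      rw [show (v : M) = _ from hv]
      calc (y : M) * (h.jc : M) * (y : M)⁻¹ * ((y : M) * (h.jc : M) * (y : M)⁻¹)
          = (y : M) * ((h.jc : M) * (h.jc : M)) * (y : M)⁻¹ := by group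
        _ = 1 := by rw [← Subgroup.coe_mul, h.jc_sq]; simp)
    have hv1 : v ≠ 1 := fun e => by
      rw [e, map_one] at hv
      have : (h.jc : M) = 1 := by simpa using hv.symm
      have h2 := h.orderOf_jc
      rw [show h.jc = 1 from Subtype.ext this, orderOf_one] at h2
      norm_num at h2
    by_contra hvj
    have hvj' : v ≠ h.jc := fun e => hvj (by rw [← hv, e]; rfl)
    have hcen : h.fc * v = v * h.fc := by
      have hf' : (y : M)⁻¹ * (h.fc : M) * (y : M) ∈ P := by
        have := (Subgroup.mem_normalizer_iff''.1 hyN ⟨(h.fc : M), hT ⟨h.fc, hfT, rfl⟩⟩).1 ⟨h.fc, hfT, rfl⟩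
        exact this
      obtain ⟨q, -, hq⟩ := hf'
      refine Subtype.ext ?_
      show (h.fc : M) * (v : M) = (v : M) * (h.fc : M)
      have hqj : (q : M) * (h.jc : M) = (h.jc : M) * (q : M) := congrArg Subtype.val (h.jc_comm q).symm
      rw [show (v : M) = _ from hv]
      have hf : (h.fc : M) = (y : M) * (q : M) * (y : M)⁻¹ := by rw [show (q : M) = _ from hq]; group
      rw [hf]
      calc (y : M) * (q : M) * (y : M)⁻¹ * ((y : M) * (h.jc : M) * (y : M)⁻¹)
          = (y : M) * ((q : M) * (h.jc : M)) * (y : M)⁻¹ := by group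
        _ = (y : M) * ((h.jc : M) * (q : M)) * (y : M)⁻¹ := by rw [hqj]
        _ = _ := by group
    rcases (h.cj_invol hv2 hv1 hvj').1 h.fc hcen with e | e
    · exact h.pj_klein.2.1 e
    · exact h.pj_ne hv2 h.fc_sq e.symm
  have hyC : (y : M) ∈ CJ r M := by
    refine mem_CJ.2 ?_
    have := congrArg Subtype.val (mul_inv_eq_iff_eq_mul.1 hy)
    exact this
  refine hyP ?_
  show (y : M) ∈ P
  have hT0max : (T : Subgroup M).subgroupOf (CJ r M) = (T0 : Subgroup (CJ r M)) := T0.is_maximal'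
    (IsPGroup.comap_subtype T.isPGroup')
    (fun c hc => hT ⟨c, hc, rfl⟩)
  exact ⟨⟨(y : M), hyC⟩, hT0max ▸ y.2, rfl⟩

end CfsgLib.Dim3Max.Six
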