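import Cfsg.Agent.Lib.Dim3Max.Six.Iface
import Cfsg.Agent.Lib.Dim3Max.Centres

/-!
An element of prime order commuting with no involution: its centraliser is abelian, meets its conjugates only
in elements of order prime to the given one, and has index at most three in its normaliser.
-/

set_option autoImplicit false
set_option linter.unusedSectionVars false

namespace CfsgLib.Dim3Max.Six

open scoped Matrix MatrixGroups
open Polynomial (X C)

universe u

/-- A matrix of finite order prime to the characteristic is diagonalisable over a closed field. -/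
theorem exists_diagonalise {K : Type u} [Field K] [IsAlgClosed K] {l : ℕ} (hlK : (l : K) ≠ 0)
    {x : Matrix (Fin 3) (Fin 3) K} (hx : x ^ l = 1) :
    ∃ (g : GL (Fin 3) K) (d : Fin 3 → K),
      x * (g : Matrix (Fin 3) (Fin 3) K) = (g : Matrix (Fin 3) (Fin 3) K) * Matrix.diagonal d := by
  classical
  let f : Module.End K (Fin 3 → K) := Matrix.toLinAlgEquiv' x
  have hf : f ^ l = 1 := by rw [← map_pow, hx, map_one]
  have hss : f.IsSemisimple := Module.End.isSemisimple_of_squarefree_aeval_eq_zero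
    (p := X ^ l - C (1 : K)) (Polynomial.separable_X_pow_sub_C 1 hlK one_ne_zero).squarefree (by simp [hf])
  have hint : DirectSum.IsInternal f.eigenspace := by
    rw [DirectSum.isInternal_submodule_iff_iSupIndep_and_iSup_eq_top]
    exact ⟨f.eigenspaces_iSupIndep, hss.iSup_eigenspace_eq_top⟩
  let bs := fun μ => Module.finBasis K (f.eigenspace μ)
  let B := hint.collectedBasis bs
  let e := B.indexEquiv (Pi.basisFun K (Fin 3))
  obtain ⟨g, hg⟩ := Dim3Max.exists_gl_cols (fun j => (B.reindex e) j) (B.reindex e).linearIndependent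
  refine ⟨g, fun j => (e.symm j).1, ?_⟩
  have key : ∀ j, x *ᵥ ((g : Matrix (Fin 3) (Fin 3) K) *ᵥ Pi.single j 1) =
      (e.symm j).1 • ((g : Matrix (Fin 3) (Fin 3) K) *ᵥ Pi.single j 1) := by
    intro j
    have hmem := hint.collectedBasis_mem bs (e.symm j)
    rw [Module.End.mem_eigenspace_iff] at hmem
    rw [hg, Module.Basis.reindex_apply]
    exact hmem
  ext i j
  have := congrFun (key j) i
  rw [Matrix.mulVec_mulVec] at this
  simpa [Matrix.mulVec_single_one, mul_comm] using this

section Group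

variable {G : Type*} [Group G] [Finite G] {A : Subgroup G} {x : G} {l : ℕ}

/-- The elements of an abelian group of order prime to `l`. -/
theorem card_regular (hA : ∀ a ∈ A, ∀ b ∈ A, a * b = b * a) (hl : l.Prime) (hx : x ∈ A) (hxl : orderOf x = l) :
    l * Nat.card {a : G | a ∈ A ∧ ¬ l ∣ orderOf a} ≤ Nat.card A := by
  have hmul : ∀ a ∈ A, ∀ b ∈ A, ¬ l ∣ orderOf a → ¬ l ∣ orderOf b → ¬ l ∣ orderOf (a * b) := by
    intro a ha b hb h1 h2 h
    have h3 := h.trans ((show Commute a b from hA a ha b hb).orderOf_mul_dvd_lcm)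
    have h4 : l ∣ orderOf a * orderOf b := h3.trans (Nat.lcm_dvd_mul _ _)
    rcases hl.dvd_mul.1 h4 with h5 | h5
    · exact h1 h5
    · exact h2 h5
  have hz : Nat.card (Subgroup.zpowers x) = l := by rw [Nat.card_zpowers, hxl]
  have key : Nat.card (Subgroup.zpowers x × {a : G | a ∈ A ∧ ¬ l ∣ orderOf a}) ≤ Nat.card A := by
    refine Nat.card_le_card_of_injective
      (fun v : Subgroup.zpowers x × {a : G | a ∈ A ∧ ¬ l ∣ orderOf a} =>
        (⟨(v.1 : G) * v.2, mul_mem ((Subgroup.zpowers_le.2 hx) v.1.2) v.2.2.1⟩ : A)) ?_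
    rintro ⟨⟨z, hz'⟩, ⟨a, ha, hal⟩⟩ ⟨⟨z', hz''⟩, ⟨b, hb, hbl⟩⟩ he
    have he' : z * a = z' * b := congrArg Subtype.val he
    have h1 : z'⁻¹ * z = b * a⁻¹ := by
      rw [inv_mul_eq_iff_eq_mul, ← mul_assoc, eq_mul_inv_iff_mul_eq, he']
    have hmem : z'⁻¹ * z ∈ Subgroup.zpowers x := mul_mem (inv_mem hz'') hz'
    have hreg : ¬ l ∣ orderOf (z'⁻¹ * z) := by
      rw [h1]
      exact hmul b hb _ (inv_mem ha) hbl (by rw [orderOf_inv]; exact hal)
    have hd : orderOf (z'⁻¹ * z) ∣ l := by
      have := orderOf_dvd_natCard (⟨z'⁻¹ * z, hmem⟩ : Subgroup.zpowers x)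
      rwa [Subgroup.orderOf_mk, hz] at this
    rcases (Nat.dvd_prime hl).1 hd with h2 | h2
    · have hz1 : z = z' := (inv_mul_eq_one.1 (orderOf_eq_one_iff.1 h2)).symm
      subst hz1
      obtain rfl := mul_left_cancel he'
      rfl
    · exact absurd (by rw [h2]) hreg
  rwa [Nat.card_prod, hz] at key

/-- The counting of the conjugates. -/
theorem many_conjugates (hl : l.Prime) (hl5 : 5 ≤ l) (hxl : orderOf x = l)
    (hab : ∀ w : G, orderOf w = l → ∀ a b : G, a * w = w * a → b * w = w * b → a * b = b * a)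
    (N : Subgroup G) (hN : ∀ g : G, (∀ a, a * x = x * a → (g * a * g⁻¹) * x = x * (g * a * g⁻¹)) → g ∈ N)
    (hNle : Nat.card N ≤ 3 * Nat.card (Subgroup.centralizer {x})) :
    ∃ S : Set G, (∀ v ∈ S, l ∣ orderOf v) ∧ 4 * Nat.card G ≤ 15 * Nat.card (conjUnion S) := by
  have hmemc : ∀ a : G, a ∈ Subgroup.centralizer {x} ↔ a * x = x * a := fun a =>
    Subgroup.mem_centralizer_singleton_iff
  set A := Subgroup.centralizer ({x} : Set G)
  have hA : ∀ a ∈ A, ∀ b ∈ A, a * b = b * a := fun a ha b hb =>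
    hab x hxl a b ((hmemc a).1 ha) ((hmemc b).1 hb)
  refine ⟨{a | a ∈ A ∧ l ∣ orderOf a}, fun v hv => hv.2, ?_⟩
  have hin : ∀ g : G, ∀ s ∈ {a | a ∈ A ∧ l ∣ orderOf a}, g * s * g⁻¹ ∈ {a | a ∈ A ∧ l ∣ orderOf a} → g ∈ N := by
    rintro g s ⟨hs, hsl⟩ ⟨hgs, -⟩
    refine hN g fun a ha => ?_
    set w := s ^ (orderOf s / l) with hw
    have hwl : orderOf w = l := by
      rw [hw, orderOf_pow_of_dvd (Nat.div_pos (Nat.le_of_dvd (orderOf_pos s) hsl) hl.pos).ne'
        (Nat.div_dvd_of_dvd hsl), Nat.div_div_self hsl (orderOf_pos s).ne']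
    have hwA : w ∈ A := pow_mem hs _
    have haw : a * w = w * a := hA a ((hmemc a).2 ha) w hwA
    have hgw : g * w * g⁻¹ ∈ A := by
      rw [hw, ← conj_pow]
      exact pow_mem hgs _
    have hgwl : orderOf (g * w * g⁻¹) = l := by
      rw [← hwl]; exact orderOf_injective (MulAut.conj g).toMonoidHom (MulAut.conj g).injective w
    refine hab _ hgwl _ x ?_ ((hmemc _).1 hgw).symm
    calc g * a * g⁻¹ * (g * w * g⁻¹) = g * (a * w) * g⁻¹ := by group
      _ = g * (w * a) * g⁻¹ := by rw [haw]
      _ = g * w * g⁻¹ * (g * a * g⁻¹) := by group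
  have h1 := le_card_conjUnion _ N hin
  have hxA : x ∈ A := (hmemc x).2 rfl
  have h2 := card_regular hA hl hxA hxl
  have hsplit : Nat.card A ≤ Nat.card {a | a ∈ A ∧ l ∣ orderOf a} + Nat.card {a : G | a ∈ A ∧ ¬ l ∣ orderOf a} := by
    refine le_trans (le_of_eq ?_) (card_union_le _ _)
    refine Nat.card_congr (Equiv.setCongr ?_)
    ext a
    by_cases ha : l ∣ orderOf a <;> simp [ha]
  set s := Nat.card {a | a ∈ A ∧ l ∣ orderOf a}
  set k := Nat.card {a : G | a ∈ A ∧ ¬ l ∣ orderOf a}
  have h4 : 4 * Nat.card A ≤ 5 * s := by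
    have : 5 * k ≤ l * k := Nat.mul_le_mul_right k hl5
    omega
  have hpos : 0 < Nat.card A := Nat.card_pos
  refine Nat.le_of_mul_le_mul_right (?_ : 4 * Nat.card G * Nat.card A ≤ 15 * Nat.card (conjUnion _) * Nat.card A) hpos
  calc 4 * Nat.card G * Nat.card A = Nat.card G * (4 * Nat.card A) := by ring
    _ ≤ Nat.card G * (5 * s) := Nat.mul_le_mul_left _ h4
    _ = 5 * (Nat.card G * s) := by ring
    _ ≤ 5 * (Nat.card (conjUnion {a | a ∈ A ∧ l ∣ orderOf a}) * Nat.card N) := Nat.mul_le_mul_left _ h1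
    _ ≤ 5 * (Nat.card (conjUnion {a | a ∈ A ∧ l ∣ orderOf a}) * (3 * Nat.card A)) :=
      Nat.mul_le_mul_left _ (Nat.mul_le_mul_left _ hNle)
    _ = _ := by ring

/-- A normaliser with at most three conjugates of `x`. -/
theorem card_le_of_conjugates (N : Subgroup G) {T : Set G} (hT : Nat.card T ≤ 3)
    (hNT : ∀ n ∈ N, n * x * n⁻¹ ∈ T) : Nat.card N ≤ 3 * Nat.card (Subgroup.centralizer {x}) := by
  classical
  have hch : ∀ y : {y // ∃ n ∈ N, n * x * n⁻¹ = y}, ∃ n ∈ N, n * x * n⁻¹ = (y : G) := fun y => y.2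
  choose r hrN hr using hch
  let v : N → {y // ∃ n ∈ N, n * x * n⁻¹ = y} := fun n => ⟨_, n, n.2, rfl⟩
  have hker : ∀ n : N, (r (v n))⁻¹ * n ∈ Subgroup.centralizer {x} := fun n => by
    rw [Subgroup.mem_centralizer_singleton_iff]
    have h := hr (v n)
    calc (r (v n))⁻¹ * n * x = (r (v n))⁻¹ * ((n : G) * x * (n : G)⁻¹) * n := by group
      _ = (r (v n))⁻¹ * (r (v n) * x * (r (v n))⁻¹) * n := by rw [h]
      _ = x * ((r (v n))⁻¹ * n) := by group
  have hinj : Function.Injective (fun n : N =>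
      ((⟨(v n).1, hNT n n.2⟩ : T), (⟨_, hker n⟩ : Subgroup.centralizer ({x} : Set G)))) := by
    intro n m hnm
    simp only [Prod.mk.injEq, Subtype.mk.injEq] at hnm
    obtain ⟨h1, h2⟩ := hnm
    rw [show v n = v m from Subtype.ext h1] at h2
    exact Subtype.ext (mul_left_cancel h2)
  refine (Nat.card_le_card_of_injective _ hinj).trans ?_
  rw [Nat.card_prod]
  exact Nat.mul_le_mul_right _ hT

end Group

/-- A subgroup of the symmetric group on three letters without two transpositions. -/
theorem perm_three_card (H : Subgroup (Equiv.Perm (Fin 3)))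
    (h : ∀ σ ∈ H, ∀ τ ∈ H, Equiv.Perm.sign σ = -1 → Equiv.Perm.sign τ = -1 → σ = τ) : Nat.card H ≤ 3 := by
  have hd : Nat.card H ∣ 6 := by
    have := Subgroup.card_subgroup_dvd_card H
    rwa [Nat.card_eq_fintype_card (α := Equiv.Perm (Fin 3)), Fintype.card_perm, Fintype.card_fin] at this
  have hle := Nat.le_of_dvd (by norm_num) hd
  by_contra hcon
  have h6 : Nat.card H = 6 := by interval_cases Nat.card H <;> omega
  have htop : H = ⊤ := Subgroup.eq_top_of_card_eq _ (by
    rw [h6, Nat.card_eq_fintype_card, Fintype.card_perm, Fintype.card_fin]; rfl)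
  have := h (Equiv.swap 0 1) (htop ▸ trivial) (Equiv.swap 0 2) (htop ▸ trivial) (Equiv.Perm.sign_swap (by decide))
    (Equiv.Perm.sign_swap (by decide))
  exact absurd (congrFun (congrArg DFunLike.coe this) 0) (by simp)

variable {F : Type u} [Field F] [Fintype F] {r : Root F} {p : ℕ} {M : Subgroup (GL (Fin 3) F)}

local notation "M3" => Matrix (Fin 3) (Fin 3) F

/-- A group of odd order without elations centralising a reflection is abelian. -/
theorem Six.comm_abelian (h : Six r p M) (g : GL (Fin 3) F) (A : Subgroup M) (hodd : Odd (Nat.card A))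
    (hg : ∀ a ∈ A, (a : GL (Fin 3) F) ∈ r.comm g) : ∀ a ∈ A, ∀ b ∈ A, a * b = b * a := by
  haveI := Fact.mk h.prime
  haveI := h.charP
  let φ : A →* r.comm g :=
    { toFun := fun a => ⟨(a.1 : GL (Fin 3) F), hg a a.2⟩, map_one' := rfl, map_mul' := fun _ _ => rfl }
  let ψ : A →* Matrix.ProjGenLinGroup (Fin 2) F := (r.pr g).comp φ
  have hp : ¬ p ∣ Nat.card ψ.range := fun hd => by
    refine h.noEl.not_dvd_card p r g ((hd.trans (Subgroup.card_range_dvd ψ)).trans ?_)
    let φ' : A →* M.subgroupOf (r.comm g) :=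
      { toFun := fun a => ⟨φ a, a.1.2⟩, map_one' := rfl, map_mul' := fun _ _ => rfl }
    exact Subgroup.card_dvd_of_injective φ' fun a b hab => by
      refine Subtype.ext (Subtype.ext ?_)
      exact congrArg (fun z : M.subgroupOf (r.comm g) => ((z : r.comm g) : GL (Fin 3) F)) hab
  have hoddr : Odd (Nat.card ψ.range) := hodd.of_dvd_nat (Subgroup.card_range_dvd ψ)
  haveI hcyc : IsCyclic ψ.range := by
    cases CfsgLib.PSL2.dickson_pgl (p := p) ψ.range with
    | cyclic hc _ => exact hc
    | dihedral r' _ k _ _ _ _ iso =>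
      obtain ⟨e⟩ := iso
      rw [Nat.card_congr e.toEquiv, DihedralGroup.nat_card] at hoddr
      exact absurd hoddr (by simp)
    | borel P hpH _ => exact absurd hpH hp
    | tetra _ iso =>
      obtain ⟨e⟩ := iso
      rw [Nat.card_congr e.toEquiv, nat_card_alternatingGroup, Nat.card_fin] at hoddr
      exact absurd hoddr (by decide)
    | octa _ iso =>
      obtain ⟨e⟩ := iso
      rw [Nat.card_congr e.toEquiv, Nat.card_perm, Nat.card_fin] at hoddr
      exact absurd hoddr (by decide)
    | icosa _ iso =>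
      obtain ⟨e⟩ := iso
      rw [Nat.card_congr e.toEquiv, nat_card_alternatingGroup, Nat.card_fin] at hoddr
      exact absurd hoddr (by decide)
    | subfield K iso =>
      exfalso
      apply hp
      haveI : CharP K p := (RingHom.charP_iff_charP K.subtype p).2 inferInstance
      have hpK : p ∣ Nat.card K := by
        haveI := Fintype.ofFinite K
        obtain ⟨m, -, hm⟩ := FiniteField.card K p
        rw [Nat.card_eq_fintype_card, hm]; exact dvd_pow_self p m.pos.ne'
      rcases iso with ⟨⟨e⟩⟩ | ⟨hodd', ⟨e⟩⟩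
      · rw [Nat.card_congr e.toEquiv, CfsgLib.Classical.card_PGL_eq_card_SL, CfsgLib.Classical.card_SL_two]
        exact hpK.mul_right _
      · rw [Nat.card_congr e.toEquiv]
        have hP := CfsgLib.Classical.card_PSL_two_mul (F := K)
        have h2 : p ∣ Nat.gcd 2 (Nat.card K - 1) * Nat.card (Matrix.ProjectiveSpecialLinearGroup (Fin 2) K) := by
          rw [hP]; exact hpK.mul_right _
        rcases h.prime.dvd_mul.1 h2 with h' | h'
        · have := Nat.le_of_dvd (by norm_num) (h'.trans (Nat.gcd_dvd_left _ _))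
          have := h.seven_le
          omega
        · exact h'
  intro a ha b hb
  have key := commutative_of_cyclic_center_quotient ψ.rangeRestrict (fun z hz => ?_)
    (⟨a, ha⟩ : A) ⟨b, hb⟩
  · exact congrArg Subtype.val key
  · obtain ⟨c, hc⟩ := Root.pr_eq_one_iff.1 (show r.pr g (φ z) = 1 from congrArg Subtype.val hz)
    refine Subgroup.mem_center_iff.2 fun w => ?_
    have e : φ w * φ z = φ z * φ w := by
      refine Root.ext_frame ?_ (by rw [map_mul, map_mul, mul_comm])
      refine Units.ext ?_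
      rw [map_mul, map_mul, Units.val_mul, Units.val_mul, hc, mul_smul_comm, smul_mul_assoc, one_mul, mul_one]
    exact Subtype.ext (Subtype.ext (congrArg (fun z : r.comm g => (z : GL (Fin 3) F)) e))

/-- The rank of an idempotent from its trace. -/
theorem finrank_range_of_trace [CharP F p] (hp7 : 7 ≤ p) {P : Module.End F (Fin 3 → F)} (hP : P * P = P) {n : ℕ}
    (hn : n ≤ 4) (ht : LinearMap.trace F _ P = (n : F)) : Module.finrank F (LinearMap.range P) = n := by
  have hproj : LinearMap.IsProj (LinearMap.range P) P :=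
    ⟨fun v => LinearMap.mem_range_self P v, fun v hv => by
      obtain ⟨w, rfl⟩ := hv; exact LinearMap.congr_fun hP w⟩
  rw [hproj.trace] at ht
  have h3 : Module.finrank F (LinearMap.range P) ≤ 3 := (Submodule.finrank_le _).trans (by simp)
  exact (CharP.natCast_injOn_Iio F p (Set.mem_Iio.2 (by omega)) (Set.mem_Iio.2 (by omega)) ht)

/-- Commuting idempotents of trace one are equal or orthogonal. -/
theorem idem_eq_or_orth [CharP F p] (hp7 : 7 ≤ p) {P Q : Module.End F (Fin 3 → F)} (hP : P * P = P)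
    (hQ : Q * Q = Q) (htP : LinearMap.trace F _ P = 1) (htQ : LinearMap.trace F _ Q = 1)
    (hPQ : P * Q = Q * P) : P = Q ∨ P * Q = 0 := by
  refine or_iff_not_imp_right.2 fun hne => ?_
  have key : ∀ A B : Module.End F (Fin 3 → F), A * A = A → LinearMap.trace F _ A = 1 → A * B ≠ 0 →
      A * B = B * A → B * B = B → A * B = A := by
    intro A B hA htA hAB hc hB
    have h1 : Module.finrank F (LinearMap.range A) = 1 :=
      finrank_range_of_trace hp7 hA (n := 1) (by norm_num) (by rw [htA, Nat.cast_one])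
    have hle : LinearMap.range (A * B) ≤ LinearMap.range A := LinearMap.range_comp_le_range B A
    have heq : LinearMap.range (A * B) = LinearMap.range A := by
      refine Submodule.eq_of_le_of_finrank_le hle ?_
      rw [h1]
      refine Submodule.one_le_finrank_iff.2 fun e => hAB (LinearMap.range_eq_bot.1 e)
    refine LinearMap.ext fun v => ?_
    obtain ⟨w, hw⟩ : A v ∈ LinearMap.range (A * B) := heq ▸ LinearMap.mem_range_self A v
    have hidem : (A * B) * (A * B) = A * B := by
      calc A * B * (A * B) = A * (B * A) * B := by simp only [mul_assoc]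
        _ = A * (A * B) * B := by rw [hc]
        _ = (A * A) * (B * B) := by simp only [mul_assoc]
        _ = A * B := by rw [hA, hB]
    have e1 : (A * B) (A v) = A v := by rw [← hw]; exact LinearMap.congr_fun hidem w
    have e2 : (A * B) (A v) = (A * B) v := by
      have : A * B * A = A * B := by rw [mul_assoc, ← hc, ← mul_assoc, hA]
      exact LinearMap.congr_fun this v
    exact e2.symm.trans e1
  have h1 := key P Q hP htP hne hPQ hQ
  have h2 := key Q P hQ htQ (hPQ ▸ hne) hPQ.symm hP
  rw [← h1, hPQ, h2]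

/-- Pairwise commuting idempotents of trace one are at most three. -/
theorem idem_card_le [CharP F p] (hp7 : 7 ≤ p) {T : Set (Module.End F (Fin 3 → F))}
    (hT : ∀ P ∈ T, P * P = P ∧ LinearMap.trace F _ P = 1) (hc : ∀ P ∈ T, ∀ Q ∈ T, P * Q = Q * P) :
    T.ncard ≤ 3 := by
  classical
  by_contra hcon
  obtain ⟨s, hsT, hs⟩ := Set.exists_subset_card_eq (show 4 ≤ T.ncard by omega)
  haveI : Finite (Module.End F (Fin 3 → F)) := Module.finite_of_finite F
  have hfin : s.Finite := Set.toFinite s
  set S := ∑ P ∈ hfin.toFinset, P with hSdef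
  have horth : ∀ P ∈ s, ∀ Q ∈ s, P ≠ Q → P * Q = 0 := fun P hP Q hQ hne =>
    (idem_eq_or_orth hp7 (hT P (hsT hP)).1 (hT Q (hsT hQ)).1 (hT P (hsT hP)).2 (hT Q (hsT hQ)).2
      (hc P (hsT hP) Q (hsT hQ))).resolve_left hne
  have hidem : S * S = S := by
    rw [hSdef, Finset.sum_mul]
    refine Finset.sum_congr rfl fun P hP => ?_
    rw [Finset.mul_sum, Finset.sum_eq_single P (fun Q hQ hne => horth P (by simpa using hP) Q (by simpa using hQ) hne.symm)
      (fun hn => absurd hP hn)]
    exact (hT P (hsT (by simpa using hP))).1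
  have htr : LinearMap.trace F _ S = ((4 : ℕ) : F) := by
    rw [hSdef, map_sum, Finset.sum_congr rfl fun P hP => (hT P (hsT (by simpa using hP))).2, Finset.sum_const,
      ← Set.ncard_eq_toFinset_card _ hfin, hs, nsmul_eq_mul, mul_one]
  have h4 := finrank_range_of_trace hp7 hidem le_rfl htr
  have : Module.finrank F (LinearMap.range S) ≤ 3 := (Submodule.finrank_le _).trans (by simp)
  omega

theorem diag_mem_comm (g : GL (Fin 3) F) {P : M3} (hP : P * (g : M3) = (g : M3) * Matrix.diagonal ![1, 0, 0])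
    {c : GL (Fin 3) F} (hc : (c : M3) * P = P * (c : M3)) : c ∈ r.comm g := by
  refine Root.mem_comm.2 (Units.ext ?_)
  have hu : ((g * r.u * g⁻¹ : GL (Fin 3) F) : M3) = (2 : F) • P - 1 := by
    have e : (r.u : M3) = (2 : F) • Matrix.diagonal ![1, 0, 0] - 1 := by
      ext i j; fin_cases i <;> fin_cases j <;> simp [Root.u] <;> ring
    rw [Units.val_mul, Units.val_mul, e, mul_sub, sub_mul, mul_smul_comm, smul_mul_assoc, ← hP, mul_assoc,
      Units.mul_inv, mul_one, mul_one, Units.mul_inv]
  rw [Units.val_mul c, Units.val_mul (g * r.u * g⁻¹), hu, mul_sub, sub_mul, mul_smul_comm, smul_mul_assoc, hc, mul_one, one_mul]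

/-- A frame for an idempotent of trace one. -/
theorem exists_idem_frame [CharP F p] (hp7 : 7 ≤ p) {P : M3} (hP : P * P = P) (ht : P.trace = 1) :
    ∃ g : GL (Fin 3) F, P * (g : M3) = (g : M3) * Matrix.diagonal ![1, 0, 0] := by
  set f : Module.End F (Fin 3 → F) := Matrix.toLinAlgEquiv' P with hf
  have hidem : f * f = f := by rw [hf, ← map_mul, hP]
  have h1 : Module.finrank F (LinearMap.range f) = 1 := finrank_range_of_trace hp7 hidem (n := 1) (by norm_num) (by
    rw [Nat.cast_one, ← ht]
    exact Matrix.trace_toLin_eq P (Pi.basisFun F (Fin 3)))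
  have h2 : Module.finrank F (LinearMap.ker f) = 2 := by
    have := LinearMap.finrank_range_add_finrank_ker f
    rw [h1, Module.finrank_fin_fun] at this
    omega
  let bk := Module.finBasisOfFinrankEq F _ h2
  obtain ⟨v, hv, hv0⟩ := Submodule.exists_mem_ne_zero_of_ne_bot
    (show LinearMap.range f ≠ ⊥ from fun e => by rw [e, finrank_bot] at h1; exact zero_ne_one h1)
  have hfix : f v = v := by obtain ⟨w, rfl⟩ := hv; exact LinearMap.congr_fun hidem w
  have hk : ∀ i, f (bk i) = 0 := fun i => (bk i).2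
  have hind : LinearIndependent F ![v, (bk 0 : Fin 3 → F), (bk 1 : Fin 3 → F)] := by
    rw [Fintype.linearIndependent_iff]
    intro s hs
    simp only [Fin.sum_univ_three, Matrix.cons_val_zero, Matrix.cons_val_one, Matrix.cons_val] at hs
    have e0 := congrArg f hs
    simp only [map_add, map_smul, hfix, hk, smul_zero, add_zero, map_zero, smul_eq_zero, hv0, or_false] at e0
    rw [e0, zero_smul, zero_add, ← Submodule.coe_smul, ← Submodule.coe_smul, ← Submodule.coe_add,
      Submodule.coe_eq_zero] at hs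
    have hb := Fintype.linearIndependent_iff.1 bk.linearIndependent ![s 1, s 2] (by simpa [Fin.sum_univ_two] using hs)
    intro i
    fin_cases i
    · exact e0
    · exact hb 0
    · exact hb 1
  obtain ⟨g, hg⟩ := Dim3Max.exists_gl_cols _ hind
  refine ⟨g, ?_⟩
  have key : ∀ j, P *ᵥ ((g : M3) *ᵥ Pi.single j 1) =
      ![(1 : F), 0, 0] j • ((g : M3) *ᵥ Pi.single j 1) := by
    intro j
    rw [hg, show P *ᵥ _ = f _ from (Matrix.toLinAlgEquiv'_apply P _).symm]
    fin_cases j <;> simp [hfix, hk]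
  ext i j
  have := congrFun (key j) i
  rw [Matrix.mulVec_mulVec] at this
  simpa [Matrix.mulVec_single_one, mul_comm] using this

theorem perm_three_facts : ∀ σ : Equiv.Perm (Fin 3), Equiv.Perm.sign σ = -1 → σ * σ = 1 ∧ σ ≠ 1 ∧ ∃ k, σ k = k := by
  decide

set_option synthInstance.maxSize 4096 in
theorem perm_three_unique : ∀ (σ τ : Equiv.Perm (Fin 3)) (k : Fin 3), Equiv.Perm.sign σ = -1 →
    Equiv.Perm.sign τ = -1 → σ k = k → τ k = k → σ = τ := by
  decide

section Local

variable {l : ℕ} {w : M}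

/-- Elements moving the centraliser into itself normalise it. -/
theorem mem_normalizer_centralizer {g : M}
    (hg : ∀ a, a * w = w * a → (g * a * g⁻¹) * w = w * (g * a * g⁻¹)) :
    g ∈ Subgroup.normalizer ((Subgroup.centralizer ({w} : Set M) : Subgroup M) : Set M) := by
  set A := Subgroup.centralizer ({w} : Set M)
  have hle : A.map (MulAut.conj g).toMonoidHom ≤ A := by
    rintro _ ⟨a, ha, rfl⟩
    exact Subgroup.mem_centralizer_singleton_iff.2 (hg a (Subgroup.mem_centralizer_singleton_iff.1 ha))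
  have he := Subgroup.eq_of_le_of_card_ge hle
    (le_of_eq (Subgroup.card_map_of_injective (MulAut.conj g).injective).symm)
  refine Subgroup.mem_normalizer_iff.2 fun v => ⟨fun hv => he ▸ ⟨v, hv, rfl⟩, fun hv => ?_⟩
  replace hv : g * v * g⁻¹ ∈ A := hv
  rw [← he] at hv
  obtain ⟨v', hv', hvv⟩ := hv
  exact (MulAut.conj g).injective hvv ▸ hv'

/-- The centraliser has odd order. -/
theorem odd_centralizer (hw : orderOf w = l)
    (hinv : ∀ y v : M, orderOf y = l → orderOf v = 2 → v * y ≠ y * v) :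
    Odd (Nat.card (Subgroup.centralizer ({w} : Set M))) := by
  rw [Nat.odd_iff]
  by_contra hne
  haveI := Fact.mk Nat.prime_two
  obtain ⟨v, hv⟩ := exists_prime_orderOf_dvd_card' 2
    (show 2 ∣ Nat.card (Subgroup.centralizer ({w} : Set M)) by omega)
  exact hinv w v hw (by rw [Subgroup.orderOf_coe]; exact hv) (Subgroup.mem_centralizer_singleton_iff.1 v.2)

variable {K : Type*} [Field K] {d : Fin 3 → K}

/-- Three eigenvalues: the centraliser is diagonal, and a transposition of the eigenvalues fixes the value one. -/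
theorem distinct_case (hl : l.Prime) (hl5 : 5 ≤ l) (hw : orderOf w = l)
    (hinv : ∀ y v : M, orderOf y = l → orderOf v = 2 → v * y ≠ y * v)
    (θ : M →* Matrix (Fin 3) (Fin 3) K) (hθinj : Function.Injective θ) (hθw : θ w = Matrix.diagonal d)
    (hdl : ∀ i, d i ^ l = 1) (hdist : ∀ i j, i ≠ j → d i ≠ d j) :
    (∀ a b : M, a * w = w * a → b * w = w * b → a * b = b * a) ∧
      Nat.card (Subgroup.normalizer ((Subgroup.centralizer ({w} : Set M) : Subgroup M) : Set M)) ≤
        3 * Nat.card (Subgroup.centralizer ({w} : Set M)) := by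
  classical
  set A := Subgroup.centralizer ({w} : Set M) with hAdef
  have hmemc : ∀ a : M, a ∈ A ↔ a * w = w * a := fun a => Subgroup.mem_centralizer_singleton_iff
  have hodd : Odd (Nat.card A) := odd_centralizer hw hinv
  set N := Subgroup.normalizer (A : Set M)
  have hwA : w ∈ A := (hmemc w).2 rfl
  have hNmem : ∀ n ∈ N, n * w * n⁻¹ ∈ A := fun n hn => (Subgroup.mem_normalizer_iff.1 hn w).1 hwA
  have hd0 : ∀ i, d i ≠ 0 := fun i e => by
    have := hdl i
    rw [e, zero_pow hl.ne_zero] at this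
    exact zero_ne_one this
  have hdiag : ∀ c ∈ A, θ c = Matrix.diagonal fun i => θ c i i := by
    intro c hc
    ext i j
    rcases eq_or_ne i j with rfl | hij
    · simp
    · rw [Matrix.diagonal_apply_ne _ hij]
      have e := congrArg θ ((hmemc c).1 hc)
      rw [map_mul, map_mul, hθw] at e
      have e' := congrFun (congrFun e i) j
      rw [Matrix.mul_diagonal, Matrix.diagonal_mul] at e'
      have e2 : (d j - d i) * θ c i j = 0 := by linear_combination e'
      exact (mul_eq_zero.1 e2).resolve_left (sub_ne_zero.2 (hdist i j hij).symm)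
  have hab : ∀ a b : M, a * w = w * a → b * w = w * b → a * b = b * a := fun a b ha hb => hθinj (by
    rw [map_mul, map_mul, hdiag a ((hmemc a).2 ha), hdiag b ((hmemc b).2 hb), Matrix.diagonal_mul_diagonal,
      Matrix.diagonal_mul_diagonal]
    congr 1
    funext i
    exact mul_comm _ _)
  refine ⟨hab, ?_⟩
  have hcol : ∀ n ∈ N, ∀ j, ∃ i, θ n i j ≠ 0 ∧ (∀ k, θ n k j ≠ 0 → k = i) := by
    intro n hn j
    have hy := hNmem n⁻¹ (inv_mem hn)
    have e : θ w * θ n = θ n * θ (n⁻¹ * w * n⁻¹⁻¹) := by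
      rw [← map_mul, ← map_mul]; congr 1; group
    rw [hθw, hdiag _ hy] at e
    obtain ⟨i, hi⟩ : ∃ i, θ n i j ≠ 0 := by
      by_contra hcon
      push Not at hcon
      have h1 : θ n⁻¹ * θ n = 1 := by rw [← map_mul, inv_mul_cancel, map_one]
      have := congrFun (congrFun h1 j) j
      simp [Matrix.mul_apply, hcon] at this
    refine ⟨i, hi, fun k hk => by_contra fun hki => hdist k i hki ?_⟩
    have e1 := congrFun (congrFun e i) j
    have e2 := congrFun (congrFun e k) j
    rw [Matrix.diagonal_mul, Matrix.mul_diagonal, mul_comm] at e1 e2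
    exact (mul_left_cancel₀ hk e2).trans (mul_left_cancel₀ hi e1).symm
  choose π hπ hπu using hcol
  have hπmul : ∀ n (hn : n ∈ N) m (hm : m ∈ N) j, π (n * m) (mul_mem hn hm) j = π n hn (π m hm j) := by
    intro n hn m hm j
    refine (hπu _ _ j _ ?_).symm
    rw [map_mul, Matrix.mul_apply, Finset.sum_eq_single (π m hm j)]
    · exact mul_ne_zero (hπ n hn _) (hπ m hm j)
    · intro k _ hk
      rw [show θ m k j = 0 from by_contra fun e => hk (hπu m hm j k e), mul_zero]
    · simp
  have hπone : ∀ j, π 1 (one_mem N) j = j := fun j => (hπu 1 (one_mem N) j j (by simp)).symm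
  let Φ : N →* Equiv.Perm (Fin 3) :=
    MonoidHom.toHomPerm
      { toFun := fun n => π n n.2
        map_one' := funext hπone
        map_mul' := fun n m => funext (hπmul n n.2 m m.2) }
  have hΦ : ∀ (n : N) j, Φ n j = π n n.2 j := fun n j => rfl
  have hker : ∀ n : N, Φ n = 1 → (n : M) ∈ A := by
    intro n hn
    refine (hmemc _).2 (hθinj ?_)
    rw [map_mul, map_mul, hθw]
    ext i j
    rw [Matrix.mul_diagonal, Matrix.diagonal_mul]
    rcases eq_or_ne i j with rfl | hij
    · ring
    · rw [show θ n i j = 0 from by_contra fun e => hij (by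
        rw [hπu n n.2 j i e, ← hΦ, hn]; rfl), zero_mul, mul_zero]
  have htr : ∀ n : N, Equiv.Perm.sign (Φ n) = -1 → ∃ k, Φ n k = k ∧ d k = 1 := by
    intro n hn
    obtain ⟨hsq, hne, k, hk⟩ := perm_three_facts _ hn
    refine ⟨k, hk, ?_⟩
    have hn2 : ((n * n : N) : M) ∈ A := hker _ (by rw [map_mul, hsq])
    have hordodd : Odd (orderOf (n * n)) := by
      refine hodd.of_dvd_nat ?_
      rw [← Subgroup.orderOf_coe, ← Subgroup.orderOf_mk _ hn2]
      exact orderOf_dvd_natCard _
    have heven : 2 ∣ orderOf n := by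
      have h1 : Φ n ^ orderOf n = 1 := by rw [← map_pow, pow_orderOf_eq_one, map_one]
      rw [← orderOf_eq_prime (p := 2) (by rw [pow_two]; exact hsq) hne]
      exact orderOf_dvd_of_pow_eq_one h1
    obtain ⟨m, hm⟩ := heven
    have hm' : orderOf (n * n) = m := by
      rw [← pow_two, orderOf_pow' n two_ne_zero, hm, Nat.gcd_eq_right (Dvd.intro _ rfl),
        Nat.mul_div_cancel_left _ two_pos]
    rw [hm'] at hordodd
    obtain ⟨v, hv⟩ : ∃ v, v = n ^ m := ⟨_, rfl⟩
    have hv2 : orderOf v = 2 := by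
      rw [hv, orderOf_pow_of_dvd hordodd.pos.ne' (hm ▸ Dvd.intro_left _ rfl), hm,
        Nat.mul_div_cancel _ hordodd.pos]
    have hΦv : Φ v = Φ n := by
      obtain ⟨m', hm''⟩ := hordodd
      rw [hv, map_pow, hm'', pow_succ, pow_mul, pow_two, hsq, one_pow, one_mul]
    obtain ⟨u, hu⟩ : ∃ u, u = (v : M) := ⟨_, rfl⟩
    have hu2 : orderOf u = 2 := by rw [hu, Subgroup.orderOf_coe, hv2]
    have huu : u * u = 1 := by rw [← pow_two, ← hu2, pow_orderOf_eq_one]
    have hui : u⁻¹ = u := inv_eq_of_mul_eq_one_right huu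
    have huwA : u * w * u ∈ A := by
      have := hNmem u (hu ▸ v.2)
      rwa [hui] at this
    have hwy := hab _ _ ((hmemc _).1 hwA) ((hmemc _).1 huwA)
    obtain ⟨y, hy⟩ : ∃ y, y = w * (u * w * u) := ⟨_, rfl⟩
    have hcy : u * y = y * u := by
      calc u * y = (u * w * u * w) * u := by rw [hy]; simp only [mul_assoc]
        _ = y * u := by rw [← hwy, hy]
    have hyl : y ^ l = 1 := by
      have e : (u * w * u) ^ l = 1 := by
        conv_lhs => rw [show u * w * u = u * w * u⁻¹ by rw [hui]]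
        rw [conj_pow, ← hw, pow_orderOf_eq_one, mul_one, mul_inv_cancel]
      rw [hy, (show Commute w (u * w * u) from hwy).mul_pow, e, ← hw, pow_orderOf_eq_one, one_mul]
    have hy1 : y = 1 := by
      by_contra hne'
      haveI := Fact.mk hl
      exact hinv y u (orderOf_eq_prime hyl hne') hu2 hcy
    have hwinv : θ u * θ w = θ w⁻¹ * θ u := by
      rw [← map_mul, ← map_mul]
      congr 1
      calc u * w = (u * w * u) * u := by rw [mul_assoc _ u u, huu, mul_one]
        _ = w⁻¹ * u := by rw [eq_inv_of_mul_eq_one_right (hy.symm.trans hy1)]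
    have hwi : θ w⁻¹ = Matrix.diagonal fun i => (d i)⁻¹ := by
      refine left_inv_eq_right_inv (a := θ w) (by rw [← map_mul, inv_mul_cancel, map_one]) ?_
      rw [hθw, Matrix.diagonal_mul_diagonal, ← Matrix.diagonal_one]
      congr 1
      funext i
      exact mul_inv_cancel₀ (hd0 i)
    rw [hθw, hwi] at hwinv
    have e := congrFun (congrFun hwinv k) k
    rw [Matrix.mul_diagonal, Matrix.diagonal_mul] at e
    have hkk : θ u k k ≠ 0 := by
      have := hπ v v.2 k
      rw [← hΦ, hΦv, hk] at this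
      rwa [hu]
    have hdk : d k = (d k)⁻¹ := mul_left_cancel₀ hkk (by linear_combination e)
    have h2 : d k ^ 2 = 1 := by
      rw [pow_two]
      nth_rw 2 [hdk]
      exact mul_inv_cancel₀ (hd0 k)
    exact orderOf_eq_one_iff.1 (Nat.eq_one_of_dvd_coprimes
      ((Nat.coprime_primes Nat.prime_two hl).2 (by omega)) (orderOf_dvd_of_pow_eq_one h2)
      (orderOf_dvd_of_pow_eq_one (hdl k)))
  have hH : Nat.card Φ.range ≤ 3 := by
    refine perm_three_card _ ?_
    rintro _ ⟨n, rfl⟩ _ ⟨m, rfl⟩ hn hm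
    obtain ⟨k, hk, hk1⟩ := htr n hn
    obtain ⟨k', hk', hk1'⟩ := htr m hm
    have : k = k' := by_contra fun e => hdist k k' e (hk1.trans hk1'.symm)
    subst this
    exact perm_three_unique _ _ k hn hm hk hk'
  have hkc : Nat.card Φ.ker ≤ Nat.card A :=
    Nat.card_le_card_of_injective (fun n => (⟨n.1, hker n.1 n.2⟩ : A)) fun a b e =>
      Subtype.ext (Subtype.ext (congrArg (fun z : A => (z : M)) e))
  have h1 := Subgroup.card_mul_index Φ.ker
  rw [Subgroup.index_ker] at h1
  calc Nat.card N = Nat.card Φ.range * Nat.card Φ.ker := by rw [mul_comm]; exact h1.symm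
    _ ≤ 3 * Nat.card A := Nat.mul_le_mul hH hkc

/-- A homology: the centraliser lies in that of a reflection. -/
theorem homology_case (h : Six r p M) (hw : orderOf w = l)
    (hinv : ∀ y v : M, orderOf y = l → orderOf v = 2 → v * y ≠ y * v)
    (e₀ : F →+* K) (θ : M3 →+* Matrix (Fin 3) (Fin 3) K) (hθinj : Function.Injective θ)
    (hθs : ∀ (c : F) (v : M3), θ (c • v) = e₀ c • θ v) (hθt : ∀ v, (θ v).trace = e₀ v.trace)
    (hθw : θ ((w : GL (Fin 3) F) : M3) = Matrix.diagonal d) (hdet : d 0 * d 1 * d 2 = 1)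
    {i j : Fin 3} (hij : i ≠ j) (hdij : d i = d j) (hnots : ¬ ∀ a b, d a = d b) :
    (∀ a b : M, a * w = w * a → b * w = w * b → a * b = b * a) ∧
      Nat.card (Subgroup.normalizer ((Subgroup.centralizer ({w} : Set M) : Subgroup M) : Set M)) ≤
        3 * Nat.card (Subgroup.centralizer ({w} : Set M)) := by
  classical
  haveI := h.charP
  set A := Subgroup.centralizer ({w} : Set M) with hAdef
  have hmemc : ∀ a : M, a ∈ A ↔ a * w = w * a := fun a => Subgroup.mem_centralizer_singleton_iff
  have hodd : Odd (Nat.card A) := odd_centralizer hw hinv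
  set N := Subgroup.normalizer (A : Set M)
  have hwA : w ∈ A := (hmemc w).2 rfl
  have hNmem : ∀ n ∈ N, n * w * n⁻¹ ∈ A := fun n hn => (Subgroup.mem_normalizer_iff.1 hn w).1 hwA
  obtain ⟨k, hik, hjk, huniv⟩ : ∃ k, i ≠ k ∧ j ≠ k ∧ (Finset.univ : Finset (Fin 3)) = {i, j, k} := by
    revert hij; clear hdij; revert i j; decide
  have hall : ∀ m, m = i ∨ m = j ∨ m = k := fun m => by
    have := Finset.mem_univ m
    simpa [huniv] using this
  obtain ⟨β, hβ⟩ : ∃ β, d i = β := ⟨_, rfl⟩
  obtain ⟨α, hα⟩ : ∃ α, d k = α := ⟨_, rfl⟩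
  rw [hβ] at hdij
  have hne : α ≠ β := fun e => hnots fun m m' => by
    rcases hall m with rfl | rfl | rfl <;> rcases hall m' with rfl | rfl | rfl <;> simp [hβ, ← hdij, hα, e]
  have hsum : ∀ f : Fin 3 → K, ∑ m, f m = f i + f j + f k := fun f => by
    rw [huniv, Finset.sum_insert (by simp [hij, hik]), Finset.sum_insert (by simp [hjk]), Finset.sum_singleton,
      add_assoc]
  have hprod : ∀ f : Fin 3 → K, ∏ m, f m = f i * f j * f k := fun f => by
    rw [huniv, Finset.prod_insert (by simp [hij, hik]), Finset.prod_insert (by simp [hjk]), Finset.prod_singleton,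
      mul_assoc]
  obtain ⟨mw, hmw⟩ : ∃ mw, mw = ((w : GL (Fin 3) F) : M3) := ⟨_, rfl⟩
  rw [← hmw] at hθw
  have ht1 : e₀ mw.trace = α + 2 * β := by
    rw [← hθt, hθw, Matrix.trace_diagonal, hsum, hβ, ← hdij, hα]; ring
  have ht2 : e₀ (mw * mw).trace = α ^ 2 + 2 * β ^ 2 := by
    rw [← hθt, map_mul, hθw, Matrix.diagonal_mul_diagonal, Matrix.trace_diagonal, hsum, hβ, ← hdij, hα]; ring
  have he3 : α * β ^ 2 = 1 := by
    have := hprod d
    rw [Fin.prod_univ_three, hdet, hβ, ← hdij, hα] at this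
    linear_combination -this
  obtain ⟨t₁, ht₁⟩ : ∃ t, t = mw.trace := ⟨_, rfl⟩
  rw [← ht₁] at ht1
  obtain ⟨e₂, he₂⟩ : ∃ t, t = (t₁ * t₁ - (mw * mw).trace) / 2 := ⟨_, rfl⟩
  have h2K : (2 : K) ≠ 0 := by rw [← map_ofNat e₀ 2, Ne, map_eq_zero]; exact r.h2
  have hK2 : e₀ e₂ = 2 * α * β + β ^ 2 := by
    rw [he₂, map_div₀, map_sub, map_mul, ht1, ht2, map_ofNat, div_eq_iff h2K]
    ring
  obtain ⟨b, hb⟩ : ∃ b : F, e₀ b = β := by
    refine ⟨(t₁ * e₂ - 9) / (2 * (t₁ * t₁ - 3 * e₂)), ?_⟩
    rw [map_div₀, map_mul, map_sub, map_sub, map_mul, map_mul, map_mul, ht1, hK2, map_ofNat, map_ofNat,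
      map_ofNat, div_eq_iff]
    · linear_combination 9 * he3
    · refine mul_ne_zero h2K ?_
      rw [show (α + 2 * β) * (α + 2 * β) - 3 * (2 * α * β + β ^ 2) = (α - β) ^ 2 by ring]
      exact pow_ne_zero 2 (sub_ne_zero.2 hne)
  obtain ⟨a, ha⟩ : ∃ a : F, e₀ a = α :=
    ⟨t₁ - 2 * b, by rw [map_sub, map_mul, map_ofNat, hb, ht1]; ring⟩
  have hab0 : a - b ≠ 0 := sub_ne_zero.2 fun e => hne (by rw [← ha, ← hb, e])
  let P : M → M3 := fun c => (a - b)⁻¹ • (((c : GL (Fin 3) F) : M3) - b • 1)
  have hθP : θ (P w) = Matrix.diagonal fun m => if m = k then 1 else 0 := by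
    rw [show P w = (a - b)⁻¹ • (mw - b • 1) by rw [hmw], hθs, map_sub, hθs, map_one, hθw, map_inv₀, map_sub, ha, hb]
    ext x y
    rcases eq_or_ne x y with rfl | hxy
    · rcases hall x with rfl | rfl | rfl <;> simp [hik, hjk, hβ, ← hdij, hα, sub_ne_zero.2 hne]
    · simp [hxy]
  have hPw : P w * P w = P w := hθinj (by
    rw [map_mul, hθP, Matrix.diagonal_mul_diagonal]
    congr 1
    funext m
    split <;> simp)
  have htP : (P w).trace = 1 := e₀.injective (by
    rw [← hθt, hθP, Matrix.trace_diagonal, hsum, map_one]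
    simp [hik, hjk])
  obtain ⟨g₀, hg₀⟩ := exists_idem_frame h.seven_le hPw htP
  have hcomm : ∀ c ∈ A, (c : GL (Fin 3) F) ∈ r.comm g₀ := by
    intro c hc
    refine diag_mem_comm g₀ hg₀ ?_
    have e : ((c : GL (Fin 3) F) : M3) * ((w : GL (Fin 3) F) : M3) =
        ((w : GL (Fin 3) F) : M3) * ((c : GL (Fin 3) F) : M3) :=
      congrArg (fun z : M => ((z : GL (Fin 3) F) : M3)) ((hmemc c).1 hc)
    simp only [P, mul_smul_comm, smul_mul_assoc, mul_sub, sub_mul, e, mul_one, one_mul]
  have hA := h.comm_abelian g₀ A hodd hcomm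
  refine ⟨fun u v hu hv => hA u ((hmemc u).2 hu) v ((hmemc v).2 hv), ?_⟩
  let T : Set M := {y | ∃ n ∈ N, n * w * n⁻¹ = y}
  refine card_le_of_conjugates N (T := T) ?_ fun n hn => ⟨n, hn, rfl⟩
  let Q : M → Module.End F (Fin 3 → F) := fun y => Matrix.toLinAlgEquiv' (P y)
  have hQinj : Function.Injective Q := fun u v e => by
    have e' := smul_right_injective M3 (inv_ne_zero hab0) (Matrix.toLinAlgEquiv'.injective e)
    exact Subtype.ext (Units.ext (sub_left_injective e'))
  rw [Nat.card_coe_set_eq, ← Set.ncard_image_of_injective T hQinj]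
  have hconj : ∀ n : M, P (n * w * n⁻¹) = ((n : GL (Fin 3) F) : M3) * P w * (((n : GL (Fin 3) F)⁻¹ :
      GL (Fin 3) F) : M3) := by
    intro n
    simp only [P, Subgroup.coe_mul, Subgroup.coe_inv, Units.val_mul, mul_smul_comm, smul_mul_assoc, mul_sub,
      sub_mul, mul_one, Units.mul_inv]
  refine idem_card_le h.seven_le ?_ ?_
  · rintro _ ⟨y, ⟨n, hn, rfl⟩, rfl⟩
    refine ⟨?_, ?_⟩
    · show Matrix.toLinAlgEquiv' _ * Matrix.toLinAlgEquiv' _ = Matrix.toLinAlgEquiv' _
      rw [← map_mul, hconj]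
      congr 1
      simp only [mul_assoc, Units.inv_mul_cancel_left]
      rw [← mul_assoc (P w) (P w), hPw]
    · show LinearMap.trace F _ (Matrix.toLinAlgEquiv' _) = 1
      refine (Matrix.trace_toLin_eq _ (Pi.basisFun F (Fin 3))).trans ?_
      rw [hconj, Matrix.trace_units_conj, htP]
  · rintro _ ⟨y, ⟨n, hn, rfl⟩, rfl⟩ _ ⟨z, ⟨m, hm, rfl⟩, rfl⟩
    have e : ∀ u v : M, u * v = v * u → ((u : GL (Fin 3) F) : M3) * ((v : GL (Fin 3) F) : M3) =
        ((v : GL (Fin 3) F) : M3) * ((u : GL (Fin 3) F) : M3) := fun u v huv =>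
      congrArg (fun z : M => ((z : GL (Fin 3) F) : M3)) huv
    have e' := e _ _ (hA _ (hNmem n hn) _ (hNmem m hm))
    show Matrix.toLinAlgEquiv' _ * Matrix.toLinAlgEquiv' _ = Matrix.toLinAlgEquiv' _ * Matrix.toLinAlgEquiv' _
    rw [← map_mul, ← map_mul]
    congr 1
    simp only [P]
    simp only [smul_mul_assoc, mul_smul_comm, mul_sub, sub_mul, mul_one, one_mul, smul_sub]
    rw [e']
    module

end Local

/-- Interface: many elements of order divisible by `l`. -/
theorem ssStmt : SsStmt F := by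
  classical
  intro r p M h l hl hl5 hlp hdvd hinv
  haveI := Fact.mk hl
  haveI := h.charP
  obtain ⟨x, hx⟩ := exists_prime_orderOf_dvd_card' l hdvd
  -- centralisers of elements of order `l` are abelian, with the bound on the normaliser
  have main : ∀ w : M, orderOf w = l → (∀ a b : M, a * w = w * a → b * w = w * b → a * b = b * a) ∧
      Nat.card (Subgroup.normalizer ((Subgroup.centralizer ({w} : Set M) : Subgroup M) : Set M)) ≤
        3 * Nat.card (Subgroup.centralizer ({w} : Set M)) := by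
    intro w hw
    let K := AlgebraicClosure F
    let ι : M3 →+* Matrix (Fin 3) (Fin 3) K := (algebraMap F K).mapMatrix
    have hιinj : Function.Injective ι := Matrix.map_injective (algebraMap F K).injective
    have hlK : (l : K) ≠ 0 := by
      rw [← map_natCast (algebraMap F K), Ne, map_eq_zero]
      intro e
      exact hlp ((Nat.prime_dvd_prime_iff_eq h.prime hl).1 ((CharP.cast_eq_zero_iff F p l).1 e)).symm
    obtain ⟨mw, hmw⟩ : ∃ mw, mw = ((w : GL (Fin 3) F) : M3) := ⟨_, rfl⟩
    have hwl : mw ^ l = 1 := by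
      rw [hmw, ← Units.val_pow_eq_pow_val, ← SubgroupClass.coe_pow, ← hw, pow_orderOf_eq_one]
      rfl
    obtain ⟨g, d, hgd⟩ := exists_diagonalise hlK (x := ι mw) (by rw [← map_pow, hwl, map_one])
    let θ : M3 →+* Matrix (Fin 3) (Fin 3) K :=
      { toFun := fun v => ((g⁻¹ : GL (Fin 3) K) : Matrix (Fin 3) (Fin 3) K) * ι v * g
        map_one' := by simp
        map_mul' := fun a b => by simp only [map_mul, mul_assoc, Units.mul_inv_cancel_left]
        map_zero' := by simp
        map_add' := fun a b => by simp only [map_add, mul_add, add_mul] }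
    have hθinj : Function.Injective θ := fun a b e => by
      have e' : ((g⁻¹ : GL (Fin 3) K) : Matrix (Fin 3) (Fin 3) K) * ι a * g =
          ((g⁻¹ : GL (Fin 3) K) : Matrix (Fin 3) (Fin 3) K) * ι b * g := e
      exact hιinj ((Units.mul_right_inj g⁻¹).1 ((Units.mul_left_inj g).1 e'))
    have hθs : ∀ (c : F) (v : M3), θ (c • v) = algebraMap F K c • θ v := fun c v => by
      have e : ι (c • v) = algebraMap F K c • ι v := by
        ext i j; simp [ι]
      show _ * ι (c • v) * _ = _ • (_ * ι v * _)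
      rw [e, mul_smul_comm, smul_mul_assoc]
    have hθt : ∀ v, (θ v).trace = algebraMap F K v.trace := fun v => by
      show (_ * ι v * _).trace = _
      rw [Matrix.trace_units_conj']
      simp [ι, Matrix.trace, map_sum]
    have hθw : θ mw = Matrix.diagonal d := by
      show _ * ι mw * _ = _
      rw [mul_assoc, hgd, Units.inv_mul_cancel_left]
    have hdl : ∀ i, d i ^ l = 1 := fun i => by
      have e : Matrix.diagonal d ^ l = 1 := by rw [← hθw, ← map_pow, hwl, map_one]
      rw [Matrix.diagonal_pow] at e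
      simpa using congrFun (congrFun e i) i
    have hdet : d 0 * d 1 * d 2 = 1 := by
      have h1 : mw.det = 1 := by rw [hmw]; exact congrArg Units.val (h.le w.2)
      have e : (θ mw).det = algebraMap F K mw.det := by
        show (_ * ι mw * _).det = _
        rw [Matrix.det_units_conj', RingHom.map_det]
      rw [hθw, h1, map_one, Matrix.det_diagonal, Fin.prod_univ_three] at e
      exact e
    by_cases hdist : ∀ i j, i ≠ j → d i ≠ d j
    · exact distinct_case hl hl5 hw hinv
        ((θ : M3 →* Matrix (Fin 3) (Fin 3) K).comp ((Units.coeHom M3).comp M.subtype))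
        (fun a b e => Subtype.ext (Units.ext (hθinj e))) (by rw [← hθw, hmw]; rfl) hdl hdist
    · push Not at hdist
      obtain ⟨i, j, hij, hdij⟩ := hdist
      refine homology_case h hw hinv (algebraMap F K) θ hθinj hθs hθt (hmw ▸ hθw) hdet hij hdij ?_
      intro he
      have hd1 : d 0 = 1 := by
        have h3 : d 0 ^ 3 = 1 := by
          rw [← hdet, he 1 0, he 2 0]; ring
        exact orderOf_eq_one_iff.1 (Nat.eq_one_of_dvd_coprimes
          ((Nat.coprime_primes Nat.prime_three hl).2 (by omega)) (orderOf_dvd_of_pow_eq_one h3)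
          (orderOf_dvd_of_pow_eq_one (hdl 0)))
      have hone : mw = 1 := hθinj (by
        rw [hθw, map_one, ← Matrix.diagonal_one]
        congr 1
        funext m
        exact (he m 0).trans hd1)
      have : w = 1 := Subtype.ext (Units.ext (hmw ▸ hone))
      rw [this, orderOf_one] at hw
      omega
  exact many_conjugates hl hl5 hx (fun w hw => (main w hw).1) _
    (fun g hg => mem_normalizer_centralizer hg) (main x hx).2

end CfsgLib.Dim3Max.Six
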