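import Cfsg.Agent.Lib.Dim3Max.Six.CaseA
import Cfsg.Agent.Lib.Dim3Max.Six.CaseB
import Cfsg.Agent.Lib.Dim3Max.Six.Semisimple

/-!
A group without elations over the normaliser of the extraspecial group normalises it.
-/

set_option autoImplicit false
set_option linter.dupNamespace false

namespace CfsgLib.Dim3Max.Six

open scoped Matrix MatrixGroups

universe u

variable {F : Type u} [Field F] [Fintype F] {r : Root F} {p : ℕ} {M : Subgroup (GL (Fin 3) F)}

/-- The core of the sixth rows. -/
theorem Six.le_normalizer (h : Six r p M)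
    (h9 : (∃ e : Fˣ, (e : F) ^ 3 = r.w) → p % 9 = 1 ∨ p % 9 = 8) :
    M ≤ Cfsg.Geo.subgroupNormalizer r.grp := by
  by_cases he : ∃ e : Fˣ, (e : F) ^ 3 = r.w
  · exact caseB ssStmt r p M h (h9 he) he
  · refine caseA ssStmt r p M h fun e hee => he ⟨Units.mk0 e fun h0 => r.w_ne_zero ?_, hee⟩
    rw [← hee, h0, zero_pow (by norm_num)]

end CfsgLib.Dim3Max.Six
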