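import Cfsg.Agent.Lib.Dim3Max.Six.Frame

/-!
The data of a symplectic-type group of dimension three give the standard extraspecial group.
-/

set_option autoImplicit false
set_option linter.unusedSectionVars false

namespace CfsgLib.Dim3Max.Six

open scoped Matrix MatrixGroups

universe u

variable {F : Type u} [Field F]

namespace Root

variable (r : Root F)

theorem om_comm (g : GL (Fin 3) F) : r.om * g = g * r.om := scl_comm _ g

theorem y_x_pow (a b : ℕ) : r.y ^ b * r.x ^ a = r.om ^ (a * b) * (r.x ^ a * r.y ^ b) := by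
  have h1 : ∀ a : ℕ, r.y * r.x ^ a = r.om ^ a * (r.x ^ a * r.y) := fun a => by
    induction a with
    | zero => simp
    | succ a ih =>
      calc r.y * r.x ^ (a + 1) = r.y * r.x ^ a * r.x := by rw [pow_succ, mul_assoc]
        _ = r.om ^ a * r.x ^ a * (r.y * r.x) := by rw [ih]; group
        _ = r.om ^ a * r.x ^ a * (r.om * (r.x * r.y)) := by rw [r.y_x]
        _ = r.om ^ a * (r.x ^ a * r.om) * (r.x * r.y) := by group
        _ = r.om ^ a * (r.om * r.x ^ a) * (r.x * r.y) := by rw [r.om_comm]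
        _ = r.om ^ (a + 1) * (r.x ^ (a + 1) * r.y) := by group
  induction b with
  | zero => simp
  | succ b ih =>
    calc r.y ^ (b + 1) * r.x ^ a = r.y * (r.y ^ b * r.x ^ a) := by rw [pow_succ', mul_assoc]
      _ = r.y * r.om ^ (a * b) * (r.x ^ a * r.y ^ b) := by rw [ih]; group
      _ = r.om ^ (a * b) * r.y * (r.x ^ a * r.y ^ b) := by
        rw [((show Commute r.om r.y from r.om_comm _).pow_left _).eq]
      _ = r.om ^ (a * b) * (r.y * r.x ^ a) * r.y ^ b := by group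
      _ = r.om ^ (a * b) * (r.om ^ a * (r.x ^ a * r.y)) * r.y ^ b := by rw [h1]
      _ = r.om ^ (a * (b + 1)) * (r.x ^ a * r.y ^ (b + 1)) := by
        rw [mul_add_one, pow_add, pow_succ']; group

/-- The elements of the group. -/
theorem mem_grp {v : GL (Fin 3) F} (hv : v ∈ r.grp) : ∃ a b c : ℕ, v = r.om ^ c * (r.x ^ a * r.y ^ b) := by
  induction hv using Subgroup.closure_induction with
  | mem z hz =>
    rcases hz with rfl | rfl
    · exact ⟨1, 0, 0, by simp⟩
    · exact ⟨0, 1, 0, by simp⟩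
  | one => exact ⟨0, 0, 0, by simp⟩
  | mul z z' _ _ hz hz' =>
    obtain ⟨a, b, c, rfl⟩ := hz
    obtain ⟨a', b', c', rfl⟩ := hz'
    refine ⟨a + a', b + b', c + c' + a' * b, ?_⟩
    have hc : ∀ (n : ℕ) g, r.om ^ n * g = g * r.om ^ n := fun n g =>
      ((show Commute r.om g from r.om_comm g).pow_left n).eq
    calc r.om ^ c * (r.x ^ a * r.y ^ b) * (r.om ^ c' * (r.x ^ a' * r.y ^ b'))
        = r.om ^ c * (r.x ^ a * r.y ^ b * r.om ^ c') * r.x ^ a' * r.y ^ b' := by group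
      _ = r.om ^ c * (r.om ^ c' * (r.x ^ a * r.y ^ b)) * r.x ^ a' * r.y ^ b' := by rw [← hc]
      _ = r.om ^ c * r.om ^ c' * r.x ^ a * (r.y ^ b * r.x ^ a') * r.y ^ b' := by group
      _ = r.om ^ c * r.om ^ c' * r.x ^ a * (r.om ^ (a' * b) * (r.x ^ a' * r.y ^ b)) * r.y ^ b' := by
        rw [r.y_x_pow]
      _ = r.om ^ c * r.om ^ c' * (r.x ^ a * r.om ^ (a' * b)) * r.x ^ a' * r.y ^ b * r.y ^ b' := by group
      _ = r.om ^ c * r.om ^ c' * (r.om ^ (a' * b) * r.x ^ a) * r.x ^ a' * r.y ^ b * r.y ^ b' := by rw [hc _ (r.x ^ a)]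
      _ = _ := by group
  | inv z _ hz =>
    obtain ⟨a, b, c, rfl⟩ := hz
    refine ⟨2 * a, 2 * b, 2 * a * (2 * b) + 2 * c, inv_eq_of_mul_eq_one_left ?_⟩
    rw [pow_add, mul_assoc (r.om ^ _) (r.om ^ _),
      ((show Commute r.om (r.x ^ (2 * a) * r.y ^ (2 * b)) from r.om_comm _).pow_left _).eq,
      ← mul_assoc (r.om ^ _), ← r.y_x_pow]
    calc r.y ^ (2 * b) * r.x ^ (2 * a) * r.om ^ (2 * c) * (r.om ^ c * (r.x ^ a * r.y ^ b))
        = r.y ^ (2 * b) * r.x ^ (2 * a) * (r.om * r.om * r.om) ^ c * (r.x ^ a * r.y ^ b) := by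
          rw [show r.om * r.om * r.om = r.om ^ 3 from (pow_three' _).symm, ← pow_mul]; group
      _ = r.y ^ (2 * b) * (r.x * r.x * r.x) ^ a * r.y ^ b := by
          rw [r.om_cube, one_pow, mul_one, show r.x * r.x * r.x = r.x ^ 3 from (pow_three' _).symm, ← pow_mul]; group
      _ = (r.y * r.y * r.y) ^ b := by
          rw [r.x_cube, one_pow, mul_one, show r.y * r.y * r.y = r.y ^ 3 from (pow_three' _).symm, ← pow_mul]; group
      _ = 1 := by rw [r.y_cube, one_pow]

end Root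

/-- A diagonal element with cube roots of one as entries and determinant one. -/
theorem diag_cube_eq (r : Root F) {t : Fin 3 → F} (h : ∀ i, t i ^ 3 = 1) (hd : t 0 * t 1 * t 2 = 1) :
    ∃ a c : ℕ, Matrix.diagonal t = ((r.om ^ c * r.x ^ a : GL (Fin 3) F) : Matrix (Fin 3) (Fin 3) F) := by
  have hw : ∀ z : F, z ^ 3 = 1 → z = 1 ∨ z = r.w ∨ z = r.w * r.w := by
    intro z hz
    have : (z - 1) * ((z - r.w) * (z - r.w * r.w)) = 0 := by
      linear_combination hz + (-z * z + z * r.w) * r.rel + (-(1 : F) + z) * r.w_cube - z * (r.w - 1) * r.rel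
    rcases mul_eq_zero.1 this with h | h
    · exact .inl (sub_eq_zero.1 h)
    rcases mul_eq_zero.1 h with h | h
    · exact .inr (.inl (sub_eq_zero.1 h))
    · exact .inr (.inr (sub_eq_zero.1 h))
  obtain ⟨c, hc⟩ : ∃ c : ℕ, r.w ^ c = t 0 := by
    rcases hw _ (h 0) with h | h | h
    · exact ⟨0, by rw [h, pow_zero]⟩
    · exact ⟨1, by rw [h, pow_one]⟩
    · exact ⟨2, by rw [h, sq]⟩
  have hc3 : (r.w ^ c) ^ 3 = 1 := by rw [hc]; exact h 0
  obtain ⟨a, ha⟩ : ∃ a : ℕ, r.w ^ c * r.w ^ a = t 1 := by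
    rcases hw (t 1 * (r.w ^ c) ^ 2) (by rw [mul_pow, h, ← pow_mul, mul_comm 2 3, pow_mul, hc3]; simp) with h' | h' | h'
    · exact ⟨0, by rw [pow_zero, mul_one]; linear_combination -(r.w ^ c) * h' + t 1 * hc3⟩
    · exact ⟨1, by rw [pow_one]; linear_combination -(r.w ^ c) * h' + t 1 * hc3⟩
    · exact ⟨2, by rw [sq]; linear_combination -(r.w ^ c) * h' + t 1 * hc3⟩
  refine ⟨a, c, ?_⟩
  have hx : ((r.x : GL (Fin 3) F) : Matrix (Fin 3) (Fin 3) F) = Matrix.diagonal ![1, r.w, r.w * r.w] := by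
    ext i j; fin_cases i <;> fin_cases j <;> simp [Root.x]
  rw [Units.val_mul, Units.val_pow_eq_pow_val, Units.val_pow_eq_pow_val, r.om_val, smul_pow, one_pow, hx,
    Matrix.diagonal_pow, Matrix.smul_mul, Matrix.one_mul, ← Matrix.diagonal_smul]
  congr 1
  have hcube : ∀ n : ℕ, (r.w ^ n) * (r.w ^ n) * (r.w ^ n) = 1 := fun n => by
    rw [← mul_pow, ← mul_pow, r.w_cube, one_pow]
  funext i
  fin_cases i
  · simp [hc]
  · simpa [mul_comm] using ha.symm
  simp [mul_pow]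
  have h2 : t 2 = (t 0 * t 0) * (t 1 * t 1) := by
    linear_combination (t 0 * t 0 * t 1 * t 1) * hd - t 2 * (t 1 ^ 3) * h 0 - t 2 * h 1
  rw [h2, ← hc, ← ha]
  linear_combination (r.w ^ a * r.w ^ a * r.w ^ c) * hcube c

/-- Reduction to the standard group. -/
theorem exists_frame_of [Fintype F] {R : Subgroup (GL (Fin 3) F)} (h2 : (2 : F) ≠ 0) (h3 : (3 : F) ≠ 0)
    (hS : Cfsg.Geo.IsSymplecticTypeGroup 3 R) (hirr : Cfsg.Geo.ActsAbsolutelyIrreducibly (Cfsg.Geo.matrixSet R))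
    (hZ3 : Nat.card (Subgroup.center R) = 3) {m : ℕ} (hm : 1 ≤ m) (hRcard : Nat.card R = 3 ^ (1 + 2 * m)) :
    ∃ (r : Root F) (g : GL (Fin 3) F), R.map (MulAut.conj g).toMonoidHom = r.grp := by
  classical
  haveI : Finite (GL (Fin 3) F) := Finite.of_injective (fun g => (g : Matrix (Fin 3) (Fin 3) F)) Units.val_injective
  have hexp : ∀ t : R, t * t * t = 1 := fun t => by
    have := Monoid.pow_exponent_eq_one t
    rw [hS.exponent_eq, show Nat.gcd 2 3 = 1 by rfl, mul_one] at this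
    rwa [← pow_three'] at *
  have hscal : ∀ z : R, z ∈ Subgroup.center R → ∃ c : F, c * c * c = 1 ∧
      ((z : GL (Fin 3) F) : Matrix (Fin 3) (Fin 3) F) = c • (1 : Matrix (Fin 3) (Fin 3) F) := fun z hz => by
    obtain ⟨c, hc⟩ := hirr.2 ((z : GL (Fin 3) F) : Matrix (Fin 3) (Fin 3) F) (by
      rintro _ ⟨g, hg, rfl⟩
      have := congrArg (fun t : R => ((t : GL (Fin 3) F) : Matrix (Fin 3) (Fin 3) F))
        (Subgroup.mem_center_iff.1 hz ⟨g, hg⟩)
      simpa using this.symm)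
    refine ⟨c, ?_, hc⟩
    have h1 := congrArg (fun t : R => ((t : GL (Fin 3) F) : Matrix (Fin 3) (Fin 3) F) 0 0) (hexp z)
    simp [hc] at h1
    linear_combination h1
  -- an element central modulo the centre and a partner
  haveI : Fact (Nat.Prime 3) := ⟨Nat.prime_three⟩
  have hne : Subgroup.center R ≠ ⊤ := fun h => by
    rw [h, Subgroup.card_top, hRcard] at hZ3
    have := Nat.pow_le_pow_right (by norm_num : 1 ≤ 3) (by omega : 3 ≤ 1 + 2 * m)
    omega
  haveI : Nontrivial (R ⧸ Subgroup.center R) := QuotientGroup.nontrivial_iff.mpr hne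
  haveI : Nontrivial (Subgroup.center (R ⧸ Subgroup.center R)) :=
    (hS.pGroup.to_quotient _).center_nontrivial
  obtain ⟨⟨xb, hxb⟩, hxb1⟩ := exists_ne (1 : Subgroup.center (R ⧸ Subgroup.center R))
  obtain ⟨x, rfl⟩ := QuotientGroup.mk_surjective xb
  have hxz : x ∉ Subgroup.center R := fun h => hxb1 (Subtype.ext ((QuotientGroup.eq_one_iff x).2 h))
  have hcomm : ∀ t : R, ∃ c : F, c * c * c = 1 ∧
      ((t : GL (Fin 3) F) : Matrix (Fin 3) (Fin 3) F) * ((x : GL (Fin 3) F) : Matrix (Fin 3) (Fin 3) F) =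
        c • (((x : GL (Fin 3) F) : Matrix (Fin 3) (Fin 3) F) * ((t : GL (Fin 3) F) : Matrix (Fin 3) (Fin 3) F)) := by
    intro t
    have h : t * x * (x * t)⁻¹ ∈ Subgroup.center R := by
      rw [← QuotientGroup.eq_one_iff, QuotientGroup.mk_mul, QuotientGroup.mk_inv, QuotientGroup.mk_mul,
        QuotientGroup.mk_mul, Subgroup.mem_center_iff.1 hxb (t : R ⧸ Subgroup.center R), mul_inv_cancel]
    obtain ⟨c, hc, hce⟩ := hscal _ h
    refine ⟨c, hc, ?_⟩
    have := congrArg (fun z : R => ((z : GL (Fin 3) F) : Matrix (Fin 3) (Fin 3) F))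
      (show t * x = t * x * (x * t)⁻¹ * (x * t) by group)
    simp only [Subgroup.coe_mul, Units.val_mul] at this hce
    rw [this, hce, Matrix.smul_mul, Matrix.one_mul]
  obtain ⟨y, w, hw3, hw1, hyx⟩ : ∃ (y : R) (w : F), w * w * w = 1 ∧ w ≠ 1 ∧
      ((y : GL (Fin 3) F) : Matrix (Fin 3) (Fin 3) F) * ((x : GL (Fin 3) F) : Matrix (Fin 3) (Fin 3) F) =
        w • (((x : GL (Fin 3) F) : Matrix (Fin 3) (Fin 3) F) * ((y : GL (Fin 3) F) : Matrix (Fin 3) (Fin 3) F)) := by
    by_contra hcon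
    push Not at hcon
    refine hxz (Subgroup.mem_center_iff.2 fun t => ?_)
    obtain ⟨c, hc, hce⟩ := hcomm t
    rcases eq_or_ne c 1 with rfl | hc1
    · exact Subtype.ext (Units.ext (by simpa using hce))
    · exact absurd hce (hcon t c hc hc1)
  let r : Root F := ⟨w, (mul_eq_zero.1 (show (w - 1) * (w * w + w + 1) = 0 by linear_combination hw3)).resolve_left
    (sub_ne_zero.2 hw1), h2, h3⟩
  set X := ((x : GL (Fin 3) F) : Matrix (Fin 3) (Fin 3) F) with hX
  set Y := ((y : GL (Fin 3) F) : Matrix (Fin 3) (Fin 3) F) with hY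
  have hX3 : X * X * X = 1 := congrArg (fun t : R => ((t : GL (Fin 3) F) : Matrix (Fin 3) (Fin 3) F)) (hexp x)
  have hY3 : Y * Y * Y = 1 := congrArg (fun t : R => ((t : GL (Fin 3) F) : Matrix (Fin 3) (Fin 3) F)) (hexp y)
  obtain ⟨l, hl, v, hv0, hv⟩ : ∃ l : F, l * l * l = 1 ∧ ∃ v : Fin 3 → F, v ≠ 0 ∧ X *ᵥ v = l • v := by
    have hfac : ((X - (1 : F) • 1) * (X - w • 1)) * (X - (w * w) • 1) = 0 := by
      have e : ((X - (1 : F) • 1) * (X - w • 1)) * (X - (w * w) • (1 : Matrix (Fin 3) (Fin 3) F)) =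
          X * X * X - (1 + w + w * w) • (X * X) + (w + w * w + w * w * w) • X - (w * w * w) • 1 := by
        simp only [sub_mul, mul_sub, smul_mul_assoc, mul_smul_comm, one_mul, mul_one, smul_smul, mul_assoc]
        module
      rw [e, hX3, show 1 + w + w * w = 0 by linear_combination r.rel,
        show w + w * w + w * w * w = 0 by linear_combination r.rel + hw3, hw3]
      simp
    have hdet := congrArg Matrix.det hfac
    rw [Matrix.det_mul, Matrix.det_mul, Matrix.det_zero] at hdet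
    obtain ⟨l, hl, hld⟩ : ∃ l : F, l * l * l = 1 ∧ (X - l • (1 : Matrix (Fin 3) (Fin 3) F)).det = 0 := by
        rcases mul_eq_zero.1 hdet with h | h
        · rcases mul_eq_zero.1 h with h | h
          · exact ⟨1, by ring, h⟩
          · exact ⟨w, hw3, h⟩
        · exact ⟨w * w, by linear_combination (w * w * w + 1) * hw3, h⟩
    obtain ⟨v, hv0, hv⟩ := Matrix.exists_mulVec_eq_zero_iff.2 hld
    exact ⟨l, hl, v, hv0, by rwa [Matrix.sub_mulVec, Matrix.smul_mulVec, Matrix.one_mulVec, sub_eq_zero] at hv⟩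
  have hYe : ∀ (μ : F) (u : Fin 3 → F), X *ᵥ u = μ • u → X *ᵥ (Y *ᵥ u) = (w * w * μ) • (Y *ᵥ u) := by
    intro μ u hu
    have := congrArg (fun N : Matrix (Fin 3) (Fin 3) F => (w * w) • (N *ᵥ u)) hyx
    simp only [← Matrix.mulVec_mulVec, Matrix.smul_mulVec, hu, Matrix.mulVec_smul, smul_smul] at this
    rw [hw3, one_smul] at this
    exact this.symm
  have hv1 := hYe _ _ hv
  have hv2 := hYe _ _ hv1
  obtain ⟨u2, hu2⟩ : ∃ u, Y *ᵥ (Y *ᵥ v) = u := ⟨_, rfl⟩
  obtain ⟨u1, hu1⟩ : ∃ u, Y *ᵥ v = u := ⟨_, rfl⟩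
  rw [hu2] at hv2
  rw [hu1] at hv1
  set B : Matrix (Fin 3) (Fin 3) F := Matrix.of fun i k => ![v i, u2 i, u1 i] k with hB
  have hcol : ∀ k i, B i k = ![v, u2, u1] k i := fun k i => by
    fin_cases k <;> simp [hB]
  have hBX : X * B = B * (l • (r.x : Matrix (Fin 3) (Fin 3) F)) := by
    ext i k
    have e : (X * B) i k = (X *ᵥ fun m => B m k) i := by simp [Matrix.mul_apply, Matrix.mulVec, dotProduct]
    rw [e, show (fun m => B m k) = ![v, u2, u1] k from funext (hcol k)]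
    fin_cases k
    · simp [hv, Matrix.mul_apply, Fin.sum_univ_three, hB, Root.x, mul_comm]
    · simp [hv2, Matrix.mul_apply, Fin.sum_univ_three, hB, Root.x]
      linear_combination (u2 i * w * l) * hw3
    · simp [hv1, Matrix.mul_apply, Fin.sum_univ_three, hB, Root.x, r]
      ring
  have hBY : Y * B = B * (r.y : Matrix (Fin 3) (Fin 3) F) := by
    ext i k
    have e : (Y * B) i k = (Y *ᵥ fun m => B m k) i := by simp [Matrix.mul_apply, Matrix.mulVec, dotProduct]
    rw [e, show (fun m => B m k) = ![v, u2, u1] k from funext (hcol k)]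
    fin_cases k
    · simp [Matrix.mul_apply, Fin.sum_univ_three, hB, Root.y, ← hu1]
    · simp [Matrix.mul_apply, Fin.sum_univ_three, hB, Root.y]
      rw [← hu2, Matrix.mulVec_mulVec, Matrix.mulVec_mulVec, hY3, Matrix.one_mulVec]
    · simp [Matrix.mul_apply, Fin.sum_univ_three, hB, Root.y, ← hu2, ← hu1]
  have hdet : B.det ≠ 0 := by
    intro h
    obtain ⟨c, hc0, hc⟩ := Matrix.exists_mulVec_eq_zero_iff.2 h
    have hz : ∀ n : ℕ, B *ᵥ ((l • (r.x : Matrix (Fin 3) (Fin 3) F)) ^ n *ᵥ c) = 0 := by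
      intro n
      induction n with
      | zero => simpa using hc
      | succ n ih =>
        rw [pow_succ', ← Matrix.mulVec_mulVec, Matrix.mulVec_mulVec, ← hBX, ← Matrix.mulVec_mulVec, ih,
          Matrix.mulVec_zero]
    have h1 := hz 1
    have h2' := hz 2
    have hl0 : l ≠ 0 := fun h0 => by simp [h0] at hl
    refine hc0 (funext fun k => ?_)
    have key : ∀ i, v i * c 0 = 0 ∧ u2 i * c 1 = 0 ∧ u1 i * c 2 = 0 := by
      intro i
      have e0 := congrFun hc i
      have e1 := congrFun h1 i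
      have e2 := congrFun h2' i
      simp [Matrix.mulVec, dotProduct, Fin.sum_univ_three, hB, Root.x, pow_two, Matrix.mul_apply, r] at e0 e1 e2
      refine ⟨?_, ?_, ?_⟩ <;> refine mul_left_cancel₀ r.h3 (mul_left_cancel₀ hl0 (mul_left_cancel₀ hl0 ?_))
      · linear_combination (l * l) * e0 + l * e1 + e2 - (l * l * (u2 i * c 1)) * r.rel
          - (l * l * (u1 i * c 2)) * (w * w - w + 1) * r.rel
      · linear_combination (l * l) * e0 + (l * w * w) * e1 + w * e2 - (l * l * (v i * c 0)) * r.rel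
          - (l * l * (u2 i * c 1)) * 2 * hw3
          - (l * l * (u1 i * c 2)) * (r.rel + w * hw3 + w * w * hw3)
      · linear_combination (l * l) * e0 + (l * w) * e1 + (w * w) * e2 - (l * l * (v i * c 0)) * r.rel
          - (l * l * (u2 i * c 1)) * (r.rel + w * hw3)
          - (l * l * (u1 i * c 2)) * (w * w * w + 2) * hw3
    obtain ⟨i, hi⟩ := Function.ne_iff.1 hv0
    have hne2 : ∀ u : Fin 3 → F, u ≠ 0 → Y *ᵥ u ≠ 0 := fun u hu h0 => hu (by
      have := congrArg (fun z => (Y * Y) *ᵥ z) h0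
      simpa [Matrix.mulVec_mulVec, hY3] using this)
    obtain ⟨i1, hi1⟩ := Function.ne_iff.1 (hu1 ▸ hne2 _ hv0)
    obtain ⟨i2, hi2⟩ := Function.ne_iff.1 (hu2 ▸ hne2 _ (hne2 _ hv0))
    fin_cases k
    · exact (mul_eq_zero.1 (key i).1).resolve_left hi
    · exact (mul_eq_zero.1 (key i2).2.1).resolve_left hi2
    · exact (mul_eq_zero.1 (key i1).2.2).resolve_left hi1
  let g : GL (Fin 3) F := Matrix.GeneralLinearGroup.mkOfDetNeZero B hdet
  have hg : (g : Matrix (Fin 3) (Fin 3) F) = B := rfl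
  have hscl : ∀ c : F, c * c * c = 1 → ∃ n : ℕ, c = w ^ n := fun c hc => by
    have : (c - 1) * ((c - w) * (c - w * w)) = 0 := by
      linear_combination hc + (-c * c + c * w) * r.rel + (-(1 : F) + c) * hw3 - c * (w - 1) * r.rel
    rcases mul_eq_zero.1 this with h | h
    · exact ⟨0, by rw [sub_eq_zero.1 h, pow_zero]⟩
    rcases mul_eq_zero.1 h with h | h
    · exact ⟨1, by rw [sub_eq_zero.1 h, pow_one]⟩
    · exact ⟨2, by rw [sub_eq_zero.1 h, sq]⟩
  obtain ⟨n, hn⟩ := hscl l hl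
  have hpow : ∀ n : ℕ, ((r.om ^ n : GL (Fin 3) F) : Matrix (Fin 3) (Fin 3) F) = w ^ n • (1 : Matrix (Fin 3) (Fin 3) F) :=
    fun n => by rw [Units.val_pow_eq_pow_val, r.om_val, smul_pow, one_pow]
  have hgx : g⁻¹ * x * g = r.om ^ n * r.x := by
    rw [mul_assoc, inv_mul_eq_iff_eq_mul]
    refine Units.ext ?_
    rw [Units.val_mul, Units.val_mul, Units.val_mul, hg, ← hX, hBX, hpow, Matrix.smul_mul, Matrix.one_mul, hn]
  have hgy : g⁻¹ * y * g = r.y := by
    rw [mul_assoc, inv_mul_eq_iff_eq_mul]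
    exact Units.ext (by rw [Units.val_mul, Units.val_mul, hg, ← hY, hBY])
  refine ⟨r, g⁻¹, ?_⟩
  have hconj : ∀ t : GL (Fin 3) F, (MulAut.conj g⁻¹).toMonoidHom t = g⁻¹ * t * g := fun t => by simp
  -- the scalars of the centre
  have homR : r.om ∈ R.map (MulAut.conj g⁻¹).toMonoidHom := by
    have h : (y : GL (Fin 3) F) * x * ((x : GL (Fin 3) F) * y)⁻¹ ∈ R :=
      mul_mem (mul_mem y.2 x.2) (inv_mem (mul_mem x.2 y.2))
    refine ⟨_, h, ?_⟩
    rw [map_mul, map_mul, map_inv (MulAut.conj g⁻¹).toMonoidHom, map_mul, hconj, hconj, hgx, hgy]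
    calc r.y * (r.om ^ n * r.x) * (r.om ^ n * r.x * r.y)⁻¹
        = r.y * r.om ^ n * r.x * (r.om ^ n * r.x * r.y)⁻¹ := by group
      _ = r.om ^ n * (r.y * r.x) * (r.om ^ n * r.x * r.y)⁻¹ := by
        rw [← ((show Commute r.om r.y from r.om_comm _).pow_left n).eq, mul_assoc (r.om ^ n) r.y]
      _ = r.om ^ n * r.om * (r.om ^ n)⁻¹ := by rw [r.y_x]; group
      _ = r.om := by group
  refine le_antisymm ?_ ((Subgroup.closure_le _).2 ?_)
  swap
  · rintro s (rfl | rfl)
    · have h := mul_mem (inv_mem (pow_mem homR n)) (⟨x, x.2, rfl⟩ :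
        (MulAut.conj g⁻¹).toMonoidHom x ∈ R.map (MulAut.conj g⁻¹).toMonoidHom)
      rwa [hconj, hgx, inv_mul_cancel_left] at h
    · exact ⟨y, y.2, by rw [hconj, hgy]⟩
  rintro _ ⟨t, ht, rfl⟩
  rw [hconj]
  set t' := g⁻¹ * t * g with ht'
  obtain ⟨c, hc, hce⟩ := hcomm ⟨t, ht⟩
  obtain ⟨k, hk⟩ := hscl c hc
  have hrel : t' * r.x = r.om ^ k * (r.x * t') := by
    have h : t * (x : GL (Fin 3) F) = r.om ^ k * ((x : GL (Fin 3) F) * t) :=
      Units.ext (by rw [Units.val_mul, Units.val_mul, Units.val_mul, hpow, Matrix.smul_mul, Matrix.one_mul, ← hk]; exact hce)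
    have hxe : r.x = (r.om ^ n)⁻¹ * (g⁻¹ * x * g) := by rw [hgx, inv_mul_cancel_left]
    have hO : ∀ (a : ℤ) z, r.om ^ a * z = z * r.om ^ a := fun a z => ((show Commute r.om z from r.om_comm z).zpow_left a).eq
    calc t' * r.x = t' * ((r.om ^ n)⁻¹ * (g⁻¹ * x * g)) := by rw [← hxe]
      _ = (r.om ^ n)⁻¹ * (t' * (g⁻¹ * x * g)) := by
        rw [← zpow_natCast, ← zpow_neg, ← mul_assoc, ← hO, mul_assoc]
      _ = (r.om ^ n)⁻¹ * (g⁻¹ * (t * x) * g) := by rw [ht']; group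
      _ = (r.om ^ n)⁻¹ * (r.om ^ k * (g⁻¹ * (x * t) * g)) := by
        rw [h, ← mul_assoc g⁻¹, ← zpow_natCast r.om k, ← hO]; group
      _ = r.om ^ k * ((r.om ^ n)⁻¹ * (g⁻¹ * x * g) * (g⁻¹ * t * g)) := by
        rw [← mul_assoc, ← zpow_natCast r.om n, ← zpow_natCast r.om k, ← zpow_neg, ← zpow_add, add_comm, zpow_add]
        group
      _ = _ := by rw [← hxe]
  have hyk : r.y ^ k * r.x = r.om ^ k * (r.x * r.y ^ k) := by simpa using r.y_x_pow 1 k
  -- the diagonal part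
  set d := (r.y ^ k)⁻¹ * t' with hd
  have hdx : d * r.x = r.x * d := by
    rw [hd, mul_assoc, hrel, ← mul_assoc]
    calc (r.y ^ k)⁻¹ * r.om ^ k * (r.x * t')
        = (r.y ^ k)⁻¹ * (r.om ^ k * (r.x * r.y ^ k)) * (r.y ^ k)⁻¹ * t' := by group
      _ = (r.y ^ k)⁻¹ * (r.y ^ k * r.x) * (r.y ^ k)⁻¹ * t' := by rw [hyk]
      _ = r.x * ((r.y ^ k)⁻¹ * t') := by group
  have hdR : d ∈ R.map (MulAut.conj g⁻¹).toMonoidHom := by
    have hyR : r.y ∈ R.map (MulAut.conj g⁻¹).toMonoidHom := ⟨y, y.2, by rw [hconj, hgy]⟩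
    refine mul_mem (inv_mem (pow_mem hyR k)) ?_
    exact ⟨t, ht, hconj t⟩
  have hoff : ∀ i j, i ≠ j → (d : Matrix (Fin 3) (Fin 3) F) i j = 0 := by
    intro i j hij
    have e := congrArg (fun z : GL (Fin 3) F => (z : Matrix (Fin 3) (Fin 3) F) i j) hdx
    have := r.w_ne_one; have := r.sq_ne_one; have := r.w_ne_zero; have := r.sw_ne
    fin_cases i <;> fin_cases j <;> first | exact absurd rfl hij | skip
    all_goals simp [Root.x, Matrix.mul_apply, Fin.sum_univ_three] at e ⊢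
    all_goals
      by_contra hne
      first
      | exact r.w_ne_one (mul_left_cancel₀ hne (by linear_combination e))
      | exact r.w_ne_one (mul_left_cancel₀ hne (by linear_combination -e))
      | exact r.sq_ne_one (mul_left_cancel₀ hne (by linear_combination e))
      | exact r.sq_ne_one (mul_left_cancel₀ hne (by linear_combination -e))
      | exact r.sw_ne (mul_left_cancel₀ hne (by linear_combination e))
      | exact r.sw_ne (mul_left_cancel₀ hne (by linear_combination -e))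
  set δ : Fin 3 → F := fun i => (d : Matrix (Fin 3) (Fin 3) F) i i
  have hdd : (d : Matrix (Fin 3) (Fin 3) F) = Matrix.diagonal δ := by
    ext i j
    rcases eq_or_ne i j with rfl | hij
    · simp [δ]
    · rw [Matrix.diagonal_apply_ne _ hij, hoff i j hij]
  have hcube : ∀ z ∈ R.map (MulAut.conj g⁻¹).toMonoidHom, z * z * z = 1 := by
    rintro _ ⟨z, hz, rfl⟩
    rw [← map_mul, ← map_mul, show z * z * z = 1 from congrArg Subtype.val (hexp ⟨z, hz⟩), map_one]
  have hδ : ∀ i, δ i ^ 3 = 1 := fun i => by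
    have := congrArg (fun z : GL (Fin 3) F => (z : Matrix (Fin 3) (Fin 3) F) i i) (hcube d hdR)
    simpa [hdd, pow_three'] using this
  have hdet1 : δ 0 * δ 1 * δ 2 = 1 := by
    have := congrArg (fun z : GL (Fin 3) F => (z : Matrix (Fin 3) (Fin 3) F) 0 0)
      (hcube (d * r.y) (mul_mem hdR ⟨y, y.2, by rw [hconj, hgy]⟩))
    simpa [hdd, Root.y, Matrix.mul_apply, Fin.sum_univ_three] using this
  obtain ⟨a, c, hac⟩ := diag_cube_eq r hδ hdet1
  have : t' = r.y ^ k * (r.om ^ c * r.x ^ a) := by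
    rw [← Units.ext (hdd.trans hac), hd, mul_inv_cancel_left]
  rw [this]
  exact mul_mem (pow_mem r.y_mem _) (mul_mem (pow_mem r.om_mem _) (pow_mem r.x_mem _))

/-- Reduction to the standard group, from the data of the linear case. -/
theorem exists_frame [Fintype F] {R : Subgroup (GL (Fin 3) F)} (h2 : (2 : F) ≠ 0) (h3 : (3 : F) ≠ 0)
    (hR : Cfsg.Geo.IsLinearSymplecticTypeData 3 R) :
    ∃ (r : Root F) (g : GL (Fin 3) F), R.map (MulAut.conj g).toMonoidHom = r.grp := by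
  obtain ⟨hS, hirr, p, e, -, -, hcases⟩ := hR
  rcases hcases with ⟨-, -, hz, m, hm, hc⟩ | ⟨h, -⟩ | ⟨h, -⟩
  · exact exists_frame_of h2 h3 hS hirr hz hm hc
  all_goals exact absurd h (by norm_num)

end CfsgLib.Dim3Max.Six
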