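import Cfsg.Agent.Lib.Dim3Max.Defs

/-!
The standard extraspecial group of order 27 in dimension three and some elements normalising it.
-/

set_option autoImplicit false
set_option linter.unusedSectionVars false

namespace CfsgLib.Dim3Max.Six

open scoped Matrix MatrixGroups

universe u

variable {F : Type u} [Field F]

/-- A primitive cube root of unity. -/
structure Root (F : Type u) [Field F] where
  w : F
  rel : w * w + w + 1 = 0
  h2 : (2 : F) ≠ 0
  h3 : (3 : F) ≠ 0

/-- Scalar elements. -/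
noncomputable def scl (c : Fˣ) : GL (Fin 3) F := Units.map (Matrix.scalar (Fin 3)).toMonoidHom c

theorem scl_val (c : Fˣ) : (scl c : Matrix (Fin 3) (Fin 3) F) = (c : F) • (1 : Matrix (Fin 3) (Fin 3) F) := by
  simp [scl, Matrix.smul_one_eq_diagonal]

theorem scl_mul_val (c : Fˣ) (g : GL (Fin 3) F) :
    ((scl c * g : GL (Fin 3) F) : Matrix (Fin 3) (Fin 3) F) = (c : F) • (g : Matrix (Fin 3) (Fin 3) F) := by
  rw [Units.val_mul, scl_val, Matrix.smul_mul, Matrix.one_mul]

theorem scl_comm (c : Fˣ) (g : GL (Fin 3) F) : scl c * g = g * scl c :=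
  Units.ext (by rw [Units.val_mul, Units.val_mul, scl_val]; simp)

theorem scl_mem_sl3 {c : Fˣ} (h : (c : F) ^ 3 = 1) : scl c ∈ sl3 F := by
  show Matrix.GeneralLinearGroup.det (scl c) = 1
  refine Units.ext ?_
  simp [scl_val, h]

namespace Root

variable (r : Root F)

theorem w_cube : r.w * r.w * r.w = 1 := by linear_combination (r.w - 1) * r.rel
theorem w_ne_one : r.w ≠ 1 := fun h => r.h3 (by have := r.rel; rw [h] at this; linear_combination this)
theorem w_ne_zero : r.w ≠ 0 := fun h => by have := r.rel; simp [h] at this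
theorem sw_ne : r.w - r.w * r.w ≠ 0 := fun h =>
  r.w_ne_one (mul_left_cancel₀ r.w_ne_zero (by linear_combination -h))

theorem sq_ne_one : r.w * r.w ≠ 1 := fun h => r.w_ne_one (by linear_combination r.w_cube - r.w * h)

/-- `w` as a unit. -/
@[simps] def unit : Fˣ where
  val := r.w
  inv := r.w * r.w
  val_inv := by linear_combination r.w_cube
  inv_val := by linear_combination r.w_cube

/-- The scalar `w`. -/
noncomputable def om : GL (Fin 3) F := scl r.unit

theorem om_val : (r.om : Matrix (Fin 3) (Fin 3) F) = r.w • (1 : Matrix (Fin 3) (Fin 3) F) := scl_val _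

/-- Diagonal generator. -/
def x : GL (Fin 3) F where
  val := !![1, 0, 0; 0, r.w, 0; 0, 0, r.w * r.w]
  inv := !![1, 0, 0; 0, r.w * r.w, 0; 0, 0, r.w]
  val_inv := by
    ext i j; fin_cases i <;> fin_cases j <;> simp [Matrix.mul_apply, Fin.sum_univ_three] <;>
      linear_combination r.w_cube
  inv_val := by
    ext i j; fin_cases i <;> fin_cases j <;> simp [Matrix.mul_apply, Fin.sum_univ_three] <;>
      linear_combination r.w_cube

/-- Cyclic generator. -/
def y (_r : Root F) : GL (Fin 3) F where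
  val := !![0, 1, 0; 0, 0, 1; 1, 0, 0]
  inv := !![0, 0, 1; 1, 0, 0; 0, 1, 0]
  val_inv := by ext i j; fin_cases i <;> fin_cases j <;> simp [Matrix.mul_apply, Fin.sum_univ_three]
  inv_val := by ext i j; fin_cases i <;> fin_cases j <;> simp [Matrix.mul_apply, Fin.sum_univ_three]

/-- The involution inverting the group. -/
def j (_r : Root F) : GL (Fin 3) F where
  val := !![-1, 0, 0; 0, 0, -1; 0, -1, 0]
  inv := !![-1, 0, 0; 0, 0, -1; 0, -1, 0]
  val_inv := by ext i j; fin_cases i <;> fin_cases j <;> simp [Matrix.mul_apply, Fin.sum_univ_three]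
  inv_val := by ext i j; fin_cases i <;> fin_cases j <;> simp [Matrix.mul_apply, Fin.sum_univ_three]

/-- A sign change. -/
def u (_r : Root F) : GL (Fin 3) F where
  val := !![1, 0, 0; 0, -1, 0; 0, 0, -1]
  inv := !![1, 0, 0; 0, -1, 0; 0, 0, -1]
  val_inv := by ext i j; fin_cases i <;> fin_cases j <;> simp [Matrix.mul_apply, Fin.sum_univ_three]
  inv_val := by ext i j; fin_cases i <;> fin_cases j <;> simp [Matrix.mul_apply, Fin.sum_univ_three]

/-- The diagonal element scaling the cyclic generator. -/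
def s : GL (Fin 3) F where
  val := !![1, 0, 0; 0, r.w, 0; 0, 0, r.w]
  inv := !![1, 0, 0; 0, r.w * r.w, 0; 0, 0, r.w * r.w]
  val_inv := by
    ext i j; fin_cases i <;> fin_cases j <;> simp [Matrix.mul_apply, Fin.sum_univ_three] <;>
      linear_combination r.w_cube
  inv_val := by
    ext i j; fin_cases i <;> fin_cases j <;> simp [Matrix.mul_apply, Fin.sum_univ_three] <;>
      linear_combination r.w_cube

/-- The scaling of the Fourier matrix. -/
noncomputable def k : F := (r.w - r.w * r.w)⁻¹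

theorem k_sq : r.k * r.k * -3 = 1 := by
  have h := mul_inv_cancel₀ r.sw_ne
  have h2 : (r.w - r.w * r.w) * (r.w - r.w * r.w) = -3 := by
    linear_combination (r.w * r.w - 3 * r.w + 3) * r.rel
  rw [← h2, show r.k * r.k * ((r.w - r.w * r.w) * (r.w - r.w * r.w)) =
    ((r.w - r.w * r.w) * r.k) * ((r.w - r.w * r.w) * r.k) by ring, show r.k = (r.w - r.w * r.w)⁻¹ from rfl, h,
    one_mul]

theorem four_mul :
    !![1, 1, 1; 1, r.w, r.w * r.w; 1, r.w * r.w, r.w] * !![1, 1, 1; 1, r.w, r.w * r.w; 1, r.w * r.w, r.w] =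
      (-3 : F) • (r.j : Matrix (Fin 3) (Fin 3) F) := by
  have h1 := r.rel
  ext i j
  fin_cases i <;> fin_cases j <;> simp [Root.j, Matrix.mul_apply, Fin.sum_univ_three] <;>
    first
    | ring1
    | linear_combination h1
    | linear_combination (r.w * r.w - r.w + 1) * h1
    | linear_combination 2 * r.w_cube

theorem fq_mul :
    (r.k • !![1, 1, 1; 1, r.w, r.w * r.w; 1, r.w * r.w, r.w]) *
      (r.k • !![1, 1, 1; 1, r.w, r.w * r.w; 1, r.w * r.w, r.w]) = (r.j : Matrix (Fin 3) (Fin 3) F) := by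
  rw [Matrix.smul_mul, Matrix.mul_smul, smul_smul, r.four_mul, smul_smul, r.k_sq, one_smul]

/-- The Fourier element. -/
noncomputable def f : GL (Fin 3) F where
  val := r.k • !![1, 1, 1; 1, r.w, r.w * r.w; 1, r.w * r.w, r.w]
  inv := (r.j : Matrix (Fin 3) (Fin 3) F) * (r.k • !![1, 1, 1; 1, r.w, r.w * r.w; 1, r.w * r.w, r.w])
  val_inv := by
    have h : (r.j : Matrix (Fin 3) (Fin 3) F) * (r.j : Matrix (Fin 3) (Fin 3) F) = 1 := r.j.val_inv
    have hc : (r.k • !![1, 1, 1; 1, r.w, r.w * r.w; 1, r.w * r.w, r.w]) * (r.j : Matrix (Fin 3) (Fin 3) F) =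
        (r.j : Matrix (Fin 3) (Fin 3) F) * (r.k • !![1, 1, 1; 1, r.w, r.w * r.w; 1, r.w * r.w, r.w]) := by
      rw [← r.fq_mul, mul_assoc]
    rw [← hc, ← mul_assoc, r.fq_mul, h]
  inv_val := by
    have h : (r.j : Matrix (Fin 3) (Fin 3) F) * (r.j : Matrix (Fin 3) (Fin 3) F) = 1 := r.j.val_inv
    rw [mul_assoc, r.fq_mul, h]

/-- The second quarter turn. -/
noncomputable def g : GL (Fin 3) F := r.s * r.f * r.s⁻¹

theorem j_sq : r.j * r.j = 1 := Units.ext r.j.val_inv
theorem j_inv : r.j⁻¹ = r.j := inv_eq_of_mul_eq_one_right r.j_sq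
theorem u_sq : r.u * r.u = 1 := Units.ext r.u.val_inv
theorem f_sq : r.f * r.f = r.j := Units.ext r.fq_mul

theorem y_x : r.y * r.x = r.om * (r.x * r.y) := by
  refine Units.ext ?_
  rw [om, scl_mul_val, Units.val_mul, Units.val_mul]
  ext i j
  fin_cases i <;> fin_cases j <;> simp [x, y, Matrix.mul_apply, Fin.sum_univ_three] <;>
    linear_combination -r.w_cube

theorem x_cube : r.x * r.x * r.x = 1 := by
  refine Units.ext ?_
  ext i j
  fin_cases i <;> fin_cases j <;> simp [x, Matrix.mul_apply, Fin.sum_univ_three] <;>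
    first | linear_combination r.w_cube | linear_combination (r.w * r.w * r.w + 1) * r.w_cube

theorem y_cube : r.y * r.y * r.y = 1 := by
  refine Units.ext ?_
  ext i j
  fin_cases i <;> fin_cases j <;> simp [y, Matrix.mul_apply, Fin.sum_univ_three]

theorem om_cube : r.om * r.om * r.om = 1 := by
  rw [om, scl, ← map_mul, ← map_mul, show r.unit * r.unit * r.unit = 1 from Units.ext r.w_cube, map_one]

theorem j_x : r.j * r.x = r.x⁻¹ * r.j := by
  refine Units.ext ?_
  rw [Units.val_mul, Units.val_mul, show ((r.x⁻¹ : GL (Fin 3) F) : Matrix (Fin 3) (Fin 3) F) =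
    !![1, 0, 0; 0, r.w * r.w, 0; 0, 0, r.w] from rfl]
  ext i j
  fin_cases i <;> fin_cases j <;> simp [x, Root.j, Matrix.mul_apply, Fin.sum_univ_three]

theorem j_y : r.j * r.y = r.y⁻¹ * r.j := by
  refine Units.ext ?_
  rw [Units.val_mul, Units.val_mul, show ((r.y⁻¹ : GL (Fin 3) F) : Matrix (Fin 3) (Fin 3) F) =
    !![0, 0, 1; 1, 0, 0; 0, 1, 0] from rfl]
  ext i j
  fin_cases i <;> fin_cases j <;> simp [y, Root.j, Matrix.mul_apply, Fin.sum_univ_three]

theorem j_u : r.j * r.u = r.u * r.j := by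
  refine Units.ext ?_
  ext i j
  fin_cases i <;> fin_cases j <;> simp [u, Root.j, Matrix.mul_apply, Fin.sum_univ_three]

theorem x_u : r.x * r.u = r.u * r.x := by
  refine Units.ext ?_
  ext i j
  fin_cases i <;> fin_cases j <;> simp [u, x, Matrix.mul_apply, Fin.sum_univ_three]

theorem s_j : r.s * r.j = r.j * r.s := by
  refine Units.ext ?_
  ext i j
  fin_cases i <;> fin_cases j <;> simp [s, Root.j, Matrix.mul_apply, Fin.sum_univ_three]

theorem s_x : r.s * r.x = r.x * r.s := by
  refine Units.ext ?_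
  ext i j
  fin_cases i <;> fin_cases j <;> simp [s, x, Matrix.mul_apply, Fin.sum_univ_three, mul_comm]

theorem s_y : r.s * r.y = r.om * r.om * (r.x * r.y) * r.s := by
  refine Units.ext ?_
  rw [om]; simp only [Units.val_mul, scl_val]
  ext i j
  fin_cases i <;> fin_cases j <;>
    simp [s, x, y, Matrix.mul_apply, Fin.sum_univ_three] <;>
      first
      | linear_combination -r.w_cube
      | linear_combination (1 - r.w) * r.w_cube
      | linear_combination (r.w - 1) * r.w_cube
      | linear_combination (-r.w) * r.w_cube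

theorem f_x : r.f * r.x = r.y * r.f := by
  refine Units.ext ?_
  rw [Units.val_mul, Units.val_mul, show (r.f : Matrix (Fin 3) (Fin 3) F) =
    r.k • !![1, 1, 1; 1, r.w, r.w * r.w; 1, r.w * r.w, r.w] from rfl, Matrix.smul_mul, Matrix.mul_smul]
  congr 1
  ext i j
  fin_cases i <;> fin_cases j <;> simp [x, y, Matrix.mul_apply, Fin.sum_univ_three] <;>
    first | linear_combination r.w_cube | linear_combination r.w * r.w_cube

theorem f_j : r.f * r.j = r.j * r.f := by rw [← r.f_sq, mul_assoc]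

theorem f_y : r.f * r.y = r.x⁻¹ * r.f := by
  have h : r.y = r.f * r.x * r.f⁻¹ := by rw [r.f_x, mul_inv_cancel_right]
  have h2 : r.j * r.x * r.j⁻¹ = r.x⁻¹ := by rw [r.j_x, mul_inv_cancel_right]
  rw [← h2, ← r.f_sq, h]
  group

theorem g_j : r.g * r.j = r.j * r.g := by
  have h : r.s⁻¹ * r.j = r.j * r.s⁻¹ := by
    rw [inv_mul_eq_iff_eq_mul, ← mul_assoc, r.s_j, mul_inv_cancel_right]
  rw [g, mul_assoc, h, ← mul_assoc, mul_assoc r.s r.f r.j, r.f_j, ← mul_assoc, r.s_j]
  group

theorem g_sq : r.g * r.g = r.j := by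
  have h : r.s * r.j * r.s⁻¹ = r.j := by rw [r.s_j, mul_inv_cancel_right]
  rw [← h, ← r.f_sq, g]
  group

/-- The extraspecial group. -/
def grp : Subgroup (GL (Fin 3) F) := Subgroup.closure {r.x, r.y}

theorem x_mem : r.x ∈ r.grp := Subgroup.subset_closure (Set.mem_insert _ _)
theorem y_mem : r.y ∈ r.grp := Subgroup.subset_closure (Set.mem_insert_of_mem _ rfl)

theorem om_mem : r.om ∈ r.grp := by
  have : r.om = r.y * r.x * (r.x * r.y)⁻¹ := by rw [r.y_x, mul_inv_cancel_right]
  rw [this]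
  exact mul_mem (mul_mem r.y_mem r.x_mem) (inv_mem (mul_mem r.x_mem r.y_mem))

theorem conj_closure {G : Type*} [Group G] {S : Set G} {m : G} (h : ∀ s ∈ S, m * s * m⁻¹ ∈ Subgroup.closure S)
    {v : G} (hv : v ∈ Subgroup.closure S) : m * v * m⁻¹ ∈ Subgroup.closure S := by
  have : Subgroup.closure S ≤ (Subgroup.closure S).comap (MulAut.conj m).toMonoidHom :=
    (Subgroup.closure_le _).2 fun s hs => h s hs
  exact this hv

/-- An element moving the generators into the group normalises it. -/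
theorem mem_normalizer_of [Finite (GL (Fin 3) F)] {m : GL (Fin 3) F} (hx : m * r.x * m⁻¹ ∈ r.grp)
    (hy : m * r.y * m⁻¹ ∈ r.grp) : m ∈ Cfsg.Geo.subgroupNormalizer r.grp := by
  have hle : r.grp.map (MulAut.conj m).toMonoidHom ≤ r.grp := by
    rintro _ ⟨v, hv, rfl⟩
    exact conj_closure (by rintro s (rfl | rfl) <;> assumption) hv
  have he := Subgroup.eq_of_le_of_card_ge hle
    (le_of_eq (Subgroup.card_map_of_injective (MulAut.conj m).injective).symm)
  refine Subgroup.mem_normalizer_iff.2 fun v => ⟨fun hv => he ▸ ⟨v, hv, rfl⟩, fun hv => ?_⟩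
  replace hv : m * v * m⁻¹ ∈ r.grp := hv
  rw [← he] at hv
  obtain ⟨v', hv', hvv⟩ := hv
  exact (MulAut.conj m).injective hvv ▸ hv'

theorem f_mem_normalizer [Finite (GL (Fin 3) F)] : r.f ∈ Cfsg.Geo.subgroupNormalizer r.grp :=
  r.mem_normalizer_of (by rw [r.f_x, mul_inv_cancel_right]; exact r.y_mem)
    (by rw [r.f_y, mul_inv_cancel_right]; exact inv_mem r.x_mem)

theorem j_mem_normalizer [Finite (GL (Fin 3) F)] : r.j ∈ Cfsg.Geo.subgroupNormalizer r.grp :=
  r.f_sq ▸ mul_mem r.f_mem_normalizer r.f_mem_normalizer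

theorem s_mem_normalizer [Finite (GL (Fin 3) F)] : r.s ∈ Cfsg.Geo.subgroupNormalizer r.grp :=
  r.mem_normalizer_of (by rw [r.s_x, mul_inv_cancel_right]; exact r.x_mem)
    (by rw [r.s_y, mul_inv_cancel_right]; exact mul_mem (mul_mem r.om_mem r.om_mem) (mul_mem r.x_mem r.y_mem))

theorem g_mem_normalizer [Finite (GL (Fin 3) F)] : r.g ∈ Cfsg.Geo.subgroupNormalizer r.grp :=
  mul_mem (mul_mem r.s_mem_normalizer r.f_mem_normalizer) (inv_mem r.s_mem_normalizer)

theorem x_sl : r.x ∈ sl3 F := by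
  show Matrix.GeneralLinearGroup.det r.x = 1
  refine Units.ext ?_
  simp [x, Matrix.det_fin_three]
  linear_combination r.w_cube

theorem y_sl : r.y ∈ sl3 F := by
  show Matrix.GeneralLinearGroup.det r.y = 1
  refine Units.ext ?_
  simp [y, Matrix.det_fin_three]

theorem j_sl : r.j ∈ sl3 F := by
  show Matrix.GeneralLinearGroup.det r.j = 1
  refine Units.ext ?_
  simp [Root.j, Matrix.det_fin_three]

theorem f_sl : r.f ∈ sl3 F := by
  show Matrix.GeneralLinearGroup.det r.f = 1
  refine Units.ext ?_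
  have hdet : Matrix.det !![1, 1, 1; 1, r.w, r.w * r.w; 1, r.w * r.w, r.w] = -3 * (r.w - r.w * r.w) := by
    simp [Matrix.det_fin_three]
    linear_combination -r.w * r.w_cube
  have hk := mul_inv_cancel₀ r.sw_ne
  simp only [Matrix.GeneralLinearGroup.val_det_apply, Units.val_one,
    show (r.f : Matrix (Fin 3) (Fin 3) F) = r.k • !![1, 1, 1; 1, r.w, r.w * r.w; 1, r.w * r.w, r.w] from rfl,
    Matrix.det_smul, Fintype.card_fin, hdet]
  rw [show r.k ^ 3 * (-3 * (r.w - r.w * r.w)) = (r.k * r.k * -3) * ((r.w - r.w * r.w) * r.k) by ring, r.k_sq,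
    show r.k = (r.w - r.w * r.w)⁻¹ from rfl, hk, mul_one]

theorem g_sl : r.g ∈ sl3 F := by
  show Matrix.GeneralLinearGroup.det r.g = 1
  rw [g, map_mul, map_mul, map_inv, show Matrix.GeneralLinearGroup.det r.f = 1 from r.f_sl, mul_one,
    mul_inv_cancel]

end Root

end CfsgLib.Dim3Max.Six
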