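import Cfsg.Agent.Lib.Dim3Max.Six.Frame

/-!
Elements of order the characteristic in a group without elations.
-/

set_option autoImplicit false
set_option linter.unusedSectionVars false

namespace CfsgLib.Dim3Max.Six

open scoped Matrix MatrixGroups
open CfsgLib.Maximal

universe u

variable {F : Type u} [Field F]

/-- No elations. -/
def NoElation (M : Subgroup (GL (Fin 3) F)) : Prop :=
  ∀ c φ : Fin 3 → F, c ≠ 0 → φ ≠ 0 → ¬ Has M c φ

/-- An element with square-zero difference from the identity is trivial. -/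
theorem NoElation.eq_one_of_sq {M : Subgroup (GL (Fin 3) F)} (hM : NoElation M) {u : GL (Fin 3) F} (hu : u ∈ M)
    (h : ((u : Matrix (Fin 3) (Fin 3) F) - 1) * ((u : Matrix (Fin 3) (Fin 3) F) - 1) = 0) : u = 1 := by
  obtain ⟨N, hNd⟩ : ∃ N, (u : Matrix (Fin 3) (Fin 3) F) - 1 = N := ⟨_, rfl⟩
  rw [hNd] at h
  by_contra hne
  obtain ⟨v, hv⟩ : ∃ v, N *ᵥ v ≠ 0 := by
    by_contra hcon
    push Not at hcon
    refine hne (Units.ext ?_)
    rw [Units.val_one, ← sub_eq_zero, hNd]
    exact Matrix.toLin'.injective (LinearMap.ext fun v => by simpa using hcon v)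
  set c := N *ᵥ v with hc
  have hN2 : ∀ x, N *ᵥ (N *ᵥ x) = 0 := fun x => by rw [Matrix.mulVec_mulVec, h, Matrix.zero_mulVec]
  have hline : ∀ x, N *ᵥ x ∈ Submodule.span F {c} := by
    intro x
    by_contra hx
    have hind : LinearIndependent F ![c, N *ᵥ x, v, x] := by
      rw [Fintype.linearIndependent_iff]
      intro g hg
      simp only [Fin.sum_univ_four, Matrix.cons_val_zero, Matrix.cons_val_one, Matrix.cons_val] at hg
      have pair : ∀ a b : F, a • c + b • (N *ᵥ x) = 0 → a = 0 ∧ b = 0 := fun a b hab => by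
        by_cases hb : b = 0
        · rw [hb, zero_smul, add_zero, smul_eq_zero] at hab
          exact ⟨hab.resolve_right hv, hb⟩
        · refine absurd (Submodule.mem_span_singleton.2 ⟨-(b⁻¹ * a), ?_⟩) hx
          have := congrArg (b⁻¹ • ·) hab
          simp only [smul_add, smul_smul, inv_mul_cancel₀ hb, one_smul, smul_zero] at this
          rw [neg_smul, neg_eq_iff_add_eq_zero]
          exact this
      have h2 := congrArg (N *ᵥ ·) hg
      simp only [Matrix.mulVec_add, Matrix.mulVec_smul, hc, hN2, smul_zero, zero_add, Matrix.mulVec_zero] at h2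
      obtain ⟨e2, e3⟩ := pair _ _ (by rw [hc]; exact h2)
      rw [e2, e3, zero_smul, zero_smul, add_zero, add_zero] at hg
      obtain ⟨e0, e1⟩ := pair _ _ hg
      intro i
      fin_cases i <;> assumption
    simpa using hind.fintype_card_le_finrank
  choose t ht using fun x => Submodule.mem_span_singleton.1 (hline x)
  obtain ⟨i0, hi0⟩ := Function.ne_iff.1 hv
  set φ : Fin 3 → F := fun j => t (Pi.single j 1)
  have hN : N = Matrix.vecMulVec c φ := by
    ext i j
    have := congrFun (ht (Pi.single j 1)) i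
    simp at this
    rw [Matrix.vecMulVec_apply, ← this, mul_comm]
  have hφc : φ ⬝ᵥ c = 0 := by
    have := congrFun (hN2 v) i0
    rw [← hc, hN, Matrix.vecMulVec_mulVec] at this
    simpa [mul_eq_zero, show c i0 ≠ 0 from hi0] using this
  have hφ : φ ≠ 0 := fun h0 => hne (Units.ext (by rw [Units.val_one, ← sub_eq_zero, hNd, hN, h0]; simp))
  refine hM c φ hv hφ ⟨hφc, ?_⟩
  convert hu using 1
  exact Units.ext (by rw [tv_val, ← hN, ← hNd]; abel)

variable [Fintype F] {p : ℕ} [CharP F p]

/-- An element of order dividing the characteristic is unipotent. -/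
theorem sub_one_cube_of_pow (hp : p.Prime) {u : GL (Fin 3) F} (hu : u ^ p = 1) :
    ((u : Matrix (Fin 3) (Fin 3) F) - 1) ^ 3 = 0 := by
  haveI := Fact.mk hp
  obtain ⟨N, hNd⟩ : ∃ N, (u : Matrix (Fin 3) (Fin 3) F) - 1 = N := ⟨_, rfl⟩
  have hn : IsNilpotent N := ⟨p, by
    rw [← hNd, sub_pow_char_of_commute p (Commute.one_right _), one_pow, ← Units.val_pow_eq_pow_val, hu,
      Units.val_one, sub_self]⟩
  rw [hNd]
  apply Matrix.toLinAlgEquiv'.injective
  rw [map_zero, map_pow]
  have hn' := hn.map Matrix.toLinAlgEquiv'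
  have h1 := LinearMap.aeval_self_charpoly (Matrix.toLinAlgEquiv' N)
  rw [hn'.charpoly_eq_X_pow_finrank, map_pow, Polynomial.aeval_X, Module.finrank_fin_fun] at h1
  exact h1

/-- The centraliser of an element of order the characteristic. -/
theorem NoElation.p_centralizer {M : Subgroup (GL (Fin 3) F)} (hM : NoElation M) (hle : M ≤ sl3 F) (hp : p.Prime)
    (hcard : Fintype.card F = p) (hp3 : 3 ≤ p) {u : GL (Fin 3) F} (hu : u ∈ M) (hup : u ^ p = 1) (hu1 : u ≠ 1) :
    (∀ a ∈ M ⊓ Subgroup.centralizer {u}, ∀ b ∈ M ⊓ Subgroup.centralizer {u}, a * b = b * a) ∧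
      (∀ a ∈ M ⊓ Subgroup.centralizer {u}, ∃ c : F, c ^ 3 = 1 ∧
        ((a ^ p : GL (Fin 3) F) : Matrix (Fin 3) (Fin 3) F) = c • (1 : Matrix (Fin 3) (Fin 3) F)) ∧
      Nat.card (M ⊓ Subgroup.centralizer {u} : Subgroup (GL (Fin 3) F)) ≤ 3 * p := by
  haveI := Fact.mk hp
  classical
  set N := (u : Matrix (Fin 3) (Fin 3) F) - 1 with hNd
  have hN3 : N ^ 3 = 0 := sub_one_cube_of_pow hp hup
  have hN2 : N * N ≠ 0 := fun h => hu1 (hM.eq_one_of_sq hu h)
  obtain ⟨v, hv⟩ : ∃ v, N *ᵥ (N *ᵥ v) ≠ 0 := by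
    by_contra hcon
    push Not at hcon
    exact hN2 (Matrix.toLin'.injective (LinearMap.ext fun v => by simpa [Matrix.mulVec_mulVec] using hcon v))
  have h3 : ∀ x, N *ᵥ (N *ᵥ (N *ᵥ x)) = 0 := fun x => by
    rw [Matrix.mulVec_mulVec, Matrix.mulVec_mulVec, ← pow_two, ← pow_succ, hN3, Matrix.zero_mulVec]
  have hind : LinearIndependent F ![v, N *ᵥ v, N *ᵥ (N *ᵥ v)] := by
    rw [Fintype.linearIndependent_iff]
    intro g hg
    simp only [Fin.sum_univ_three, Matrix.cons_val_zero, Matrix.cons_val_one, Matrix.cons_val] at hg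
    have e2 := congrArg (fun x => N *ᵥ (N *ᵥ x)) hg
    simp only [Matrix.mulVec_add, Matrix.mulVec_smul, h3, Matrix.mulVec_zero, smul_zero, add_zero,
      smul_eq_zero, hv, or_false] at e2
    rw [e2, zero_smul, zero_add] at hg
    have e1 := congrArg (N *ᵥ ·) hg
    simp only [Matrix.mulVec_add, Matrix.mulVec_smul, h3, Matrix.mulVec_zero, smul_zero, add_zero,
      smul_eq_zero, hv, or_false] at e1
    rw [e1, zero_smul, zero_add, smul_eq_zero] at hg
    intro i
    fin_cases i
    · exact e2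
    · exact e1
    · exact hg.resolve_right hv
  have hpoly : ∀ a : GL (Fin 3) F, a ∈ M ⊓ Subgroup.centralizer {u} → ∃ x y z : F,
      (a : Matrix (Fin 3) (Fin 3) F) = x • 1 + y • N + z • (N * N) := by
    intro a ha
    have hc : (a : Matrix (Fin 3) (Fin 3) F) * N = N * (a : Matrix (Fin 3) (Fin 3) F) := by
      have := congrArg (fun g : GL (Fin 3) F => (g : Matrix (Fin 3) (Fin 3) F))
        (Subgroup.mem_centralizer_singleton_iff.1 ha.2)
      simp only [Units.val_mul] at this
      rw [hNd, mul_sub, sub_mul, this, mul_one, one_mul]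
    have htop : Submodule.span F (Set.range ![v, N *ᵥ v, N *ᵥ (N *ᵥ v)]) = ⊤ :=
      hind.span_eq_top_of_card_eq_finrank (by simp)
    obtain ⟨g, hg⟩ := (Submodule.mem_span_range_iff_exists_fun F).1
      (htop ▸ Submodule.mem_top (x := (a : Matrix (Fin 3) (Fin 3) F) *ᵥ v))
    simp only [Fin.sum_univ_three, Matrix.cons_val_zero, Matrix.cons_val_one, Matrix.cons_val] at hg
    refine ⟨g 0, g 1, g 2, Matrix.toLin'.injective (LinearMap.ext fun x => ?_)⟩
    rw [Matrix.toLin'_apply, Matrix.toLin'_apply]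
    have hx : x ∈ Submodule.span F (Set.range ![v, N *ᵥ v, N *ᵥ (N *ᵥ v)]) := htop ▸ Submodule.mem_top
    have he : (a : Matrix (Fin 3) (Fin 3) F) *ᵥ v = (g 0 • 1 + g 1 • N + g 2 • (N * N)) *ᵥ v := by
      simp [← hg, Matrix.add_mulVec, Matrix.smul_mulVec, Matrix.mulVec_mulVec]
    have hcB : (g 0 • (1 : Matrix (Fin 3) (Fin 3) F) + g 1 • N + g 2 • (N * N)) * N =
        N * (g 0 • (1 : Matrix (Fin 3) (Fin 3) F) + g 1 • N + g 2 • (N * N)) := by
      simp only [add_mul, mul_add, smul_mul_assoc, mul_smul_comm, one_mul, mul_one, mul_assoc]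
    have he1 := congrArg (N *ᵥ ·) he
    simp only [Matrix.mulVec_mulVec, ← hc, ← hcB] at he1
    rw [← Matrix.mulVec_mulVec, ← Matrix.mulVec_mulVec] at he1
    have he2 := congrArg (N *ᵥ ·) he1
    simp only [Matrix.mulVec_mulVec, ← mul_assoc, ← hc, ← hcB] at he2
    simp only [mul_assoc] at he2
    rw [← Matrix.mulVec_mulVec, ← Matrix.mulVec_mulVec, ← Matrix.mulVec_mulVec] at he2
    induction hx using Submodule.span_induction with
    | mem y hy =>
      obtain ⟨i, rfl⟩ := hy
      fin_cases i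
      · exact he
      · exact he1
      · simpa [Matrix.mulVec_mulVec, mul_assoc] using he2
    | zero => simp
    | add y z _ _ hy hz => rw [Matrix.mulVec_add, Matrix.mulVec_add, hy, hz]
    | smul c y _ hy => rw [Matrix.mulVec_smul, Matrix.mulVec_smul, hy]
  have hcomm : ∀ a ∈ M ⊓ Subgroup.centralizer {u}, ∀ b ∈ M ⊓ Subgroup.centralizer {u}, a * b = b * a := by
    intro a ha b hb
    obtain ⟨x, y, z, h⟩ := hpoly a ha
    obtain ⟨x', y', z', h'⟩ := hpoly b hb
    refine Units.ext ?_
    rw [Units.val_mul, Units.val_mul, h, h']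
    simp only [add_mul, mul_add, smul_mul_assoc, mul_smul_comm, one_mul, mul_one, mul_assoc, smul_add, smul_smul]
    simp only [mul_comm x' , mul_comm y', mul_comm z']
    abel
  have hpow : ∀ a : GL (Fin 3) F, ∀ x y z : F,
      (a : Matrix (Fin 3) (Fin 3) F) = x • 1 + y • N + z • (N * N) →
      ((a ^ p : GL (Fin 3) F) : Matrix (Fin 3) (Fin 3) F) = x • (1 : Matrix (Fin 3) (Fin 3) F) := by
    intro a x y z h
    have hx : x ^ p = x := by rw [← hcard]; exact FiniteField.pow_card x
    have hd : (y • N + z • (N * N)) ^ p = 0 := by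
      refine pow_eq_zero_of_le hp3 ?_
      have h4 : N * (N * (N * N)) = 0 := by rw [← mul_assoc N N, ← mul_assoc, ← pow_two, ← pow_succ, hN3, zero_mul]
      have h3' : N * (N * N) = 0 := by rw [← pow_two, ← pow_succ', hN3]
      rw [show y • N + z • (N * N) = N * (y • 1 + z • N) by
        rw [mul_add, mul_smul_comm, mul_smul_comm, mul_one],
        (show Commute N (y • 1 + z • N) by
          exact ((Commute.one_right N).smul_right y).add_right ((Commute.refl N).smul_right z)).mul_pow, hN3,
        zero_mul]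
    rw [Units.val_pow_eq_pow_val, h, add_assoc,
      add_pow_char_of_commute p ((Commute.one_left _).smul_left x), hd, add_zero, smul_pow, one_pow, hx]
  have hroot : ∀ a ∈ M ⊓ Subgroup.centralizer {u}, ∀ x y z : F,
      (a : Matrix (Fin 3) (Fin 3) F) = x • 1 + y • N + z • (N * N) → x ^ 3 = 1 := by
    intro a ha x y z h
    have hd : Matrix.GeneralLinearGroup.det (a ^ p) = 1 := by
      rw [map_pow, show Matrix.GeneralLinearGroup.det a = 1 from hle ha.1, one_pow]
    have h2 : ((a ^ p : GL (Fin 3) F) : Matrix (Fin 3) (Fin 3) F).det = 1 := congrArg Units.val hd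
    rwa [hpow a x y z h, Matrix.det_smul, Matrix.det_one, mul_one, Fintype.card_fin] at h2
  refine ⟨hcomm, fun a ha => ?_, ?_⟩
  · obtain ⟨x, y, z, h⟩ := hpoly a ha
    exact ⟨x, hroot a ha x y z h, hpow a x y z h⟩
  · choose x y z h using hpoly
    let T : Finset F := (Finset.univ.filter fun c : F => c ^ 3 = 1)
    have hT : T.card ≤ 3 := by
      have hsub : T ⊆ (Polynomial.X ^ 3 - Polynomial.C (1 : F)).roots.toFinset := fun c hc => by
        simp only [T, Finset.mem_filter] at hc
        simp only [Multiset.mem_toFinset, Polynomial.mem_roots']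
        exact ⟨(Polynomial.monic_X_pow_sub_C (1 : F) (by norm_num : (3 : ℕ) ≠ 0)).ne_zero, by simp [hc.2]⟩
      exact (Finset.card_le_card hsub).trans ((Multiset.toFinset_card_le _).trans
        ((Polynomial.card_roots' _).trans (by rw [Polynomial.natDegree_X_pow_sub_C])))
    have hinj : Function.Injective fun a : (M ⊓ Subgroup.centralizer {u} : Subgroup (GL (Fin 3) F)) =>
        ((⟨x a a.2, by simp [T, hroot a a.2 _ _ _ (h a a.2)]⟩ : T), y a a.2) := by
      intro a b hab
      simp only [Prod.mk.injEq, Subtype.mk.injEq] at hab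
      have hq := hM.eq_one_of_sq (u := ((a : GL (Fin 3) F))⁻¹ * b) (mul_mem (inv_mem a.2.1) b.2.1) ?_
      · exact Subtype.ext (inv_mul_eq_one.1 hq)
      set A := ((a : GL (Fin 3) F) : Matrix (Fin 3) (Fin 3) F)
      set Ai := (((a : GL (Fin 3) F))⁻¹ : GL (Fin 3) F).val
      have hd : ((b : GL (Fin 3) F) : Matrix (Fin 3) (Fin 3) F) - A = (z b b.2 - z a a.2) • (N * N) := by
        rw [h b b.2, show A = _ from h a a.2, hab.1, hab.2, sub_smul]
        abel
      have hAN : A * N = N * A := by
        have := congrArg (fun g : GL (Fin 3) F => (g : Matrix (Fin 3) (Fin 3) F))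
          (Subgroup.mem_centralizer_singleton_iff.1 a.2.2)
        simp only [Units.val_mul] at this
        rw [hNd, mul_sub, sub_mul, this, mul_one, one_mul]
      have hiA : Ai * A = 1 := (a : GL (Fin 3) F).inv_mul
      have hAi : A * Ai = 1 := (a : GL (Fin 3) F).mul_inv
      have hAiN : Ai * N = N * Ai := by
        calc Ai * N = Ai * (N * (A * Ai)) := by rw [hAi, mul_one]
          _ = Ai * (A * N) * Ai := by rw [hAN]; simp only [mul_assoc]
          _ = N * Ai := by rw [← mul_assoc Ai, hiA, one_mul]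
      have he : (((a : GL (Fin 3) F))⁻¹ * b : GL (Fin 3) F).val - 1 = (z b b.2 - z a a.2) • (Ai * (N * N)) := by
        rw [Units.val_mul, ← mul_smul_comm, ← hd, mul_sub, hiA]
      rw [he, smul_mul_smul_comm]
      have h3' : N * (N * N) = 0 := by rw [← pow_two, ← pow_succ', hN3]
      have h4 : (N * N) * Ai * (N * N) = 0 := by
        calc (N * N) * Ai * (N * N) = N * (N * Ai) * (N * N) := by simp only [mul_assoc]
          _ = N * (Ai * N) * (N * N) := by rw [hAiN]
          _ = N * Ai * (N * (N * N)) := by simp only [mul_assoc]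
          _ = 0 := by rw [h3', mul_zero]
      rw [show Ai * (N * N) * (Ai * (N * N)) = Ai * ((N * N) * Ai * (N * N)) by simp only [mul_assoc], h4, mul_zero,
        smul_zero]
    refine (Nat.card_le_card_of_injective _ hinj).trans ?_
    rw [Nat.card_prod, Nat.card_eq_fintype_card, Nat.card_eq_fintype_card, Fintype.card_coe, hcard]
    exact Nat.mul_le_mul_right _ hT

end CfsgLib.Dim3Max.Six
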