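import Cfsg.Agent.Lib.Dim3Max.Six.Block
import Cfsg.Agent.Lib.Dim3Max.Six.Data

/-!
The centraliser of the involution inverting the extraspecial group, in a group without elations.
-/

set_option autoImplicit false
set_option linter.unusedSectionVars false

namespace CfsgLib.Dim3Max.Six

open scoped Matrix MatrixGroups

universe u

variable {F : Type u} [Field F]

namespace Root

/-- The frame of the involution. -/
def ej (r : Root F) : GL (Fin 3) F where
  val := !![0, 1, 0; 1, 0, 1; -1, 0, 1]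
  inv := !![0, 2⁻¹, -2⁻¹; 1, 0, 0; 0, 2⁻¹, 2⁻¹]
  val_inv := by
    have := mul_inv_cancel₀ r.h2
    ext i j; fin_cases i <;> fin_cases j <;> simp [Matrix.mul_apply, Fin.sum_univ_three] <;>
      first | linear_combination this | ring1
  inv_val := by
    have := mul_inv_cancel₀ r.h2
    ext i j; fin_cases i <;> fin_cases j <;> simp [Matrix.mul_apply, Fin.sum_univ_three] <;>
      first | linear_combination this | ring1

variable (r : Root F)

theorem inFrame_eq {c : GL (Fin 3) F} {B : Matrix (Fin 3) (Fin 3) F}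
    (h : (c : Matrix (Fin 3) (Fin 3) F) * (r.ej : Matrix (Fin 3) (Fin 3) F) = (r.ej : Matrix _ _ F) * B) :
    inFrame r.ej c = B := by
  rw [inFrame, mul_assoc, Units.val_mul, Units.val_mul, h, ← mul_assoc, Units.inv_mul, one_mul]

theorem j_eq : r.ej * r.u * r.ej⁻¹ = r.j := by
  rw [mul_inv_eq_iff_eq_mul]
  refine Units.ext ?_
  ext i j
  fin_cases i <;> fin_cases j <;> simp [u, Root.j, ej, Matrix.mul_apply, Fin.sum_univ_three]

theorem mem_comm_j {c : GL (Fin 3) F} : c ∈ r.comm r.ej ↔ c * r.j = r.j * c := by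
  rw [mem_comm, r.j_eq]

theorem frame_j : inFrame r.ej r.j = !![1, 0, 0; 0, -1, 0; 0, 0, -1] := by
  refine r.inFrame_eq ?_
  ext i j
  fin_cases i <;> fin_cases j <;> simp [Root.j, ej, Matrix.mul_apply, Fin.sum_univ_three]

theorem frame_u : inFrame r.ej r.u = !![-1, 0, 0; 0, 1, 0; 0, 0, -1] := by
  refine r.inFrame_eq ?_
  ext i j
  fin_cases i <;> fin_cases j <;> simp [u, ej, Matrix.mul_apply, Fin.sum_univ_three]

theorem frame_s : inFrame r.ej r.s = !![r.w, 0, 0; 0, 1, 0; 0, 0, r.w] := by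
  refine r.inFrame_eq ?_
  ext i j
  fin_cases i <;> fin_cases j <;> simp [s, ej, Matrix.mul_apply, Fin.sum_univ_three]

theorem frame_s_inv : inFrame r.ej r.s⁻¹ = !![r.w * r.w, 0, 0; 0, 1, 0; 0, 0, r.w * r.w] := by
  refine r.inFrame_eq ?_
  rw [show ((r.s⁻¹ : GL (Fin 3) F) : Matrix (Fin 3) (Fin 3) F) =
    !![1, 0, 0; 0, r.w * r.w, 0; 0, 0, r.w * r.w] from rfl]
  ext i j
  fin_cases i <;> fin_cases j <;> simp [ej, Matrix.mul_apply, Fin.sum_univ_three]

theorem frame_f : inFrame r.ej r.f = !![1, 0, 0; 0, r.k, 2 * r.k; 0, r.k, -r.k] := by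
  refine r.inFrame_eq ?_
  have hk : (r.w - r.w * r.w) * r.k = 1 := mul_inv_cancel₀ r.sw_ne
  have hr := r.rel
  rw [show (r.f : Matrix (Fin 3) (Fin 3) F) =
    r.k • !![1, 1, 1; 1, r.w, r.w * r.w; 1, r.w * r.w, r.w] from rfl]
  ext i j
  fin_cases i <;> fin_cases j <;> simp [ej, Matrix.mul_apply, Fin.sum_univ_three] <;>
    first
    | ring1
    | linear_combination hk
    | linear_combination -hk
    | linear_combination r.k * hr
    | linear_combination -r.k * hr

theorem frame_g : inFrame r.ej r.g =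
    !![1, 0, 0; 0, r.k, 2 * r.k * (r.w * r.w); 0, r.k * r.w, -r.k] := by
  have hw := r.w_cube
  rw [g, inFrame_mul, inFrame_mul, r.frame_s, r.frame_f, r.frame_s_inv]
  ext i j
  fin_cases i <;> fin_cases j <;> simp [Matrix.mul_apply, Fin.sum_univ_three] <;>
    first | ring1 | linear_combination hw | linear_combination -r.k * hw | linear_combination r.k * hw

theorem g_f : r.g * r.f = r.j * (r.f * r.g) := by
  refine eq_of_inFrame (e := r.ej) ?_
  have hr := r.rel
  rw [inFrame_mul, inFrame_mul, inFrame_mul, r.frame_g, r.frame_f, r.frame_j]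
  ext i j
  fin_cases i <;> fin_cases j <;> simp [Matrix.mul_apply, Fin.sum_univ_three] <;>
    first
    | ring1
    | linear_combination 2 * r.k * r.k * hr
    | linear_combination -2 * r.k * r.k * hr

theorem fg_sq : r.f * r.g * (r.f * r.g) = r.j := by
  have hf : r.f * r.f * (r.g * r.g) = 1 := by rw [r.f_sq, r.g_sq, r.j_sq]
  calc r.f * r.g * (r.f * r.g) = r.f * (r.g * r.f) * r.g := by group
    _ = r.f * r.j * r.f * r.g * r.g := by rw [r.g_f]; group
    _ = r.j * (r.f * r.f * (r.g * r.g)) := by rw [r.f_j]; group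
    _ = r.j := by rw [hf, mul_one]

theorem om_pow_val (n : ℕ) :
    ((r.om ^ n : GL (Fin 3) F) : Matrix (Fin 3) (Fin 3) F) = r.w ^ n • (1 : Matrix (Fin 3) (Fin 3) F) := by
  rw [Units.val_pow_eq_pow_val, r.om_val, smul_pow, one_pow]

theorem j_ne_scalar (c : F) : (r.j : Matrix (Fin 3) (Fin 3) F) ≠ c • (1 : Matrix (Fin 3) (Fin 3) F) := fun h => by
  have := congrFun (congrFun h 1) 2
  simp [Root.j] at this

theorem om_pow_three (k : ℕ) : (r.om ^ k) ^ 3 = 1 := by
  rw [← pow_mul, mul_comm, pow_mul, pow_three', r.om_cube, one_pow]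

theorem om_sq_one {k : ℕ} (h : r.om ^ k * r.om ^ k = 1) : r.om ^ k = 1 := by
  have := r.om_pow_three k
  rwa [pow_succ, sq, h, one_mul] at this

theorem om_pow_comm (k : ℕ) (g : GL (Fin 3) F) : r.om ^ k * g = g * r.om ^ k :=
  ((show Commute r.om g from r.om_comm g).pow_left k).eq

theorem om_mul_mul (k : ℕ) (a b : GL (Fin 3) F) : r.om ^ k * a * (r.om ^ k * b) = r.om ^ k * r.om ^ k * (a * b) := by
  rw [mul_assoc, ← mul_assoc a, ← r.om_pow_comm k a]
  simp only [mul_assoc]

theorem conj_x (k : ℕ) : r.y ^ k * r.x * (r.y ^ k)⁻¹ = r.om ^ k * r.x := by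
  have h := r.y_x_pow 1 k
  simp only [pow_one, one_mul] at h
  rw [h]
  group

end Root

/-- A group without elations containing the normaliser of the extraspecial group. -/
structure Six [Fintype F] (r : Root F) (p : ℕ) (M : Subgroup (GL (Fin 3) F)) : Prop where
  prime : p.Prime
  seven_le : 7 ≤ p
  charP : CharP F p
  le : M ≤ sl3 F
  noEl : NoElation M
  x_mem : r.x ∈ M
  y_mem : r.y ∈ M
  f_mem : r.f ∈ M
  g_mem : r.g ∈ M
  z_mem : ∀ e : Fˣ, (e : F) ^ 3 = r.w → scl e * r.s ∈ M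
  p_cent : ∀ u ∈ M, u ^ p = 1 → u ≠ 1 →
    (∀ a ∈ M ⊓ Subgroup.centralizer {u}, ∀ b ∈ M ⊓ Subgroup.centralizer {u}, a * b = b * a) ∧
      Nat.card (M ⊓ Subgroup.centralizer {u} : Subgroup (GL (Fin 3) F)) ≤ 3 * p

open Root (low)

variable [Fintype F] {r : Root F} {p : ℕ} {M : Subgroup (GL (Fin 3) F)}

/-- Over a field of prime order the structure needs only the generators. -/
theorem Six.of_prime (hp : p.Prime) (hcard : Fintype.card F = p) (hmod : p % 3 = 1) (hle : M ≤ sl3 F)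
    (hne : NoElation M) (hx : r.x ∈ M) (hy : r.y ∈ M) (hf : r.f ∈ M) (hg : r.g ∈ M)
    (hz : ∀ e : Fˣ, (e : F) ^ 3 = r.w → scl e * r.s ∈ M) : Six r p M := by
  have h7 : 7 ≤ p := by
    have := hp.two_le
    have : p ≠ 4 := fun h4 => by rw [h4] at hp; norm_num at hp
    omega
  obtain ⟨q, hq⟩ := CharP.exists F
  obtain ⟨n, hq', hn⟩ := FiniteField.card F q
  have hqn : p = q ^ (n : ℕ) := hcard.symm.trans hn
  have hn1 : (n : ℕ) = 1 := Nat.Prime.eq_one_of_pow (hqn ▸ hp)
  rw [hn1, pow_one] at hqn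
  subst hqn
  exact ⟨hp, h7, hq, hle, hne, hx, hy, hf, hg, hz, fun u hu hup hu1 =>
    ⟨(hne.p_centralizer hle hp hcard (by omega) hu hup hu1).1,
      (hne.p_centralizer hle hp hcard (by omega) hu hup hu1).2.2⟩⟩

theorem Six.j_mem (h : Six r p M) : r.j ∈ M := r.f_sq ▸ mul_mem h.f_mem h.f_mem

theorem Six.om_mem (h : Six r p M) : r.om ∈ M :=
  (Subgroup.closure_le _).2 (by rintro s (rfl | rfl); exacts [h.x_mem, h.y_mem]) r.om_mem

theorem Six.grp_le (h : Six r p M) : r.grp ≤ M :=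
  (Subgroup.closure_le _).2 (by rintro s (rfl | rfl); exacts [h.x_mem, h.y_mem])

variable (r M) in
/-- The centraliser of the involution. -/
abbrev Cent : Subgroup (r.comm r.ej) := M.subgroupOf (r.comm r.ej)

variable (r M) in
/-- Its image on the axis. -/
noncomputable abbrev Img : Subgroup (Matrix.ProjGenLinGroup (Fin 2) F) := (Cent r M).map (r.pr r.ej)

/-- An element of the centraliser. -/
def cm {c : GL (Fin 3) F} (hc : c ∈ M) (hj : c * r.j = r.j * c) : Cent r M :=
  ⟨⟨c, r.mem_comm_j.2 hj⟩, hc⟩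

variable (r M) in
/-- The projection. -/
noncomputable def im : Cent r M →* Img r M := (r.pr r.ej).subgroupMap (Cent r M)

theorem im_surj : Function.Surjective (im r M) := (r.pr r.ej).subgroupMap_surjective _

theorem im_val (c : Cent r M) : (im r M c : Matrix.ProjGenLinGroup (Fin 2) F) = r.pr r.ej c.1 := rfl

theorem im_eq_one {c : Cent r M} :
    im r M c = 1 ↔ ∃ b : F, low (Root.inFrame r.ej (c.1 : GL (Fin 3) F)) = b • (1 : Matrix (Fin 2) (Fin 2) F) := by
  refine Iff.trans ?_ (Root.pr_eq_one_iff (c := c.1))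
  rw [← im_val]
  exact ⟨fun h => by rw [h]; rfl, fun h => Subtype.ext h⟩

theorem Six.facts (h : Six r p M) : Facts (Img r M) := by
  haveI := Fact.mk h.prime
  haveI := h.charP
  exact h.noEl.facts_image p r r.ej

theorem Six.facts_u (h : Six r p M) : Facts ((M.subgroupOf (r.comm 1)).map (r.pr 1)) := by
  haveI := Fact.mk h.prime
  haveI := h.charP
  exact h.noEl.facts_image p r 1

/-- A root of unity of order dividing three is a power of `w`. -/
theorem Root.exists_pow (r : Root F) {c : F} (hc : c ^ 3 = 1) : ∃ k : ℕ, c = r.w ^ k := by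
  have hr := r.rel
  have : (c - 1) * ((c - r.w) * (c - r.w * r.w)) = 0 := by
    linear_combination hc + (-c * c + c * r.w) * hr + (-(1 : F) + c) * r.w_cube - c * (r.w - 1) * hr
  rcases mul_eq_zero.1 this with h | h
  · exact ⟨0, by rw [sub_eq_zero.1 h, pow_zero]⟩
  rcases mul_eq_zero.1 h with h | h
  · exact ⟨1, by rw [sub_eq_zero.1 h, pow_one]⟩
  · exact ⟨2, by rw [sub_eq_zero.1 h, sq]⟩

/-- A scalar element of determinant one. -/
theorem Six.eq_om_pow (h : Six r p M) {c : GL (Fin 3) F} (hc : c ∈ M) {b : F}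
    (hb : (c : Matrix (Fin 3) (Fin 3) F) = b • (1 : Matrix (Fin 3) (Fin 3) F)) : ∃ k : ℕ, c = r.om ^ k := by
  have hd : (c : Matrix (Fin 3) (Fin 3) F).det = 1 := congrArg Units.val (h.le hc)
  rw [hb, Matrix.det_smul, Matrix.det_one, mul_one, Fintype.card_fin] at hd
  obtain ⟨k, hk⟩ := r.exists_pow hd
  exact ⟨k, Units.ext (by rw [hb, r.om_pow_val, hk])⟩

/-- The kernel of the action on the axis. -/
theorem Six.kernel (h : Six r p M) {c : Cent r M} (hc : im r M c = 1) :
    ∃ k : ℕ, (c.1 : GL (Fin 3) F) = r.om ^ k ∨ (c.1 : GL (Fin 3) F) = r.om ^ k * r.j := by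
  obtain ⟨⟨c, hcj⟩, hcM⟩ := c
  obtain ⟨b, hb⟩ := im_eq_one.1 hc
  change c ∈ M at hcM
  show ∃ k : ℕ, c = r.om ^ k ∨ c = r.om ^ k * r.j
  change low (Root.inFrame r.ej c) = _ at hb
  obtain ⟨a1, a2, a3, a4⟩ := Root.inFrame_zero hcj
  obtain ⟨a, ha⟩ : ∃ a, Root.inFrame r.ej c 0 0 = a := ⟨_, rfl⟩
  have h2 := r.h2
  -- the element is a combination of one and the involution
  have hval : (c : Matrix (Fin 3) (Fin 3) F) =
      ((a + b) / 2) • (1 : Matrix (Fin 3) (Fin 3) F) + ((a - b) / 2) • (r.j : Matrix (Fin 3) (Fin 3) F) := by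
    have hB : Root.inFrame r.ej c = !![a, 0, 0; 0, b, 0; 0, 0, b] := by
      have b1 := congrFun (congrFun hb 0) 0
      have b2 := congrFun (congrFun hb 0) 1
      have b3 := congrFun (congrFun hb 1) 0
      have b4 := congrFun (congrFun hb 1) 1
      simp [low] at b1 b2 b3 b4
      ext i j
      fin_cases i <;> fin_cases j <;> simp [ha, a1, a2, a3, a4, b1, b2, b3, b4]
    have : c = r.ej * (r.ej⁻¹ * c * r.ej) * r.ej⁻¹ := by group
    rw [this, Units.val_mul, Units.val_mul, show ((r.ej⁻¹ * c * r.ej : GL (Fin 3) F) : Matrix _ _ F) =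
      Root.inFrame r.ej c from rfl, hB,
      show ((r.ej⁻¹ : GL (Fin 3) F) : Matrix (Fin 3) (Fin 3) F) =
        !![0, 2⁻¹, -2⁻¹; 1, 0, 0; 0, 2⁻¹, 2⁻¹] from rfl]
    ext i j
    fin_cases i <;> fin_cases j <;> simp [Root.ej, Root.j, Matrix.mul_apply, Fin.sum_univ_three] <;>
      first | ring1 | (field_simp; ring1)
  obtain ⟨s, hs⟩ : ∃ s, (a + b) / 2 = s := ⟨_, rfl⟩
  obtain ⟨d, hd⟩ : ∃ d, (a - b) / 2 = d := ⟨_, rfl⟩
  rw [hs, hd] at hval
  have hju : r.j ∈ r.comm 1 := Root.mem_comm.2 (by simpa using r.j_u)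
  have hxu : r.x ∈ r.comm 1 := Root.mem_comm.2 (by simpa using r.x_u)
  have hcu : c ∈ r.comm 1 := Root.mem_comm.2 (by
    have := r.j_u
    refine Units.ext ?_
    simp only [one_mul, inv_one, mul_one, Units.val_mul, hval]
    have e := congrArg (fun g : GL (Fin 3) F => (g : Matrix (Fin 3) (Fin 3) F)) r.j_u
    simp only [Units.val_mul] at e
    rw [add_mul, mul_add, smul_mul_assoc, smul_mul_assoc, mul_smul_comm, mul_smul_comm, e, one_mul, mul_one])
  have hF := h.facts_u
  let K := M.subgroupOf (r.comm 1)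
  let ψ := (r.pr 1).subgroupMap K
  let X : K := ⟨⟨r.x, hxu⟩, h.x_mem⟩
  let J : K := ⟨⟨r.j, hju⟩, h.j_mem⟩
  let C : K := ⟨⟨c, hcu⟩, hcM⟩
  have hlow : ∀ k : K, ψ k = 1 ↔ ∃ b : F, low ((k.1 : GL (Fin 3) F) : Matrix (Fin 3) (Fin 3) F) =
      b • (1 : Matrix (Fin 2) (Fin 2) F) := fun k => by
    rw [← Subtype.coe_inj, show ((ψ k : (K.map (r.pr 1))) : Matrix.ProjGenLinGroup (Fin 2) F) = r.pr 1 k.1 from rfl]
    refine (Root.pr_eq_one_iff (c := k.1)).trans ?_
    rw [Root.lowHom_val, show Root.inFrame 1 (k.1 : GL (Fin 3) F) = ((k.1 : GL (Fin 3) F) : Matrix _ _ F) by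
      simp [Root.inFrame]]
  have hsq : ψ C * ψ C = 1 := by
    refine hF.inv (ψ X) (ψ J) (ψ C) ?_ ?_ ?_ ?_ ?_
    · rw [← map_mul, ← map_mul, show X * X * X = 1 from Subtype.ext (Subtype.ext r.x_cube), map_one]
    · rw [Ne, hlow]
      rintro ⟨b, hb⟩
      have h1 := congrFun (congrFun hb 0) 0
      have h2 := congrFun (congrFun hb 1) 1
      simp [X, low, Root.x] at h1 h2
      exact r.w_ne_one (mul_left_cancel₀ r.w_ne_zero (by linear_combination h2 - h1))
    · rw [← map_mul, show J * J = 1 from Subtype.ext (Subtype.ext r.j_sq), map_one]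
    · rw [← map_inv, ← map_mul, ← map_mul, ← map_mul]
      congr 1
      refine Subtype.ext (Subtype.ext ?_)
      show r.j * r.x * r.j⁻¹ = r.x * r.x
      rw [r.j_x, mul_inv_cancel_right]
      exact inv_eq_of_mul_eq_one_left r.x_cube
    · rw [← map_mul, ← map_mul]
      congr 1
      exact Subtype.ext (Subtype.ext (r.mem_comm_j.1 hcj))
  rw [← map_mul, hlow] at hsq
  obtain ⟨e, he⟩ := hsq
  have h01 := congrFun (congrFun he 0) 1
  simp [C, low, Units.val_mul, hval, Root.j, Matrix.mul_apply, Fin.sum_univ_three] at h01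
  have hsd : s * d = 0 := mul_left_cancel₀ h2 (by linear_combination -h01)
  rcases mul_eq_zero.1 hsd with hz | hz
  · obtain ⟨k, hk⟩ := h.eq_om_pow (mul_mem hcM h.j_mem) (b := d) (by
      rw [Units.val_mul, hval, hz, zero_smul, zero_add, smul_mul_assoc, ← Units.val_mul, r.j_sq, Units.val_one])
    exact ⟨k, .inr (by rw [← hk, mul_assoc, r.j_sq, mul_one])⟩
  · obtain ⟨k, hk⟩ := h.eq_om_pow hcM (b := s) (by rw [hval, hz, zero_smul, add_zero])
    exact ⟨k, .inl hk⟩

theorem im_j (h : Six r p M) : im r M (cm h.j_mem rfl) = 1 :=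
  im_eq_one.2 ⟨-1, by
    show low (Root.inFrame r.ej r.j) = _
    rw [r.frame_j]
    ext i j
    fin_cases i <;> fin_cases j <;> simp [low]⟩

theorem im_om_pow (h : Six r p M) (k : ℕ) :
    im r M (cm (pow_mem h.om_mem k) (r.om_pow_comm k r.j)) = 1 :=
  im_eq_one.2 ⟨r.w ^ k, by
    show low (Root.inFrame r.ej (r.om ^ k)) = _
    rw [Root.inFrame, mul_assoc, r.om_pow_comm k r.ej, inv_mul_cancel_left, r.om_pow_val]
    ext i j
    fin_cases i <;> fin_cases j <;> simp [low]⟩

/-- Square roots of the involution up to the kernel. -/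
theorem Six.ne_of_sq (h : Six r p M) {v q : Cent r M} (hv : (v.1 : GL (Fin 3) F) * v.1 = 1)
    (hq : (q.1 : GL (Fin 3) F) * q.1 = r.j) : im r M v ≠ im r M q := by
  intro he
  obtain ⟨k, hk⟩ := h.kernel (c := q⁻¹ * v) (by rw [map_mul, map_inv, he, inv_mul_cancel])
  have hqj : (q.1 : GL (Fin 3) F) * r.j = r.j * q.1 := by rw [← hq, mul_assoc]
  obtain ⟨t, ht, hvt⟩ : ∃ t : GL (Fin 3) F, (t = 1 ∨ t = r.j) ∧ (v.1 : GL (Fin 3) F) = q.1 * (r.om ^ k * t) := by
    rcases hk with hk | hk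
    · refine ⟨1, .inl rfl, ?_⟩
      rw [mul_one, ← hk]
      simp
    · refine ⟨r.j, .inr rfl, ?_⟩
      rw [← hk]
      simp
  rw [hvt] at hv
  have htq : (q.1 : GL (Fin 3) F) * t = t * q.1 := by rcases ht with rfl | rfl; exacts [by simp, hqj]
  have htt : t * t = 1 := by rcases ht with rfl | rfl; exacts [by simp, r.j_sq]
  have : r.j * (r.om ^ k * r.om ^ k) = 1 := by
    have hqt : (q.1 : GL (Fin 3) F) * t * (q.1 * t) = r.j := by
      calc (q.1 : GL (Fin 3) F) * t * (q.1 * t) = q.1 * (t * q.1) * t := by group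
        _ = q.1 * (q.1 * t) * t := by rw [htq]
        _ = q.1 * q.1 * (t * t) := by group
        _ = r.j := by rw [htt, mul_one, hq]
    rw [← mul_assoc (q.1 : GL (Fin 3) F), ← r.om_pow_comm k (q.1 : GL (Fin 3) F), mul_assoc (r.om ^ k),
      r.om_mul_mul, hqt] at hv
    rw [← hv, ← mul_assoc r.j, ← r.om_pow_comm k r.j, mul_assoc (r.om ^ k) r.j, ← r.om_pow_comm k r.j,
      mul_assoc]
  have e := congrArg (fun g : GL (Fin 3) F => (g : Matrix (Fin 3) (Fin 3) F) 1 2) this
  simp [← pow_add, r.om_pow_val, Root.j, r.w_ne_zero] at e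

/-- The four group on the axis. -/
theorem Six.klein (h : Six r p M) :
    ∃ a b : Cent r M, (a.1 : GL (Fin 3) F) * a.1 = r.j ∧ (b.1 : GL (Fin 3) F) * b.1 = r.j ∧
      ((a * b).1 : GL (Fin 3) F) * (a * b).1 = r.j ∧ im r M a * im r M a = 1 ∧ im r M a ≠ 1 ∧
      im r M b * im r M b = 1 ∧ im r M b ≠ 1 ∧ im r M a ≠ im r M b ∧ im r M a * im r M b = im r M b * im r M a ∧
      (a.1 : GL (Fin 3) F) = r.f ∧ (b.1 : GL (Fin 3) F) = r.g := by
  have hk : r.k ≠ 0 := inv_ne_zero r.sw_ne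
  refine ⟨cm h.f_mem r.f_j, cm h.g_mem r.g_j, r.f_sq, r.g_sq, r.fg_sq, ?_, ?_, ?_, ?_, ?_, ?_, rfl, rfl⟩
  · rw [← map_mul, show cm h.f_mem r.f_j * cm h.f_mem r.f_j = cm h.j_mem rfl from
      Subtype.ext (Subtype.ext r.f_sq), im_j h]
  · rw [Ne, im_eq_one]
    rintro ⟨b, hb⟩
    have := congrFun (congrFun hb 0) 1
    simp [cm, low, r.frame_f, hk, r.h2] at this
  · rw [← map_mul, show cm h.g_mem r.g_j * cm h.g_mem r.g_j = cm h.j_mem rfl from
      Subtype.ext (Subtype.ext r.g_sq), im_j h]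
  · rw [Ne, im_eq_one]
    rintro ⟨b, hb⟩
    have := congrFun (congrFun hb 0) 1
    simp [cm, low, r.frame_g, hk, r.h2, r.w_ne_zero] at this
  · intro he
    rw [← Subtype.coe_inj, im_val, im_val] at he
    obtain ⟨c, hc⟩ := Matrix.ProjGenLinGroup.mk_eq_mk_iff.1 he
    have hc' := congrArg (fun g : GL (Fin 2) F => (g : Matrix (Fin 2) (Fin 2) F)) hc
    have e0 := congrFun (congrFun hc' 0) 0
    have e1 := congrFun (congrFun hc' 0) 1
    simp [cm, Root.lowHom_val, low, r.frame_f, r.frame_g, Matrix.mul_apply, Fin.sum_univ_two] at e0 e1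
    have hc1 : (c : F) = 1 := mul_left_cancel₀ hk (by linear_combination e0)
    rcases e1 with e1 | e1 | e1
    · exact r.sq_ne_one (e1.symm.trans hc1)
    · exact r.h2 e1
    · exact hk e1
  · have : cm h.g_mem r.g_j * cm h.f_mem r.f_j =
        cm h.j_mem rfl * (cm h.f_mem r.f_j * cm h.g_mem r.g_j) := Subtype.ext (Subtype.ext r.g_f)
    rw [← map_mul, ← map_mul, this, map_mul _ (cm h.j_mem rfl), im_j h, one_mul]

theorem comm_two {U C : Matrix (Fin 2) (Fin 2) F} (hU : ∀ b : F, U ≠ b • 1) (h : C * U = U * C) :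
    ∃ a b : F, C = a • 1 + b • U := by
  have e00 := congrFun (congrFun h 0) 0
  have e01 := congrFun (congrFun h 0) 1
  have e10 := congrFun (congrFun h 1) 0
  simp [Matrix.mul_apply, Fin.sum_univ_two] at e00 e01 e10
  by_cases h01 : U 0 1 = 0
  · by_cases h10 : U 1 0 = 0
    · have hne : U 0 0 - U 1 1 ≠ 0 := fun h0 => hU (U 0 0) (by
        ext i j
        fin_cases i <;> fin_cases j <;> simp [h01, h10]
        linear_combination -h0)
      refine ⟨C 0 0 - (C 0 0 - C 1 1) / (U 0 0 - U 1 1) * U 0 0, (C 0 0 - C 1 1) / (U 0 0 - U 1 1), ?_⟩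
      have c01 : C 0 1 = 0 := mul_left_cancel₀ hne (by rw [mul_zero]; linear_combination -e01 + (C 0 0 - C 1 1) * h01)
      have c10 : C 1 0 = 0 := mul_left_cancel₀ hne (by rw [mul_zero]; linear_combination e10 + (C 0 0 - C 1 1) * h10)
      ext i j
      fin_cases i <;> fin_cases j <;> simp [h01, h10, c01, c10]
      field_simp
      ring
    · refine ⟨C 0 0 - C 1 0 / U 1 0 * U 0 0, C 1 0 / U 1 0, ?_⟩
      ext i j
      fin_cases i <;> fin_cases j <;> simp <;> field_simp
      · linear_combination e00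
      · linear_combination e10
  · refine ⟨C 0 0 - C 0 1 / U 0 1 * U 0 0, C 0 1 / U 0 1, ?_⟩
    ext i j
    fin_cases i <;> fin_cases j <;> simp <;> field_simp
    · linear_combination -e00
    · linear_combination -e01

/-- The centraliser of a further involution. -/
theorem Six.cent_invol (h : Six r p M) {u : Cent r M} (hu : (u.1 : GL (Fin 3) F) * u.1 = 1)
    (hu1 : (u.1 : GL (Fin 3) F) ≠ 1) (huj : (u.1 : GL (Fin 3) F) ≠ r.j) :
    (∀ c : Cent r M, c * u = u * c → im r M c = 1 ∨ im r M c = im r M u) ∧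
      (∃ y : Cent r M, y * u * y⁻¹ = cm h.j_mem rfl * u) := by
  have hne : im r M u ≠ 1 := by
    intro h0
    obtain ⟨k, hk | hk⟩ := h.kernel h0 <;> rw [hk] at hu hu1 huj
    · exact hu1 (r.om_sq_one hu)
    · have : r.om ^ k * r.om ^ k = 1 := by rwa [r.om_mul_mul, r.j_sq, mul_one] at hu
      exact huj (by rw [r.om_sq_one this, one_mul])
  have hU2 : im r M u * im r M u = 1 := by
    rw [← map_mul, show u * u = 1 from Subtype.ext (Subtype.ext hu), map_one]
  obtain ⟨a, b, ha, hb, hab, a1, a2, b1, b2, ab, cab, -, -⟩ := h.klein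
  have hnc : ∀ g : Img r M, g * im r M u * g⁻¹ ≠ im r M a ∧ g * im r M u * g⁻¹ ≠ im r M b ∧
      g * im r M u * g⁻¹ ≠ im r M a * im r M b := by
    intro g
    obtain ⟨t, rfl⟩ := im_surj g
    rw [← map_inv, ← map_mul, ← map_mul, ← map_mul]
    have hv : ((t * u * t⁻¹).1 : GL (Fin 3) F) * (t * u * t⁻¹).1 = 1 := by
      show (t.1 : GL (Fin 3) F) * u.1 * (t.1 : GL (Fin 3) F)⁻¹ * ((t.1 : GL (Fin 3) F) * u.1 * (t.1 : GL (Fin 3) F)⁻¹) = 1
      calc _ = (t.1 : GL (Fin 3) F) * ((u.1 : GL (Fin 3) F) * u.1) * (t.1 : GL (Fin 3) F)⁻¹ := by group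
        _ = 1 := by rw [hu, mul_one, mul_inv_cancel]
    exact ⟨h.ne_of_sq hv ha, h.ne_of_sq hv hb, h.ne_of_sq hv hab⟩
  obtain ⟨hc2, c0, hc0, hc01, hc0u⟩ := h.facts.klein _ _ _ a1 a2 b1 b2 ab cab hU2 hne hnc
  have hscal : ∀ b : F, low (Root.inFrame r.ej (u.1 : GL (Fin 3) F)) ≠ b • (1 : Matrix (Fin 2) (Fin 2) F) :=
    fun b hb => hne (im_eq_one.2 ⟨b, hb⟩)
  have first : ∀ c : Cent r M, c * u = u * c → im r M c = 1 ∨ im r M c = im r M u := by
    intro c hc
    have hcc := hc2 (im r M c) (by rw [← map_mul, ← map_mul, hc])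
    rw [← map_mul, im_eq_one] at hcc
    obtain ⟨d, hd⟩ := hcc
    set C := low (Root.inFrame r.ej (c.1 : GL (Fin 3) F))
    set U := low (Root.inFrame r.ej (u.1 : GL (Fin 3) F))
    have hCU : C * U = U * C := by
      have := congrArg (fun v : Cent r M => (r.lowHom r.ej v.1 : Matrix (Fin 2) (Fin 2) F)) hc
      simpa [Root.lowHom_val] using this
    have hUU : U * U = 1 := by
      have e : r.lowHom r.ej u.1 * r.lowHom r.ej u.1 = 1 := by
        rw [← map_mul, show u.1 * u.1 = 1 from Subtype.ext hu, map_one]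
      exact congrArg Units.val e
    have hCC : C * C = d • 1 := by
      rw [← hd]
      show C * C = low (Root.inFrame r.ej ((c * c).1 : GL (Fin 3) F))
      rw [← Root.lowHom_val, Subgroup.coe_mul, map_mul, Units.val_mul]
      rfl
    obtain ⟨α, β, hαβ⟩ := comm_two hscal hCU
    have h2ab : (2 * α * β) • U = (d - α * α - β * β) • (1 : Matrix (Fin 2) (Fin 2) F) := by
      rw [hαβ] at hCC
      simp only [add_mul, mul_add, smul_mul_assoc, mul_smul_comm, one_mul, mul_one, hUU, smul_smul] at hCC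
      rw [sub_smul, sub_smul, ← hCC]
      module
    have hzero : α * β = 0 := by
      by_contra hne'
      refine hscal ((2 * α * β)⁻¹ * (d - α * α - β * β)) ?_
      rw [← smul_smul, ← h2ab, smul_smul,
        inv_mul_cancel₀ (by rw [mul_assoc]; exact mul_ne_zero r.h2 hne'), one_smul]
    rcases mul_eq_zero.1 hzero with h0 | h0
    · right
      rw [h0, zero_smul, zero_add] at hαβ
      have : im r M (c * u) = 1 := im_eq_one.2 ⟨β, by
        show low (Root.inFrame r.ej ((c * u).1 : GL (Fin 3) F)) = _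
        rw [← Root.lowHom_val, Subgroup.coe_mul, map_mul, Units.val_mul, Root.lowHom_val, Root.lowHom_val]
        show C * U = _
        rw [hαβ, smul_mul_assoc, hUU]⟩
      rw [map_mul] at this
      rw [eq_inv_of_mul_eq_one_left this, inv_eq_of_mul_eq_one_right hU2]
    · left
      exact im_eq_one.2 ⟨α, show C = α • 1 by rw [hαβ, h0, zero_smul, add_zero]⟩
  refine ⟨first, ?_⟩
  obtain ⟨y, rfl⟩ := im_surj c0
  refine ⟨y, ?_⟩
  have hk : im r M (y * u * y⁻¹ * u⁻¹) = 1 := by
    rw [map_mul, map_mul, map_mul, map_inv, map_inv, hc0]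
    group
  have hsq' : ((y * u * y⁻¹).1 : GL (Fin 3) F) * (y * u * y⁻¹).1 = 1 := by
    show (y.1 : GL (Fin 3) F) * u.1 * (y.1 : GL (Fin 3) F)⁻¹ * ((y.1 : GL (Fin 3) F) * u.1 * (y.1 : GL (Fin 3) F)⁻¹) = 1
    calc _ = (y.1 : GL (Fin 3) F) * ((u.1 : GL (Fin 3) F) * u.1) * (y.1 : GL (Fin 3) F)⁻¹ := by group
      _ = 1 := by rw [hu, mul_one, mul_inv_cancel]
  have huJ : (u.1 : GL (Fin 3) F) * r.j = r.j * u.1 := r.mem_comm_j.1 u.1.2
  obtain ⟨k, hk' | hk'⟩ := h.kernel hk
  · exfalso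
    have hv : ((y * u * y⁻¹).1 : GL (Fin 3) F) = r.om ^ k * u.1 := by rw [← hk']; simp
    rw [hv] at hsq'
    have h1 : r.om ^ k * r.om ^ k = 1 := by rwa [r.om_mul_mul, hu, mul_one] at hsq'
    rw [r.om_sq_one h1, one_mul] at hv
    have hyu : y * u = u * y := mul_inv_eq_iff_eq_mul.1 (Subtype.ext (Subtype.ext hv))
    rcases first y hyu with h' | h'
    · exact hc01 h'
    · exact hc0u h'
  · have hv : ((y * u * y⁻¹).1 : GL (Fin 3) F) = r.om ^ k * r.j * u.1 := by rw [← hk']; simp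
    rw [hv] at hsq'
    have h1 : r.om ^ k * r.om ^ k = 1 := by
      have e : r.j * (u.1 : GL (Fin 3) F) * (r.j * u.1) = 1 := by
        calc r.j * (u.1 : GL (Fin 3) F) * (r.j * u.1) = (u.1 : GL (Fin 3) F) * r.j * (r.j * u.1) := by rw [huJ]
          _ = (u.1 : GL (Fin 3) F) * (r.j * r.j) * u.1 := by group
          _ = 1 := by rw [r.j_sq, mul_one, hu]
      rwa [mul_assoc (r.om ^ k) r.j, r.om_mul_mul, e, mul_one] at hsq'
    rw [r.om_sq_one h1, one_mul] at hv
    exact Subtype.ext (Subtype.ext hv)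

/-- Two commuting elements, one an involution, in the centraliser. -/
theorem Six.cube_eq (h : Six r p M) {u c : GL (Fin 3) F} (hu : u ∈ M) (hc : c ∈ M) (huj : u * r.j = r.j * u)
    (hcj : c * r.j = r.j * c) (hu2 : u * u = 1) (hu1 : u ≠ 1) (hne : u ≠ r.j) (hcu : c * u = u * c)
    (hc3 : c * c * c = 1) : ∃ k : ℕ, c = r.om ^ k := by
  have h2 := (h.cent_invol (u := cm hu huj) hu2 hu1 hne).1 (cm hc hcj) (Subtype.ext (Subtype.ext hcu))
  have h3 : im r M (cm hc hcj) * im r M (cm hc hcj) * im r M (cm hc hcj) = 1 := by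
    rw [← map_mul, ← map_mul, show cm hc hcj * cm hc hcj * cm hc hcj = 1 from Subtype.ext (Subtype.ext hc3), map_one]
  have h1 : im r M (cm hc hcj) = 1 := by
    rcases h2 with h2 | h2
    · exact h2
    · rw [h2] at h3 ⊢
      rwa [← map_mul, show cm hu huj * cm hu huj = 1 from Subtype.ext (Subtype.ext hu2), map_one, one_mul] at h3
  obtain ⟨k, hk | hk⟩ := h.kernel h1
  · exact ⟨k, hk⟩
  · change c = _ at hk
    exfalso
    rw [hk] at hc3
    have hj : r.j = 1 := by
      rwa [r.om_mul_mul, r.j_sq, mul_one, ← mul_assoc, ← pow_three', r.om_pow_three, one_mul] at hc3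
    exact r.j_ne_scalar 1 (by rw [hj, Units.val_one, one_smul])

/-- The sign change is not in the group. -/
theorem Six.u_not_mem (h : Six r p M) : r.u ∉ M := by
  intro hu
  have hu1 : r.u ≠ 1 := fun e => by
    have := congrArg (fun g : GL (Fin 3) F => (g : Matrix (Fin 3) (Fin 3) F) 1 1) e
    simp [Root.u] at this
    exact r.h2 (by linear_combination -this)
  have huj : r.u ≠ r.j := fun e => by
    have := congrArg (fun g : GL (Fin 3) F => (g : Matrix (Fin 3) (Fin 3) F) 1 2) e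
    simp [Root.u, Root.j] at this
  obtain ⟨-, ⟨q, hq⟩⟩ := h.cent_invol (u := cm hu r.j_u.symm) r.u_sq hu1 huj
  have hq' : (q.1 : GL (Fin 3) F) * r.u * (q.1 : GL (Fin 3) F)⁻¹ = r.j * r.u :=
    congrArg (fun v : Cent r M => (v.1 : GL (Fin 3) F)) hq
  obtain ⟨u1, hu1d⟩ : ∃ v, r.y * r.u * r.y⁻¹ = v := ⟨_, rfl⟩
  have hu1M : u1 ∈ M := hu1d ▸ mul_mem (mul_mem h.y_mem hu) (inv_mem h.y_mem)
  have hsq1 : u1 * u1 = 1 := by
    rw [← hu1d]
    calc _ = r.y * (r.u * r.u) * r.y⁻¹ := by group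
      _ = 1 := by rw [r.u_sq, mul_one, mul_inv_cancel]
  have hval : (u1 : Matrix (Fin 3) (Fin 3) F) = !![-1, 0, 0; 0, -1, 0; 0, 0, 1] := by
    rw [← hu1d, Units.val_mul, Units.val_mul, show ((r.y⁻¹ : GL (Fin 3) F) : Matrix (Fin 3) (Fin 3) F) =
      !![0, 0, 1; 1, 0, 0; 0, 1, 0] from rfl]
    ext i j
    fin_cases i <;> fin_cases j <;> simp [Root.y, Root.u, Matrix.mul_apply, Fin.sum_univ_three]
  have hc1 : u1 * r.j * u1 = r.j * r.u := by
    refine Units.ext ?_
    simp only [Units.val_mul, hval]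
    ext i j
    fin_cases i <;> fin_cases j <;> simp [Root.j, Root.u, Matrix.mul_apply, Fin.sum_univ_three]
  have hu1u : u1 * r.u = r.u * u1 := by
    refine Units.ext ?_
    simp only [Units.val_mul, hval]
    ext i j
    fin_cases i <;> fin_cases j <;> simp [Root.u, Matrix.mul_apply, Fin.sum_univ_three]
  have hxu1 : r.x * u1 = u1 * r.x := by
    refine Units.ext ?_
    simp only [Units.val_mul, hval]
    ext i j
    fin_cases i <;> fin_cases j <;> simp [Root.x, Matrix.mul_apply, Fin.sum_univ_three]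
  obtain ⟨g, hgd⟩ : ∃ v, (q.1 : GL (Fin 3) F)⁻¹ * u1 = v := ⟨_, rfl⟩
  have hg : g * r.j * g⁻¹ = r.u := by
    rw [← hgd]
    calc (q.1 : GL (Fin 3) F)⁻¹ * u1 * r.j * ((q.1 : GL (Fin 3) F)⁻¹ * u1)⁻¹
        = (q.1 : GL (Fin 3) F)⁻¹ * (u1 * r.j * u1) * q.1 := by
          rw [mul_inv_rev, inv_eq_of_mul_eq_one_right hsq1, inv_inv]; group
      _ = r.u := by rw [hc1, ← hq']; group
  have hgM : g ∈ M := hgd ▸ mul_mem (inv_mem q.2) hu1M
  have hcomm : ∀ v, v * r.u = r.u * v → g⁻¹ * v * g * r.j = r.j * (g⁻¹ * v * g) := fun v hv => by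
    calc g⁻¹ * v * g * r.j = g⁻¹ * (v * (g * r.j * g⁻¹)) * g := by group
      _ = g⁻¹ * (g * r.j * g⁻¹ * v) * g := by rw [hg, hv]
      _ = _ := by group
  obtain ⟨k, hk⟩ := h.cube_eq (u := g⁻¹ * u1 * g) (c := g⁻¹ * r.x * g)
    (mul_mem (mul_mem (inv_mem hgM) hu1M) hgM) (mul_mem (mul_mem (inv_mem hgM) h.x_mem) hgM)
    (hcomm _ hu1u) (hcomm _ r.x_u)
    (by calc _ = g⁻¹ * (u1 * u1) * g := by group
          _ = 1 := by rw [hsq1, mul_one, inv_mul_cancel])
    (fun e => by
      have : u1 = 1 := by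
        calc u1 = g * (g⁻¹ * u1 * g) * g⁻¹ := by group
          _ = 1 := by rw [e, mul_one, mul_inv_cancel]
      have := congrArg (fun g : GL (Fin 3) F => (g : Matrix (Fin 3) (Fin 3) F) 0 0) this
      simp [hval] at this
      exact r.h2 (by linear_combination -this))
    (fun e => by
      have : u1 = r.u := by
        calc u1 = g * (g⁻¹ * u1 * g) * g⁻¹ := by group
          _ = r.u := by rw [e, hg]
      have := congrArg (fun g : GL (Fin 3) F => (g : Matrix (Fin 3) (Fin 3) F) 0 0) this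
      simp [hval, Root.u] at this
      exact r.h2 (by linear_combination -this))
    (by calc _ = g⁻¹ * (r.x * u1) * g := by group
          _ = _ := by rw [hxu1]; group)
    (by calc _ = g⁻¹ * (r.x * r.x * r.x) * g := by group
          _ = 1 := by rw [r.x_cube, mul_one, inv_mul_cancel])
  have hx : r.x = r.om ^ k := by
    calc r.x = g * (g⁻¹ * r.x * g) * g⁻¹ := by group
      _ = r.om ^ k := by rw [hk, ← r.om_pow_comm, mul_inv_cancel_right]
  have e1 := congrArg (fun g : GL (Fin 3) F => (g : Matrix (Fin 3) (Fin 3) F) 0 0) hx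
  have e2 := congrArg (fun g : GL (Fin 3) F => (g : Matrix (Fin 3) (Fin 3) F) 1 1) hx
  simp [r.om_pow_val, Root.x] at e1 e2
  exact r.w_ne_one (e2.trans e1.symm)

/-- The centraliser of the diagonal generator is diagonal. -/
theorem Root.diag_of_comm (r : Root F) {d : GL (Fin 3) F} (h : d * r.x = r.x * d) :
    (d : Matrix (Fin 3) (Fin 3) F) = Matrix.diagonal fun i => (d : Matrix (Fin 3) (Fin 3) F) i i := by
  ext i j
  rcases eq_or_ne i j with rfl | hij
  · simp
  rw [Matrix.diagonal_apply_ne _ hij]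
  have e := congrArg (fun z : GL (Fin 3) F => (z : Matrix (Fin 3) (Fin 3) F) i j) h
  fin_cases i <;> fin_cases j <;> first | exact absurd rfl hij | skip
  all_goals simp [Root.x, Matrix.mul_apply, Fin.sum_univ_three] at e ⊢
  all_goals
    by_contra hne
    first
    | exact r.w_ne_one (mul_left_cancel₀ hne (by linear_combination e))
    | exact r.w_ne_one (mul_left_cancel₀ hne (by linear_combination -e))
    | exact r.sq_ne_one (mul_left_cancel₀ hne (by linear_combination e))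
    | exact r.sq_ne_one (mul_left_cancel₀ hne (by linear_combination -e))
    | exact r.sw_ne (mul_left_cancel₀ hne (by linear_combination e))
    | exact r.sw_ne (mul_left_cancel₀ hne (by linear_combination -e))

/-- An involution of the group never centralises the diagonal generator. -/
theorem Six.no_invol_x (h : Six r p M) {v : GL (Fin 3) F} (hv : v ∈ M) (h2 : v * v = 1)
    (hc : v * r.x = r.x * v) : v = 1 := by
  have hd := r.diag_of_comm hc
  obtain ⟨t, ht⟩ : ∃ t, (fun i => (v : Matrix (Fin 3) (Fin 3) F) i i) = t := ⟨_, rfl⟩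
  rw [ht] at hd
  have hsq : ∀ i, t i = 1 ∨ t i = -1 := fun i => by
    have := congrArg (fun g : GL (Fin 3) F => (g : Matrix (Fin 3) (Fin 3) F) i i) h2
    simp [hd] at this
    exact mul_self_eq_one_iff.1 this
  have hdet : t 0 * t 1 * t 2 = 1 := by
    have : (v : Matrix (Fin 3) (Fin 3) F).det = 1 := congrArg Units.val (h.le hv)
    rwa [hd, Matrix.det_diagonal, Fin.prod_univ_three] at this
  have hne : (-1 : F) ≠ 1 := fun e => r.h2 (by linear_combination -e)
  have hu := h.u_not_mem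
  rcases hsq 0 with a | a <;> rcases hsq 1 with b | b <;> rcases hsq 2 with c | c <;> simp [a, b, c] at hdet <;>
    first
    | exact absurd hdet hne
    | (refine Units.ext ?_
       rw [hd]
       ext i j
       fin_cases i <;> fin_cases j <;> simp [a, b, c]
       done)
    | (exfalso
       refine hu ?_
       suffices hv' : r.u = v by rw [hv']; exact hv
       refine Units.ext ?_
       rw [hd]
       ext i j
       fin_cases i <;> fin_cases j <;> simp [Root.u, a, b, c]
       done)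
    | (exfalso
       refine hu ?_
       suffices hv' : r.u = r.y * v * r.y⁻¹ by rw [hv']; exact mul_mem (mul_mem h.y_mem hv) (inv_mem h.y_mem)
       refine Units.ext ?_
       rw [Units.val_mul, Units.val_mul, hd, show ((r.y⁻¹ : GL (Fin 3) F) : Matrix (Fin 3) (Fin 3) F) =
         !![0, 0, 1; 1, 0, 0; 0, 1, 0] from rfl]
       ext i j
       fin_cases i <;> fin_cases j <;> simp [Root.u, Root.y, Matrix.mul_apply, Matrix.vecMul_diagonal, Fin.sum_univ_three, a, b, c]
       done)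
    | (exfalso
       refine hu ?_
       suffices hv' : r.u = r.y⁻¹ * v * r.y by rw [hv']; exact mul_mem (mul_mem (inv_mem h.y_mem) hv) h.y_mem
       refine Units.ext ?_
       rw [Units.val_mul, Units.val_mul, hd, show ((r.y⁻¹ : GL (Fin 3) F) : Matrix (Fin 3) (Fin 3) F) =
         !![0, 0, 1; 1, 0, 0; 0, 1, 0] from rfl]
       ext i j
       fin_cases i <;> fin_cases j <;> simp [Root.u, Root.y, Matrix.mul_apply, Matrix.vecMul_diagonal, Fin.sum_univ_three, a, b, c]
       done)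

end CfsgLib.Dim3Max.Six
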