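import Cfsg.Agent.Lib.Dim3Max.Six.Setting
import Cfsg.Agent.Lib.Dim3Max.Six.Count

/-!
The elements of order the characteristic.
-/

set_option autoImplicit false
set_option linter.unusedSectionVars false
set_option linter.dupNamespace false
set_option linter.style.haveILetI false

namespace CfsgLib.Dim3Max.Six

open scoped Matrix MatrixGroups

universe u

variable {F : Type u} [Field F] [Fintype F] {r : Root F} {p : ℕ} {M : Subgroup (GL (Fin 3) F)}

instance : Finite (GL (Fin 3) F) := Finite.of_injective (fun g => (g : Matrix (Fin 3) (Fin 3) F)) Units.val_injective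

/-- The scalar element as an element of the group. -/
noncomputable def Six.om' (h : Six r p M) : M := ⟨r.om, h.om_mem⟩

theorem Six.orderOf_om' (h : Six r p M) : orderOf h.om' = 3 := by
  haveI : Fact (Nat.Prime 3) := ⟨Nat.prime_three⟩
  refine orderOf_eq_prime (Subtype.ext (by simp [Six.om', pow_three', r.om_cube])) fun he => ?_
  have := congrArg (fun g : M => ((g : GL (Fin 3) F) : Matrix (Fin 3) (Fin 3) F) 0 0) he
  simp [Six.om', r.om_val] at this
  exact r.w_ne_one this

theorem Six.twenty_four_dvd (h : Six r p M) : Nat.card r.grp ∣ Nat.card M :=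
  Subgroup.card_dvd_of_le h.grp_le

/-- The elements with cube of order the characteristic form the conjugates of a small normalised set. -/
theorem Six.unip (h : Six r p M) (hdvd : p ∣ Nat.card M) :
    ∃ (S : Set M) (e : ℕ), e ∣ p - 1 ∧ 0 < e ∧
      Nat.card (conjUnion S) * (3 * p * e) = Nat.card M * (3 * p - 3) ∧
      (∀ v : M, v ∈ conjUnion S ↔ v ^ (3 * p) = 1 ∧ v ^ 3 ≠ 1) ∧
      Nat.card M ≠ 3 * p * e ∧ (∀ v : M, p ∣ orderOf v → v ^ (3 * p) = 1 ∧ v ^ 3 ≠ 1) ∧
      (∃ d : ℕ, Nat.card M = 3 * p * e * d ∧ d % p = 1) ∧ ¬ p * p ∣ Nat.card M := by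
  classical
  haveI := Fact.mk h.prime
  haveI := h.charP
  have hp7 := h.seven_le
  have hp3 : p ≠ 3 := by omega
  obtain ⟨u, hu⟩ := exists_prime_orderOf_dvd_card' p hdvd
  have hup : (u : GL (Fin 3) F) ^ p = 1 := by
    have := congrArg Subtype.val (hu ▸ pow_orderOf_eq_one u)
    simpa using this
  have hu1 : (u : GL (Fin 3) F) ≠ 1 := fun e => by
    rw [show u = 1 from Subtype.ext e, orderOf_one] at hu
    omega
  -- the centraliser of an element of order p
  have key : ∀ w : M, (w : GL (Fin 3) F) ^ p = 1 → w ≠ 1 →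
      IsCyclic (Subgroup.centralizer ({w} : Set M)) ∧ Nat.card (Subgroup.centralizer ({w} : Set M)) = 3 * p := by
    intro w hwp hw1
    obtain ⟨hcomm, hle⟩ := h.p_cent _ w.2 hwp (fun e => hw1 (Subtype.ext e))
    set A := Subgroup.centralizer ({w} : Set M)
    have hAle : Nat.card A ≤ 3 * p := by
      refine le_trans ?_ hle
      refine Nat.card_le_card_of_injective (fun a : A => (⟨((a : M) : GL (Fin 3) F), (a : M).2,
        Subgroup.mem_centralizer_singleton_iff.2 (by
          simpa using congrArg Subtype.val (Subgroup.mem_centralizer_singleton_iff.1 a.2))⟩ :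
          (M ⊓ Subgroup.centralizer {(w : GL (Fin 3) F)} : Subgroup (GL (Fin 3) F)))) fun a b hab => ?_
      exact Subtype.ext (Subtype.ext (congrArg (fun t : (M ⊓ Subgroup.centralizer {(w : GL (Fin 3) F)} :
        Subgroup (GL (Fin 3) F)) => (t : GL (Fin 3) F)) hab))
    have hom : h.om' ∈ A := Subgroup.mem_centralizer_singleton_iff.2 (Subtype.ext (r.om_comm _))
    have hwo : orderOf w = p := orderOf_eq_prime (Subtype.ext (by simpa using hwp)) hw1
    have hcop : Nat.Coprime (orderOf h.om') (orderOf w) := by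
      rw [h.orderOf_om', hwo]
      exact (Nat.coprime_primes Nat.prime_three h.prime).2 (Ne.symm hp3)
    have hc : Commute h.om' w := Subtype.ext (r.om_comm _)
    have hord : orderOf (h.om' * w) = 3 * p := by
      rw [hc.orderOf_mul_eq_mul_orderOf_of_coprime hcop, h.orderOf_om', hwo]
    have hmem : h.om' * w ∈ A := mul_mem hom (Subgroup.mem_centralizer_singleton_iff.2 rfl)
    have hcard : Nat.card A = 3 * p := by
      refine le_antisymm hAle ?_
      rw [← hord]
      exact Nat.le_of_dvd Nat.card_pos (Subgroup.orderOf_dvd_natCard A hmem)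
    refine ⟨isCyclic_of_orderOf_eq_card ⟨_, hmem⟩ ?_, hcard⟩
    rw [Subgroup.orderOf_mk, hord, hcard]
  obtain ⟨hcyc, hAcard⟩ := key u hup (fun e => hu1 (by rw [e]; rfl))
  set A := Subgroup.centralizer ({u} : Set M) with hA
  haveI := hcyc
  -- the centraliser of an element of A with non-trivial cube
  have hpow : ∀ v ∈ A, v ^ (3 * p) = 1 := fun v hv => by
    have := congrArg Subtype.val (pow_card_eq_one' (x := (⟨v, hv⟩ : A)))
    rw [hAcard] at this
    simpa using this
  have hcent : ∀ v ∈ A, v ^ 3 ≠ 1 → ∀ c : M, c * v = v * c → c ∈ A := by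
    intro v hv hv3 c hc
    have hp' : ((v ^ 3 : M) : GL (Fin 3) F) ^ p = 1 := by
      rw [← SubmonoidClass.coe_pow, ← pow_mul, hpow v hv, OneMemClass.coe_one]
    obtain ⟨hcyc', hcard'⟩ := key _ hp' hv3
    have hle : A ≤ Subgroup.centralizer {v ^ 3} := fun a ha => by
      refine Subgroup.mem_centralizer_singleton_iff.2 ?_
      have : (⟨a, ha⟩ : A) * ⟨v, hv⟩ = ⟨v, hv⟩ * ⟨a, ha⟩ := (IsCyclic.commGroup (α := A)).mul_comm _ _
      exact (show Commute a v from congrArg Subtype.val this).pow_right 3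
    rw [Subgroup.eq_of_le_of_card_ge hle (by rw [hcard', hAcard])]
    exact Subgroup.mem_centralizer_singleton_iff.2 ((show Commute c v from hc).pow_right 3)
  set N := Subgroup.normalizer (A : Set M) with hN
  have hAN : A ≤ N := Subgroup.le_normalizer
  set S : Set M := {v | v ∈ A ∧ v ^ 3 ≠ 1} with hS
  have hScard : Nat.card S = 3 * p - 3 := by
    have e : Nat.card S = Nat.card {a : A | ¬ a ^ 3 = 1} := Nat.card_congr
      { toFun := fun v => ⟨⟨v.1, v.2.1⟩, fun e => v.2.2 (by simpa using congrArg Subtype.val e)⟩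
        invFun := fun a => ⟨a.1.1, a.1.2, fun e => a.2 (Subtype.ext (by simpa using e))⟩
        left_inv := fun v => rfl
        right_inv := fun a => rfl }
    have h3 : Nat.card {a : A | a ^ 3 = 1} = 3 := by
      letI := IsCyclic.commGroup (α := A)
      have := IsCyclic.card_powMonoidHom_ker (G := A) 3
      rw [hAcard, Nat.gcd_eq_right (dvd_mul_right 3 p)] at this
      exact this
    have hh : Nat.card {a : A | a ^ 3 = 1} + Nat.card {a : A | ¬ a ^ 3 = 1} = Nat.card A := by
      rw [Nat.card_coe_set_eq, Nat.card_coe_set_eq]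
      exact Set.ncard_add_ncard_compl {a : A | a ^ 3 = 1}
    omega
  -- automisers
  have hnu : ∀ g ∈ N, g ∈ Subgroup.normalizer ((Subgroup.zpowers u : Subgroup M) : Set M) := by
    intro g hg
    have hone : ∀ v : M, v ∈ A → v ^ p = 1 → v ∈ Subgroup.zpowers u := by
      intro v hv hvp
      have hcp : Nat.card {a : A | a ^ p = 1} = p := by
        letI := IsCyclic.commGroup (α := A)
        have := IsCyclic.card_powMonoidHom_ker (G := A) p
        rw [hAcard, Nat.gcd_eq_right (dvd_mul_left p 3)] at this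
        exact this
      let P : Set A := {a : A | a ^ p = 1}
      let Q : Set A := ((Subgroup.zpowers u).subgroupOf A : Subgroup A)
      have hQP : Q ⊆ P := fun a ha => by
        obtain ⟨n, hn⟩ := ha
        refine Subtype.ext ?_
        have hn' : u ^ n = (a : M) := hn
        rw [SubmonoidClass.coe_pow, OneMemClass.coe_one, ← hn', ← zpow_natCast, ← zpow_mul, mul_comm, zpow_mul,
          zpow_natCast, show u ^ p = 1 from Subtype.ext (by simpa using hup), one_zpow]
      have hQc : Q.ncard = p := by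
        rw [← Nat.card_coe_set_eq]
        show Nat.card ((Subgroup.zpowers u).subgroupOf A) = p
        rw [Nat.card_congr (Subgroup.subgroupOfEquivOfLe (H := Subgroup.zpowers u) (K := A)
          (Subgroup.zpowers_le.2 (Subgroup.mem_centralizer_singleton_iff.2 rfl))).toEquiv, Nat.card_zpowers, hu]
      have := Set.eq_of_subset_of_ncard_le hQP (by rw [hQc]; exact (Nat.card_coe_set_eq P).symm.trans hcp |>.le)
      have hvP : (⟨v, hv⟩ : A) ∈ P := Subtype.ext (by simpa using hvp)
      rw [← this] at hvP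
      exact hvP
    have hgu : g * u * g⁻¹ ∈ Subgroup.zpowers u :=
      hone _ ((Subgroup.mem_normalizer_iff.1 hg u).1 (Subgroup.mem_centralizer_singleton_iff.2 rfl))
        (by rw [conj_pow, show u ^ p = 1 from Subtype.ext (by simpa using hup), mul_one, mul_inv_cancel])
    have hle : (Subgroup.zpowers u).map (MulAut.conj g).toMonoidHom ≤ Subgroup.zpowers u := by
      rw [MonoidHom.map_zpowers, Subgroup.zpowers_le]; exact hgu
    have heq := Subgroup.eq_of_le_of_card_ge hle
      (le_of_eq (Subgroup.card_map_of_injective (MulAut.conj g).injective).symm)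
    refine Subgroup.mem_normalizer_iff.2 fun v => ⟨fun hv => heq ▸ ⟨v, hv, rfl⟩, fun hv => ?_⟩
    replace hv : g * v * g⁻¹ ∈ Subgroup.zpowers u := hv
    rw [← heq] at hv
    obtain ⟨v', hv', hvv⟩ := hv
    exact (MulAut.conj g).injective hvv ▸ hv'
  let φ : N →* MulAut (Subgroup.zpowers u) :=
    (Subgroup.zpowers u).normalizerMonoidHom.comp (Subgroup.inclusion hnu)
  have hker : φ.ker = A.subgroupOf N := by
    ext g
    have : g ∈ φ.ker ↔ Subgroup.inclusion hnu g ∈ (Subgroup.zpowers u).normalizerMonoidHom.ker := Iff.rfl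
    rw [this, Subgroup.normalizerMonoidHom_ker, Subgroup.mem_subgroupOf, Subgroup.mem_subgroupOf, hA]
    simp only [Subgroup.mem_centralizer_iff, Subgroup.coe_inclusion, SetLike.mem_coe, Set.mem_singleton_iff,
      forall_eq]
    refine ⟨fun hh => hh u (Subgroup.mem_zpowers u), ?_⟩
    rintro hh _ ⟨n, rfl⟩
    exact ((show Commute (g : M) u from hh.symm).zpow_right n).eq.symm
  set e := Nat.card φ.range with he
  have hNcard : Nat.card N = 3 * p * e := by
    rw [← Subgroup.index_mul_card φ.ker, Subgroup.index_ker, hker,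
      Nat.card_congr (Subgroup.subgroupOfEquivOfLe hAN).toEquiv, hAcard, mul_comm]
  have hedvd : e ∣ p - 1 := by
    haveI : IsCyclic (Subgroup.zpowers u) := inferInstance
    have := Subgroup.card_subgroup_dvd_card φ.range
    rwa [IsCyclic.card_mulAut, Nat.card_zpowers, hu, Nat.totient_prime h.prime] at this
  have hSS : ∀ g : M, ∀ s ∈ S, g * s * g⁻¹ ∈ S → g ∈ N := by
    intro g s hs hgs
    have hle : A.map (MulAut.conj g).toMonoidHom ≤ A := by
      rintro _ ⟨a, ha, rfl⟩
      refine hcent _ hgs.1 hgs.2 _ ?_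
      have : (⟨a, ha⟩ : A) * ⟨s, hs.1⟩ = ⟨s, hs.1⟩ * ⟨a, ha⟩ := (IsCyclic.commGroup (α := A)).mul_comm _ _
      have hc : a * s = s * a := congrArg Subtype.val this
      show g * a * g⁻¹ * (g * s * g⁻¹) = g * s * g⁻¹ * (g * a * g⁻¹)
      calc g * a * g⁻¹ * (g * s * g⁻¹) = g * (a * s) * g⁻¹ := by group
        _ = g * (s * a) * g⁻¹ := by rw [hc]
        _ = _ := by group
    have heq := Subgroup.eq_of_le_of_card_ge hle
      (le_of_eq (Subgroup.card_map_of_injective (MulAut.conj g).injective).symm)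
    refine Subgroup.mem_normalizer_iff.2 fun v => ⟨fun hv => heq ▸ ⟨v, hv, rfl⟩, fun hv => ?_⟩
    replace hv : g * v * g⁻¹ ∈ A := hv
    rw [← heq] at hv
    obtain ⟨v', hv', hvv⟩ := hv
    exact (MulAut.conj g).injective hvv ▸ hv'
  have hNS : ∀ n ∈ N, ∀ s ∈ S, n * s * n⁻¹ ∈ S := fun n hn s hs =>
    ⟨(Subgroup.mem_normalizer_iff.1 hn s).1 hs.1, by rw [conj_pow, Ne, conj_eq_one_iff]; exact hs.2⟩
  -- the Sylow subgroup
  obtain ⟨P, hP⟩ := (IsPGroup.of_card (p := p) (n := 1) (G := Subgroup.zpowers u)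
    (by rw [Nat.card_zpowers, hu, pow_one])).exists_le_sylow
  have hPA : (P : Subgroup M) ≤ A := by
    haveI : Nontrivial (P : Subgroup M) := by
      refine ⟨⟨⟨u, hP (Subgroup.mem_zpowers u)⟩, 1, fun e => hu1 ?_⟩⟩
      have := congrArg (fun t : (P : Subgroup M) => ((t : M) : GL (Fin 3) F)) e
      simpa using this
    haveI := P.isPGroup'.center_nontrivial
    obtain ⟨z, hz⟩ := exists_ne (1 : Subgroup.center (P : Subgroup M))
    have hzu : ((z : (P : Subgroup M)) : M) * u = u * ((z : (P : Subgroup M)) : M) :=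
      congrArg Subtype.val (Subgroup.mem_center_iff.1 z.2 ⟨u, hP (Subgroup.mem_zpowers u)⟩).symm
    have hz3 : ((z : (P : Subgroup M)) : M) ^ 3 ≠ 1 := fun hh => by
      obtain ⟨k, hk⟩ := P.isPGroup' (z : (P : Subgroup M))
      have hk' : ((z : (P : Subgroup M)) : M) ^ (p ^ k) = 1 := by simpa using congrArg Subtype.val hk
      have := pow_gcd_eq_one.2 (show ((z : (P : Subgroup M)) : M) ^ 3 = 1 ∧ _ from ⟨hh, hk'⟩)
      rw [Nat.Coprime.gcd_eq_one (Nat.Coprime.pow_right k
        ((Nat.coprime_primes Nat.prime_three h.prime).2 (Ne.symm hp3))), pow_one] at this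
      exact hz (Subtype.ext (Subtype.ext this))
    intro a ha
    exact hcent _ (Subgroup.mem_centralizer_singleton_iff.2 hzu) hz3 a
      (congrArg Subtype.val (Subgroup.mem_center_iff.1 z.2 ⟨a, ha⟩))
  have hPcard : Nat.card (P : Subgroup M) = p := by
    obtain ⟨k, hk⟩ := IsPGroup.iff_card.1 P.isPGroup'
    have hd1 := Subgroup.card_dvd_of_le hPA
    have hd2 := Subgroup.card_dvd_of_le hP
    rw [hAcard, hk] at hd1
    rw [Nat.card_zpowers, hu, hk] at hd2
    have hd3 : p ^ k ∣ p := ((Nat.Coprime.pow_left k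
      ((Nat.coprime_primes h.prime Nat.prime_three).2 hp3)).dvd_of_dvd_mul_left hd1)
    rw [hk]
    exact Nat.dvd_antisymm hd3 hd2
  have hPu : (P : Subgroup M) = Subgroup.zpowers u :=
    (Subgroup.eq_of_le_of_card_ge hP (by rw [hPcard, Nat.card_zpowers, hu])).symm
  have hNP : Subgroup.normalizer ((P : Subgroup M) : Set M) = N := by
    rw [hPu]
    refine le_antisymm (fun g hg => Subgroup.mem_normalizer_iff.2 fun v => ?_) hnu
    obtain ⟨n, hn⟩ := (Subgroup.mem_normalizer_iff.1 hg u).1 (Subgroup.mem_zpowers u)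
    obtain ⟨m, hm⟩ := (Subgroup.mem_normalizer_iff''.1 hg u).1 (Subgroup.mem_zpowers u)
    have hn' : u ^ n = g * u * g⁻¹ := hn
    have hm' : u ^ m = g⁻¹ * u * g := hm
    simp only [hA, Subgroup.mem_centralizer_singleton_iff]
    constructor
    · intro hv
      have hc : Commute v (g⁻¹ * u * g) := hm' ▸ Commute.zpow_right hv m
      calc g * v * g⁻¹ * u = g * (v * (g⁻¹ * u * g)) * g⁻¹ := by group
        _ = g * (g⁻¹ * u * g * v) * g⁻¹ := by rw [hc.eq]
        _ = _ := by group
    · intro hv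
      have hc : Commute (g * v * g⁻¹) (g * u * g⁻¹) := hn' ▸ Commute.zpow_right hv n
      calc v * u = g⁻¹ * ((g * v * g⁻¹) * (g * u * g⁻¹)) * g := by group
        _ = g⁻¹ * ((g * u * g⁻¹) * (g * v * g⁻¹)) * g := by rw [hc.eq]
        _ = u * v := by group
  refine ⟨S, e, hedvd, Nat.card_pos, ?_, fun v => ⟨?_, ?_⟩, fun hM => ?_, ?_, ?_, ?_⟩
  · have h1 := le_card_conjUnion S N hSS
    have h2 := card_conjUnion_le S N hNS
    rw [hNcard, hScard] at h1 h2
    exact le_antisymm h2 h1
  · rintro ⟨g, s, hs, rfl⟩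
    exact ⟨by rw [conj_pow, hpow s hs.1, mul_one, mul_inv_cancel], by rw [conj_pow, Ne, conj_eq_one_iff]; exact hs.2⟩
  · rintro ⟨hv1, hv3⟩
    obtain ⟨Q, hQ⟩ := (IsPGroup.of_card (p := p) (n := 1) (G := Subgroup.zpowers (v ^ 3)) (by
      rw [Nat.card_zpowers, pow_one]
      exact orderOf_eq_prime (by rw [← pow_mul]; exact hv1) hv3)).exists_le_sylow
    obtain ⟨g, hg⟩ := MulAction.exists_smul_eq M Q P
    have hmem : g * v ^ 3 * g⁻¹ ∈ A := by
      refine hPA ?_
      rw [← hg, Sylow.coe_subgroup_smul]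
      exact ⟨v ^ 3, hQ (Subgroup.mem_zpowers _), rfl⟩
    have h9 : (g * v ^ 3 * g⁻¹) ^ 3 ≠ 1 := fun hh => by
      rw [conj_pow, conj_eq_one_iff, ← pow_mul] at hh
      have := pow_gcd_eq_one.2 (show v ^ (3 * 3) = 1 ∧ _ from ⟨hh, hv1⟩)
      rw [show Nat.gcd (3 * 3) (3 * p) = 3 by
        rw [Nat.gcd_mul_left, Nat.Coprime.gcd_eq_one ((Nat.coprime_primes Nat.prime_three h.prime).2 (Ne.symm hp3))]] at this
      exact hv3 this
    refine mem_conjUnion_of_conj (g := g) (subset_conjUnion S ⟨hcent _ hmem h9 _ ?_, ?_⟩)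
    · rw [← conj_pow]
      exact (Commute.self_pow _ 3).eq
    · rwa [conj_pow, Ne, conj_eq_one_iff]
  · have htop : N = ⊤ := Subgroup.eq_top_of_card_eq N (by rw [hNcard, hM])
    obtain ⟨w, hw⟩ : ∃ w, ((u : GL (Fin 3) F) : Matrix (Fin 3) (Fin 3) F) - 1 = w := ⟨_, rfl⟩
    have hw3 : w ^ 3 = 0 := hw ▸ sub_one_cube_of_pow h.prime hup
    have hw2 : w * w ≠ 0 := fun h0 => hu1 (h.noEl.eq_one_of_sq u.2 (by rw [hw]; exact h0))
    obtain ⟨z, hz⟩ : ∃ z, (w * w) *ᵥ z ≠ 0 := by
      by_contra hcon
      push Not at hcon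
      exact hw2 (Matrix.toLin'.injective (LinearMap.ext fun z => by simpa using hcon z))
    set c := (w * w) *ᵥ z with hcd
    have hwc : w *ᵥ c = 0 := by
      rw [hcd, Matrix.mulVec_mulVec, ← pow_two, ← pow_succ', hw3, Matrix.zero_mulVec]
    have hline : ∀ v, w *ᵥ v = 0 → ∃ t : F, v = t • c := by
      intro v hv
      by_contra hcon
      push Not at hcon
      have hind : LinearIndependent F ![z, w *ᵥ z, c, v] := by
        rw [Fintype.linearIndependent_iff]
        intro g hg
        simp only [Fin.sum_univ_four, Matrix.cons_val_zero, Matrix.cons_val_one, Matrix.cons_val] at hg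
        have hzz : w *ᵥ (w *ᵥ z) = c := by rw [Matrix.mulVec_mulVec]
        have e1 := congrArg (w *ᵥ ·) hg
        simp only [Matrix.mulVec_add, Matrix.mulVec_smul, hwc, hv, hzz, smul_zero, add_zero,
          Matrix.mulVec_zero] at e1
        have e2 := congrArg (w *ᵥ ·) e1
        simp only [Matrix.mulVec_add, Matrix.mulVec_smul, hwc, hzz, smul_zero, add_zero, Matrix.mulVec_zero] at e2
        have g0 : g 0 = 0 := (smul_eq_zero.1 e2).resolve_right hz
        rw [g0, zero_smul, zero_add] at e1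
        have g1 : g 1 = 0 := (smul_eq_zero.1 e1).resolve_right hz
        rw [g0, g1, zero_smul, zero_smul, zero_add, zero_add] at hg
        have g3 : g 3 = 0 := by
          by_contra g3
          refine hcon (-((g 3)⁻¹ * g 2)) ?_
          have := congrArg ((g 3)⁻¹ • ·) hg
          simp only [smul_add, smul_smul, inv_mul_cancel₀ g3, one_smul, smul_zero] at this
          rw [neg_smul, eq_neg_iff_add_eq_zero, add_comm]
          exact this
        rw [g3, zero_smul, add_zero] at hg
        have g2 : g 2 = 0 := (smul_eq_zero.1 hg).resolve_right hz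
        intro i
        fin_cases i <;> assumption
      simpa using hind.fintype_card_le_finrank
    have heig : ∀ g ∈ M, ∃ t : F, (g : Matrix (Fin 3) (Fin 3) F) *ᵥ c = t • c := by
      intro g hg
      refine hline _ ?_
      have hconj := hnu ⟨g, hg⟩ (htop ▸ Subgroup.mem_top _)
      obtain ⟨n, hn⟩ := (mem_powers_iff_mem_zpowers.2 ((Subgroup.mem_normalizer_iff.1
        (inv_mem hconj) u).1 (Subgroup.mem_zpowers u)) :
          _ ∈ Submonoid.powers u)
      have hn' : (g : GL (Fin 3) F)⁻¹ * u * g = (u : GL (Fin 3) F) ^ n := by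
        simpa using (congrArg Subtype.val hn).symm
      have hfix : ∀ n : ℕ, (((u : GL (Fin 3) F) ^ n : GL (Fin 3) F) : Matrix (Fin 3) (Fin 3) F) *ᵥ c = c := by
        intro n
        induction n with
        | zero => simp
        | succ n ih =>
          rw [pow_succ', Units.val_mul, ← Matrix.mulVec_mulVec, ih]
          have := hwc
          rwa [← hw, Matrix.sub_mulVec, Matrix.one_mulVec, sub_eq_zero] at this
      have e : (u : GL (Fin 3) F) * g = g * (u : GL (Fin 3) F) ^ n := by rw [← hn']; group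
      rw [← hw, Matrix.sub_mulVec, Matrix.one_mulVec, Matrix.mulVec_mulVec, ← Units.val_mul, e, Units.val_mul,
        ← Matrix.mulVec_mulVec, hfix, sub_self]
    obtain ⟨a, ha⟩ := heig r.x h.x_mem
    obtain ⟨b, hb⟩ := heig r.y h.y_mem
    have a0 := congrFun ha 0
    have a1 := congrFun ha 1
    have b0 := congrFun hb 0
    have b1 := congrFun hb 1
    have b2 := congrFun hb 2
    simp [Root.x, Root.y, Matrix.mulVec, dotProduct, Fin.sum_univ_three] at a0 a1 b0 b1 b2
    have hc : c ≠ 0 := hz
    by_cases h0 : c 0 = 0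
    · exact hc (funext fun i => by
        fin_cases i
        · exact h0
        · simpa [h0] using b0
        · have e1 : c 1 = 0 := by simpa [h0] using b0
          simpa [e1] using b1)
    · have h1 : c 1 ≠ 0 := fun e1 => h0 (by
        have e2 : c 2 = 0 := by simpa [e1] using b1
        simpa [e2] using b2)
      have ea : a = 1 := mul_right_cancel₀ h0 (by linear_combination -a0)
      rw [ea] at a1
      exact a1.elim r.w_ne_one h1
  · intro v hv
    obtain ⟨a, ha⟩ := hv
    have ha0 : a ≠ 0 := fun e0 => by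
      have := orderOf_pos v
      rw [ha, e0, mul_zero] at this
      exact this.false
    have hw : orderOf (v ^ a) = p := by
      rw [orderOf_pow_of_dvd ha0 ⟨p, by rw [ha, mul_comm]⟩, ha, Nat.mul_div_cancel _ (Nat.pos_of_ne_zero ha0)]
    have hwp : (v ^ a : M) ^ p = 1 := hw ▸ pow_orderOf_eq_one _
    have hw1 : v ^ a ≠ 1 := fun e1 => by rw [e1, orderOf_one] at hw; omega
    obtain ⟨-, hcard⟩ := key (v ^ a) (by rw [← SubmonoidClass.coe_pow, hwp, OneMemClass.coe_one]) hw1
    have hd := Subgroup.orderOf_dvd_natCard _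
      (Subgroup.mem_centralizer_singleton_iff.2 (Commute.self_pow v a).eq)
    rw [hcard] at hd
    refine ⟨orderOf_dvd_iff_pow_eq_one.1 hd, fun h3 => hp3 ?_⟩
    exact (Nat.prime_dvd_prime_iff_eq h.prime Nat.prime_three).1
      ((dvd_mul_right p a).trans (ha ▸ orderOf_dvd_of_pow_eq_one h3))
  · refine ⟨N.index, ?_, ?_⟩
    · rw [← hNcard, Subgroup.card_mul_index]
    · have := card_sylow_modEq_one p M
      rw [Nat.ModEq, Nat.one_mod_eq_one.2 (by omega), P.card_eq_index_normalizer] at this
      rw [← hNP]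
      exact this
  · rintro ⟨c, hc⟩
    have := P.not_dvd_index
    refine this ?_
    have hi := Subgroup.card_mul_index (P : Subgroup M)
    rw [hPcard, hc, mul_assoc] at hi
    exact ⟨c, Nat.eq_of_mul_eq_mul_left h.prime.pos hi⟩

end CfsgLib.Dim3Max.Six
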